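import Mathlib
import Cfsg.Agent.H1.MlD
import Cfsg.Agent.Eqn.Cfsg_Agent_H1_ML_dl

/-!
# The first limit of `Hom(P/A, B)` vanishes (project ML, piece HOM)
-/

set_option autoImplicit false

namespace Cfsg.Agent.H28.MlH

open Subgroup MulAction Cfsg.Agent.H1.ML

universe u

variable {G X B : Type*} [Group G] [MulAction G X] [AddCommGroup B]

theorem exists_rep (K : Subgroup G) : ∃ (o : X → X) (r : X → G), (∀ y, r y ∈ K) ∧
    (∀ y, r y • o y = y) ∧ ∀ g ∈ K, ∀ y, o (g • y) = o y := by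
  let o : X → X := fun y => (Quotient.mk (orbitRel K X) y).out
  have h : ∀ y, ∃ g ∈ K, g • o y = y := fun y => by
    obtain ⟨g, hg⟩ : y ∈ orbit K (o y) :=
      orbitRel_apply.1 (Quotient.exact (Quotient.out_eq (Quotient.mk (orbitRel K X) y)).symm)
    exact ⟨g, g.2, hg⟩
  choose r h1 h2 using h
  exact ⟨o, r, h1, h2, fun g hg y => congrArg Quotient.out
    (Quotient.sound (orbitRel_apply.2 ⟨⟨g, hg⟩, rfl⟩))⟩

/-- groupoid cocycles -/
def Coc (K : Subgroup G) (c : G → X → B) : Prop :=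
  ∀ g ∈ K, ∀ g' ∈ K, ∀ y, c (g * g') y = c g (g' • y) + c g' y

theorem Coc.sum_eq_zero [Fintype X] {K : Subgroup G} {c : G → X → B} (h : Coc K c)
    (h0 : ∀ g ∈ K, ∀ y, g • y = y → c g y = 0) {g : G} (hg : g ∈ K) : ∑ y, c g y = 0 := by
  obtain ⟨o, r, h1, h2, h3⟩ := exists_rep (X := X) K
  have key : ∀ y, c g y = c (r (g • y)) (o (g • y)) - c (r y) (o y) := fun y => by
    have m : (r (g • y))⁻¹ * g * r y ∈ K := mul_mem (mul_mem (inv_mem (h1 _)) hg) (h1 y)
    have e : ((r (g • y))⁻¹ * g * r y) • o y = o y := by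
      rw [mul_smul, mul_smul, h2, inv_smul_eq_iff, ← h3 g hg y, h2]
    have a1 := h g hg _ (h1 y) (o y)
    have a2 := h _ (h1 (g • y)) _ m (o y)
    rw [e, h0 _ m _ e, add_zero,
      show r (g • y) * ((r (g • y))⁻¹ * g * r y) = g * r y by group, a1, h2] at a2
    rw [h3 g hg, ← a2, add_sub_cancel_right]
  simp only [key]
  rw [Finset.sum_sub_distrib, sub_eq_zero]
  exact Equiv.sum_comp (toPerm g) fun y => c (r y) (o y)

theorem exists_coc (K : Subgroup G) (φ : X → G → B)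
    (h1 : ∀ y, ∀ g ∈ K, ∀ g' ∈ K, g • y = y → g' • y = y → φ y (g * g') = φ y g + φ y g')
    (h2 : ∀ y, ∀ k ∈ K, ∀ g ∈ K, g • k • y = k • y → φ y (k⁻¹ * g * k) = φ (k • y) g) :
    ∃ c : G → X → B, Coc K c ∧ ∀ g ∈ K, ∀ y, g • y = y → c g y = φ y g := by
  obtain ⟨o, r, a1, a2, a3⟩ := exists_rep (X := X) K
  have m : ∀ g ∈ K, ∀ y, (r (g • y))⁻¹ * g * r y ∈ K := fun g hg y =>
    mul_mem (mul_mem (inv_mem (a1 _)) hg) (a1 y)
  have e : ∀ g ∈ K, ∀ y, ((r (g • y))⁻¹ * g * r y) • o y = o y := fun g hg y => by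
    rw [mul_smul, mul_smul, a2, inv_smul_eq_iff, ← a3 g hg y, a2]
  refine ⟨fun g y => φ (o y) ((r (g • y))⁻¹ * g * r y), fun g hg g' hg' y => ?_,
    fun g hg y hy => ?_⟩
  · have e1 := e g hg (g' • y)
    rw [a3 g' hg'] at e1
    beta_reduce
    rw [a3 g' hg', ← h1 _ _ (m g hg _) _ (m g' hg' _) e1 (e g' hg' y), mul_smul]
    congr 1
    group
  · beta_reduce
    rw [hy, h2 _ _ (a1 y) g hg (by rw [a2, hy]), a2]

theorem homStmt : HomStmt.{u} := by
  classical
  intro G X B _ _ _ _ p hp S ⟨k, hk⟩ A _ hA f hf hd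
  obtain ⟨x₀⟩ := S.ne
  have : IsPretransitive G X := ⟨S.tr⟩
  have : Finite X := Finite.of_surjective (fun g : G => g • x₀) (S.tr x₀)
  let _ : Fintype X := Fintype.ofFinite X
  obtain ⟨n, hn⟩ : ∃ n : ℕ, ∀ b : B, n • Fintype.card X • b = b := by
    have h1 := (S.syl x₀).coprime_relIndex
    rw [relIndex_top_right, index_stabilizer_of_transitive, Nat.card_eq_fintype_card] at h1
    obtain ⟨n, d, e⟩ : ∃ n d : ℕ, n * Fintype.card X = 1 + d * p ^ k := by
      have h2 := Nat.ModEq.pow_totient (h1.pow_right k)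
      have h3 : 0 < (p ^ k).totient := Nat.totient_pos.2 (pow_pos hp.out.pos k)
      obtain ⟨d, hd⟩ := (Nat.modEq_iff_dvd' (Nat.one_le_pow _ _ (Fintype.card_pos_iff.2 ⟨x₀⟩))).1
        h2.symm
      refine ⟨Fintype.card X ^ ((p ^ k).totient - 1), d, ?_⟩
      rw [← pow_succ, Nat.sub_add_cancel h3, mul_comm d, ← hd,
        Nat.add_sub_cancel' (Nat.one_le_pow _ _ (Fintype.card_pos_iff.2 ⟨x₀⟩))]
    exact ⟨n, fun b => by rw [← mul_nsmul', e, add_nsmul, one_nsmul, mul_nsmul', hk, nsmul_zero,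
      add_zero]⟩
  have m2 : ∀ {x y : X} {g : G}, g • x = x → g • y = y → g ∈ St (⊤ : Subgroup G) [x, y] :=
    fun h1 h2 => mem_St.2 ⟨trivial, by simp [h1, h2]⟩
  have tH : ∀ {x y : X} {g g' : G}, g • x = x → g • y = y → g' • x = x → g' • y = y →
      ev (g * g') (f [x, y]) = ev g (f [x, y]) + ev g' (f [x, y]) := fun {x y g g'} h1 h2 h3 h4 =>
    ((hf [x, y] rfl).mem trivial).1 g (m2 h1 h2) g' (m2 h3 h4)
  have tE : ∀ (x y : X) (a g : G), g • a • x = a • x → g • a • y = a • y →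
      ev (a⁻¹ * g * a) (f [x, y]) = ev g (f [a • x, a • y]) := fun x y a g h1 h2 => by
    have := (hf [x, y] rfl).eqv trivial a trivial g (m2 h1 h2)
    rw [map_sub, ev_smul, sub_eq_zero] at this
    exact this
  have tC : ∀ {x y z : X} {g : G}, g • x = x → g • y = y → g • z = z →
      ev g (f [x, z]) = ev g (f [x, y]) + ev g (f [y, z]) := fun {x y z g} h1 h2 h3 => by
    have := hd [x, y, z] rfl trivial g (mem_St.2 ⟨trivial, by simp [h1, h2, h3]⟩)
    simp only [dl, map_sub, sub_zero] at this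
    rw [sub_eq_zero, eq_sub_iff_add_eq, add_comm] at this
    exact this.symm
  have ex : ∀ x : X, ∃ c : G → X → B, Coc (stabilizer G x) c ∧
      ∀ g ∈ stabilizer G x, ∀ y, g • y = y → c g y = ev g (f [y, x]) := fun x =>
    exists_coc _ (fun y g => ev g (f [y, x])) (fun y g hg g' hg' h1 h2 => tH h1 hg h2 hg')
      fun y a ha g hg h => by
        have ha' : a • x = x := ha
        have := tE y x a g h (by rw [ha']; exact hg)
        rwa [ha'] at this
  choose c c1 c2 using ex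
  have m1 : ∀ {x : X} {g : G}, g ∈ St (⊤ : Subgroup G) [x] → g • x = x := fun h =>
    (mem_St.1 h).2 _ (by simp)
  refine ⟨fun l => match l with
    | [x] => fa fun g => n • ∑ y, c x g y
    | _ => 0, fun l hl => ?_, fun l hl _ => ?_⟩
  · obtain ⟨x, rfl⟩ := List.length_eq_one_iff.1 (Nat.succ_injective hl)
    refine ⟨fun _ => ⟨fun g hg g' hg' => ?_, fun a ha => ?_⟩, fun _ a _ g hg => ?_,
      fun h => absurd trivial h⟩
    · simp only [ev_fa]
      rw [← nsmul_add, ← Equiv.sum_comp (toPerm g') (c x g), ← Finset.sum_add_distrib]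
      exact congrArg _ (Finset.sum_congr rfl fun y _ => c1 x g (m1 hg) g' (m1 hg') y)
    · simp only [ev_fa]
      rw [Finset.sum_eq_zero fun y _ => (c2 x a (hA a ha x) y (hA a ha y)).trans
        (((hf [y, x] rfl).mem trivial).2 a ha), nsmul_zero]
    · have cj : ∀ g : G, g • a • x = a • x → (a⁻¹ * g * a) • x = x := fun g h => by
        rw [mul_smul, mul_smul, h, inv_smul_smul]
      have h := Coc.sum_eq_zero (K := stabilizer G (a • x))
        (c := fun g y => c x (a⁻¹ * g * a) (a⁻¹ • y) - c (a • x) g y) (fun g hg g' hg' y => by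
          beta_reduce
          rw [show a⁻¹ * (g * g') * a = (a⁻¹ * g * a) * (a⁻¹ * g' * a) by group,
            c1 x _ (cj g hg) _ (cj g' hg'), c1 _ g hg g' hg', mul_smul, smul_inv_smul, mul_smul]
          abel) (fun g hg y hy => by
          beta_reduce
          rw [c2 x _ (cj g hg) _ (by rw [mul_smul, smul_inv_smul, mul_smul, hy]), c2 _ g hg y hy,
            tE _ _ a g (by rw [smul_inv_smul, hy]) hg, smul_inv_smul, sub_self]) (m1 hg)
      rw [Finset.sum_sub_distrib, sub_eq_zero] at h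
      rw [map_sub, ev_smul, sub_eq_zero]
      change n • ∑ y, c x (a⁻¹ * g * a) y = n • ∑ y, c (a • x) g y
      rw [← h]
      exact congrArg _ (Equiv.sum_comp (toPerm a⁻¹) (c x (a⁻¹ * g * a))).symm
  · obtain ⟨x, z, rfl⟩ := List.length_eq_two.1 hl
    intro g hg
    have ms : ∀ {g : G}, g ∈ St (⊤ : Subgroup G) [x, z] → g • x = x ∧ g • z = z := fun h =>
      ⟨(mem_St.1 h).2 _ (by simp), (mem_St.1 h).2 _ (by simp)⟩
    have h := Coc.sum_eq_zero (K := St (⊤ : Subgroup G) [x, z])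
      (c := fun g y => c z g y - c x g y - ev g (f [x, z])) (fun g hg g' hg' y => by
        beta_reduce
        rw [c1 x g (ms hg).1 g' (ms hg').1, c1 z g (ms hg).2 g' (ms hg').2,
          tH (ms hg).1 (ms hg).2 (ms hg').1 (ms hg').2]
        abel) (fun g hg y hy => by
        beta_reduce
        rw [c2 x g (ms hg).1 y hy, c2 z g (ms hg).2 y hy, tC hy (ms hg).1 (ms hg).2]
        abel) hg
    rw [Finset.sum_sub_distrib, Finset.sum_sub_distrib, Finset.sum_const, Finset.card_univ,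
      sub_eq_zero] at h
    simp only [dl, map_sub, sub_zero, ev_fa]
    rw [← nsmul_sub, h, hn, sub_self]

end Cfsg.Agent.H28.MlH
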