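import Mathlib
import Cfsg.Agent.H28.TMonB

/-! The groups `G(a,a,3)` do not occur in quasisimple groups with transvections. -/

set_option autoImplicit false

namespace Cfsg.Agent.H28.TMon

open Matrix Cfsg.Geo H26 H25 H25.L45

universe u

variable {F : Type u} [Field F] {n : ℕ} {P : Subgroup (GL (Fin n) F)}

theorem Du.ne {p q : Pt F n} (h : Du p q) : p ≠ q := fun e =>
  zero_ne_one (h.pq.symm.trans (e ▸ h.pp))

theorem three_ne {α : Type*} {p q r : α} (h1 : p ≠ q) (h2 : p ≠ r) (h3 : q ≠ r) (a b : α) :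
    (a ≠ p ∧ b ≠ p) ∨ (a ≠ q ∧ b ≠ q) ∨ (a ≠ r ∧ b ≠ r) := by grind

theorem tv_scal {v φ : Fin n → F} {a a' : F} (e : a * a' = 1) (h : Tv P v φ) :
    Tv P (a' • v) (a • φ) := by
  rwa [Tv.smul_iff, smul_smul, mul_comm, e, one_smul]

theorem isMon_of {A : Matrix (Fin n) (Fin n) F} (σ : Equiv.Perm (Fin n))
    (h : ∀ j k, j ≠ σ k → A j k = 0) : IsMon A :=
  ⟨σ, fun k => A (σ k) k, fun j k => by split_ifs with e; exacts [by rw [e], h j k e]⟩

/-- the monomial matrices in a basis -/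
def monG [Finite F] (C : GL (Fin n) F) : Subgroup (GL (Fin n) F) :=
  let M : Submonoid (GL (Fin n) F) :=
    { carrier := {g | IsMon (L45.cj C⁻¹ g.1)}
      one_mem' := isMon_of 1 fun j k e => by simpa [L45.cj] using one_apply_ne (show j ≠ k from e)
      mul_mem' := by
        rintro a b ⟨σ, d, ha⟩ ⟨τ, e, hb⟩
        refine isMon_of (σ * τ) fun j k n => ?_
        rw [Units.val_mul, L45.cj_mul, mul_apply]
        refine Finset.sum_eq_zero fun l _ => ?_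
        rw [ha, hb]
        split_ifs with e1 e2 <;> simp
        exact absurd (e1.trans (congrArg σ e2)) n }
  { M with
    inv_mem' := fun {g} hg => Submonoid.powers_le.2 (show g ∈ M from hg)
      (mem_powers_iff_mem_zpowers.2 (inv_mem (Subgroup.mem_zpowers g))) }

theorem tmon (T3 : T3Stmt.{u}) (T9 : TS9Stmt.{u}) : TMonStmt.{u} := by
  intro F _ _ n P h t hS u θ v φ w ψ h1 h2 h3 ht
  by_contra hc
  obtain ⟨c0, c1⟩ := not_or.1 hc
  obtain ⟨p, q, r₀, pq, qr, pr, α, α', β, β', γ, γ', hα, hβ, hγ, rfl, rfl, rfl, rfl, rfl, rfl⟩ :=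
    m3 T3 T9 h t hS h1 h2 h3 ht c0 c1
  have hT := ts t hS
  simp only [add_dotProduct, dotProduct_add, smul_dotProduct, dotProduct_smul, smul_eq_mul, pq.pp,
    pq.pq, pq.qp, pq.qq] at c0 c1
  obtain ⟨d, hd⟩ : ∃ d, d = α' * β := ⟨_, rfl⟩
  have d0 : d ≠ 0 := by grind
  have d1 : d ≠ 1 := by grind
  have d3 : d * d + d + 1 ≠ 0 := by grind
  have di : d⁻¹ = α * β' := inv_eq_of_mul_eq_one_right (by grind)
  let r : Pt F n := (γ' • r₀.1, γ • r₀.2)
  have du : ∀ s, Du s r₀ → Du s r := fun s a =>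
    ⟨a.pp, by simp [r, a.qq, mul_comm γ', hγ], by simp [r, a.pq], by simp [r, a.qp]⟩
  have s1 : Sw (Tv P) p q 1 := by simpa [Sw] using h1
  have s2 : Sw (Tv P) p q d := by
    simpa [Sw, di, ← hd, smul_smul, hα, mul_comm α' α] using tv_scal hα h2
  have s3 : Sw (Tv P) p r 1 := by
    simpa [Sw, r, smul_smul, hγ, mul_comm γ' γ] using tv_scal hγ h3
  have f0 : Fr (Tv P) d (insert r {p, q}) := hT.fr_insert d0 (hT.fr_pair d0 pq
    (hT.sw_zpow d0 pq (du q qr) (du p pr) s1 s2 s3)) (Or.inl rfl) (Or.inr rfl) pq.ne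
    (by rintro s (rfl | rfl); exacts [du _ pr, du _ qr]) s3
  obtain ⟨S, hle, hS0, hmax⟩ := Finite.exists_le_maximal (p := Fr (Tv P) d) f0
  have mp : p ∈ S := hle (by simp)
  have mq : q ∈ S := hle (by simp)
  have mr : r ∈ S := hle (by simp)
  have th : ∀ a b : Pt F n, ∃ c ∈ S, a ≠ c ∧ b ≠ c := fun a b => by
    rcases three_ne pq.ne (du p pr).ne (du q qr).ne a b with e | e | e
    exacts [⟨p, mp, e⟩, ⟨q, mq, e⟩, ⟨r, mr, e⟩]
  have hM := lemM T3 T9 h t hS d0 d1 d3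
  have K : ∀ v φ, TT P v φ → ∀ a ∈ S, φ ⬝ᵥ a.1 ≠ 0 → (a.2 ⬝ᵥ v) * (φ ⬝ᵥ a.1) = 1 ∧ ∃ b ∈ S, a ≠ b ∧
      (b.2 ⬝ᵥ v) * (φ ⬝ᵥ b.1) = 1 ∧ v = (a.2 ⬝ᵥ v) • a.1 + (b.2 ⬝ᵥ v) • b.1 ∧
      ∀ c ∈ S, c ≠ a → c ≠ b → c.2 ⬝ᵥ v = 0 ∧ φ ⬝ᵥ c.1 = 0 := by
    intro v φ ⟨v0, φ0, hv⟩ a ha e
    have cl : ∀ a ∈ S, (a.2 ⬝ᵥ v = 0 ∧ φ ⬝ᵥ a.1 = 0) ∨ (a.2 ⬝ᵥ v) * (φ ⬝ᵥ a.1) = 1 := fun a ha => by
      obtain ⟨b, hb, n1, -⟩ := th a a
      obtain ⟨c, hc, n2, n3⟩ := th a b
      exact hT.cls d0 d1 d3 hM hS0 ha hb hc n1 n2 n3 hv v0 φ0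
    have o := (cl a ha).resolve_left fun e' => e e'.2
    let x : Pt F n := ((φ ⬝ᵥ a.1) • v + a.1, (a.2 ⬝ᵥ v) • φ + a.2)
    have aa : a.2 ⬝ᵥ a.1 = 1 := by
      obtain ⟨b, hb, n1, -⟩ := th a a
      exact (hS0.du a ha b hb n1).pp
    have xx : x.2 ⬝ᵥ x.1 = 1 := by
      simp only [x, add_dotProduct, dotProduct_add, smul_dotProduct, dotProduct_smul, smul_eq_mul,
        aa, hv.1]
      grind
    have ax : Du a x := ⟨aa, xx, by
      simp only [x, dotProduct_add, dotProduct_smul, smul_eq_mul, aa]; grind, by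
      simp only [x, add_dotProduct, smul_dotProduct, smul_eq_mul, aa]; grind⟩
    have cx : ∀ c ∈ S, c ≠ a → c.2 ⬝ᵥ v = 0 ∧ φ ⬝ᵥ c.1 = 0 → Du c x := fun c hc n e =>
      have k := hS0.du c hc a ha n
      ⟨k.pp, xx, by simp [x, e.1, k.pq], by simp [x, e.2, k.qp]⟩
    have sx : Sw (Tv P) a x 1 := by
      have := tv_scal o hv
      simp only [Sw, x, inv_one, one_smul]
      convert this using 1 <;> ext i <;> simp only [Pi.add_apply, Pi.smul_apply, smul_eq_mul] <;>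
        grind
    refine ⟨o, ?_⟩
    by_cases H : ∃ b ∈ S, a ≠ b ∧ (b.2 ⬝ᵥ v) * (φ ⬝ᵥ b.1) = 1
    · obtain ⟨b, hb, ab, o'⟩ := H
      have nul : ∀ c ∈ S, c ≠ a → c ≠ b → c.2 ⬝ᵥ v = 0 ∧ φ ⬝ᵥ c.1 = 0 := fun c hc n1 n2 =>
        (cl c hc).resolve_right fun o'' => one_ne_zero (o.symm.trans (hT.a0 d0 d1 d3 hM hS0 ha hb
          hc ab n1.symm n2.symm hv (o.trans o'.symm) (o.trans o''.symm)))
      refine ⟨b, hb, ab, o', ?_, nul⟩
      obtain ⟨c, hc, n1, n2⟩ := th a b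
      have k1 := cx c hc n1.symm (nul c hc n1.symm n2.symm)
      have k2 := hS0.du a ha b hb ab
      have f1 := hT.fr_insert d0 (hT.fr_pair d0 (hS0.du a ha c hc n1) (hS0.sw a ha c hc n1))
        (Or.inl rfl) (Or.inr rfl) n1 (by rintro s (rfl | rfl); exacts [ax, k1]) sx
      have k3 := lemC t hS d0 d1 d3 (hS0.du c hc b hb n2.symm) k1 (hS0.sw c hc b hb n2.symm)
        (f1.sw c (by simp) x (by simp) k1.ne) (by
          simp only [x, add_dotProduct, dotProduct_add, smul_dotProduct, dotProduct_smul,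
            smul_eq_mul, k2.pq, k2.qp]
          grind)
      simp only [x, dotProduct_add, dotProduct_smul, smul_eq_mul, k2.qp] at k3
      ext i
      have := congrFun k3 i
      simp only [Pi.add_apply, Pi.smul_apply, smul_eq_mul, Pi.zero_apply] at this ⊢
      grind
    · exfalso
      push Not at H
      have dx : ∀ c ∈ S, Du c x := fun c hc => by
        by_cases n : c = a
        · exact n ▸ ax
        · exact cx c hc n ((cl c hc).resolve_right (H c hc (Ne.symm n)))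
      obtain ⟨b, hb, n1, -⟩ := th a a
      exact (dx x (hmax (hT.fr_insert d0 hS0 ha hb n1 dx sx) (Set.subset_insert _ _)
        (Set.mem_insert _ _))).ne rfl
  have hI : L45.Inv P (TT P) := inv_tt ⟨_, _, fun e => zero_ne_one (by
    rw [← dotProduct_zero p.2, ← e]; simp [pq.pp, pq.pq]), fun e => zero_ne_one (by
    rw [← zero_dotProduct p.1, ← e]; simp [pq.pp, pq.qp]), h1⟩
  have ex : ∀ φ : Fin n → F, ∀ x ∈ Submodule.span F (Prod.fst '' S), φ ⬝ᵥ x ≠ 0 →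
      ∃ a ∈ S, φ ⬝ᵥ a.1 ≠ 0 := fun φ x hx e => by
    by_contra H
    push Not at H
    exact e (Submodule.span_le (p := LinearMap.ker (dotProductBilin F F φ)).2
      (by rintro _ ⟨a, ha, rfl⟩; exact H a ha) hx)
  have top : Submodule.span F (Prod.fst '' S) = ⊤ := by
    refine (h.eq_of_inv hI _ fun v φ hv x hx e => ?_).resolve_left fun e => ?_
    · obtain ⟨a, ha, e⟩ := ex φ x hx e
      obtain ⟨-, b, hb, -, -, e', -⟩ := K v φ hv a ha e
      rw [e']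
      exact add_mem (Submodule.smul_mem _ _ (Submodule.subset_span ⟨a, ha, rfl⟩))
        (Submodule.smul_mem _ _ (Submodule.subset_span ⟨b, hb, rfl⟩))
    · have : p.1 = 0 := (Submodule.mem_bot F).1 (e ▸ Submodule.subset_span ⟨p, mp, rfl⟩)
      exact zero_ne_one (by rw [← pq.pp, this, dotProduct_zero])
  have dl : ∀ a ∈ S, a.2 ⬝ᵥ a.1 = 1 := fun a ha => by
    obtain ⟨b, hb, n1, -⟩ := th a a
    exact (hS0.du a ha b hb n1).pp
  haveI := Fintype.ofFinite S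
  have li : LinearIndependent F fun a : S => a.1.1 :=
    LinearIndependent.of_pairwise_dual_eq_zero_one _ (fun a => dotProductBilin F F a.1.2)
      (fun a b n => (hS0.du a a.2 b b.2 fun e => n (Subtype.ext e)).pq) fun a => dl a a.2
  have cd := Module.finrank_eq_card_basis (Module.Basis.mk li (by
    rw [← top, Set.image_eq_range]))
  rw [Module.finrank_fin_fun] at cd
  let e := (Fintype.equivFinOfCardEq cd.symm).symm
  have ne : ∀ j k, j ≠ k → (e j).1 ≠ (e k).1 := fun j k n e' => n (e.injective (Subtype.ext e'))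
  have hΦ : (Matrix.of fun j => (e j).1.2) * (Matrix.of fun k => (e k).1.1)ᵀ = 1 := by
    ext j k
    change (e j).1.2 ⬝ᵥ (e k).1.1 = _
    by_cases n : j = k
    · rw [n, dl _ (e k).2, one_apply_eq]
    · rw [(hS0.du _ (e j).2 _ (e k).2 (ne j k n)).pq, one_apply_ne n]
  let C : GL (Fin n) F := ⟨_, _, mul_eq_one_comm.1 hΦ, hΦ⟩
  have ent : ∀ (A : Matrix (Fin n) (Fin n) F) j k,
      L45.cj C⁻¹ A j k = (e j).1.2 ⬝ᵥ (A *ᵥ (e k).1.1) := fun A j k => by
    rw [L45.cj, Matrix.mul_assoc]; rfl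
  have mon : P ≤ monG C := h.le_of_inv hI fun v φ hv => by
    refine Tv.of_mem hv.2.2.1 ?_
    obtain ⟨x, hx⟩ := exists_dot_eq_one hv.2.1
    obtain ⟨a, ha, e1⟩ := ex φ x (top ▸ Submodule.mem_top) (by
      rw [dotProduct_comm, hx]; exact one_ne_zero)
    obtain ⟨o, b, hb, ab, o', -, nul⟩ := K v φ hv a ha e1
    obtain ⟨i, hi⟩ := e.surjective ⟨a, ha⟩
    obtain ⟨j, hj⟩ := e.surjective ⟨b, hb⟩
    obtain rfl : (e i).1 = a := congrArg _ hi
    obtain rfl : (e j).1 = b := congrArg _ hj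
    refine isMon_of (Equiv.swap i j) fun l k n => ?_
    rw [ent, tvGL_coe, tv_mulVec, dotProduct_add, dotProduct_smul, smul_eq_mul]
    by_cases lk : l = k
    · subst lk
      rw [dl _ (e l).2]
      by_cases li : l = i
      · subst li; linear_combination o + t
      by_cases lj : l = j
      · subst lj; linear_combination o' + t
      exact absurd (Equiv.swap_apply_of_ne_of_ne li lj).symm n
    rw [(hS0.du _ (e l).2 _ (e k).2 (ne l k lk)).pq, zero_add]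
    by_cases ki : k = i
    · subst ki
      rw [(nul _ (e l).2 (ne l k lk) (ne l j (by simpa using n))).1, mul_zero]
    by_cases kj : k = j
    · subst kj
      rw [(nul _ (e l).2 (ne l i (by simpa using n)) (ne l k lk)).1, mul_zero]
    rw [(nul _ (e k).2 (ne k i ki) (ne k j kj)).2, zero_mul]
  obtain ⟨g, hg, eg⟩ := dd t pq d0 s1 s2
  have gv : ∀ x ξ, ξ ⬝ᵥ (g.1 *ᵥ x) = ξ ⬝ᵥ x + (d + 1) * ((p.2 ⬝ᵥ x) * (ξ ⬝ᵥ p.1)) +
      (d⁻¹ + 1) * ((q.2 ⬝ᵥ x) * (ξ ⬝ᵥ q.1)) := fun x ξ => by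
    simp [eg, add_mulVec, smul_mulVec, vecMulVec_mulVec']
  have z : ∀ a ∈ S, ∀ j k, j ≠ k → (a.2 ⬝ᵥ (e k).1.1) * ((e j).1.2 ⬝ᵥ a.1) = 0 := fun a ha j k n => by
    by_cases e1 : a = (e k).1
    · rw [(hS0.du _ (e j).2 a ha (e1 ▸ ne j k n)).pq, mul_zero]
    · rw [(hS0.du a ha _ (e k).2 e1).pq, zero_mul]
  obtain ⟨c, hc⟩ := (mem_scalars_iff g).1 (h.mem_scalars_of_mon (C := C) (fun g hg => mon hg)
    (Subgroup.mem_sup_left hg) (IsDiag.diagonal_diag fun j k n => by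
      beta_reduce
      rw [ent, gv, z p mp j k n, z q mq j k n, (hS0.du _ (e j).2 _ (e k).2 (ne j k n)).pq]
      simp).symm)
  have k1 := gv p.1 p.2
  have k2 := gv r.1 r.2
  rw [hc, smul_mulVec, one_mulVec, dotProduct_smul] at k1 k2
  rw [pq.pp, pq.qp] at k1
  rw [(du p pr).qq, (du p pr).pq, (du q qr).pq] at k2
  simp only [smul_eq_mul] at k1 k2
  exact d1 (by linear_combination k2 - k1 - t)

end Cfsg.Agent.H28.TMon
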