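import Mathlib
import Cfsg.Agent.H74.CksDefs
import Cfsg.Agent.H11.PermChar
import Cfsg.Agent.H11.Kernel
import Cfsg.Agent.H12.Central

/-! Project CKS, piece PD2: a congruence for the degree of a constituent of `1_B^G`. -/

set_option autoImplicit false

namespace Cfsg.Agent.H28.CksPd2

open Cfsg Cfsg.Agent.H74.Cks Cfsg.Agent.H35 Subgroup

/-- The degree of a character of a `p`-group is congruent to the number of its linear
constituents. -/
theorem lin_congr {U : Type*} [Group U] [Fintype U] [Fintype (U →* ℂˣ)] {p : ℕ} [Fact p.Prime]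
    (hU : IsPGroup p U) {φ : U → ℂ} (hφ : IsCharacter U φ) :
    ∃ z : ℤ, φ 1 = ∑ l : U →* ℂˣ, classInner φ (fun y => (l y : ℂ)) + p * z := by
  classical
  refine H11.isCharacter_induction (P := fun φ =>
    ∃ z : ℤ, φ 1 = ∑ l : U →* ℂˣ, classInner φ (fun y => (l y : ℂ)) + p * z)
    ⟨0, by simp [H11.classInner_zero_left]⟩ (fun χ hχ => ?_) ?_ hφ
  · by_cases h : χ 1 = 1
    · obtain ⟨l, rfl⟩ := H11.exists_monoidHom_of_apply_one_eq_one (H11.isCharacter_of_irr hχ) h
      refine ⟨0, ?_⟩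
      rw [Finset.sum_eq_single l (fun l' _ k => H11.classInner_irr_of_ne hχ
        (H11.isIrrCharacter_monoidHom l') fun e => k (MonoidHom.ext fun y =>
          Units.ext (congrFun e y).symm)) (by simp), H11.classInner_irr_self hχ]
      simp
    · obtain ⟨d, -, hd⟩ := H11.exists_pos_degree hχ
      obtain ⟨k, hk⟩ := hU.exists_card_eq
      obtain ⟨j, -, rfl⟩ := (Nat.dvd_prime_pow Fact.out).1 (hk ▸ H12.irr_degree_dvd_card hχ hd)
      obtain ⟨i, rfl⟩ : ∃ i, j = i + 1 := ⟨j - 1, by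
        rcases j with _ | j
        · exact absurd (by simpa using hd) h
        · rfl⟩
      refine ⟨p ^ i, ?_⟩
      rw [Finset.sum_eq_zero fun l _ => H11.classInner_irr_of_ne hχ
        (H11.isIrrCharacter_monoidHom l) fun e => h (by rw [e]; simp), hd]
      push_cast
      ring
  · rintro χ ψ - - ⟨a, ha⟩ ⟨b, hb⟩
    refine ⟨a + b, ?_⟩
    simp only [H11.classInner_add_left, Finset.sum_add_distrib, Pi.add_apply, ha, hb]
    push_cast
    ring

theorem exists_proj {U : Type*} [Group U] {X Q : Subgroup U} [Q.Normal] (h1 : X ⊔ Q = ⊤)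
    (h2 : X ⊓ Q = ⊥) : ∃ π : U →* X, (∀ x : X, π x = x) ∧ ∀ y ∈ Q, π y = 1 := by
  let f : X →* U ⧸ Q := (QuotientGroup.mk' Q).comp X.subtype
  have hf : Function.Bijective f := ⟨(injective_iff_map_eq_one f).2 fun x hx => Subtype.ext
    (mem_bot.1 (h2 ▸ ⟨x.2, (QuotientGroup.eq_one_iff _).1 hx⟩)), fun y => by
      obtain ⟨y, rfl⟩ := QuotientGroup.mk_surjective y
      obtain ⟨a, ha, b, hb, rfl⟩ := (mul_normal X Q).subset (h1.ge (mem_top y))
      exact ⟨⟨a, ha⟩, (QuotientGroup.mk_mul_of_mem a hb).symm⟩⟩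
  let e := MulEquiv.ofBijective f hf
  refine ⟨e.symm.toMonoidHom.comp (QuotientGroup.mk' Q), fun x => e.symm_apply_apply x,
    fun y hy => ?_⟩
  change e.symm (y : U ⧸ Q) = 1
  rw [(QuotientGroup.eq_one_iff _).2 hy, map_one]

theorem exists_ne_one {X : Type*} [Group X] [Finite X] [Nontrivial X] {p : ℕ} [Fact p.Prime]
    (h : IsPGroup p X) : ∃ l : X →* ℂˣ, l ≠ 1 := by
  have := h.isNilpotent
  obtain ⟨g, -, hg⟩ := SetLike.exists_of_lt (Group.IsSolvable.commutator_lt_top_of_nontrivial (G := X))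
  obtain ⟨l, -, k⟩ := H11.exists_monoidHom_ne_one (_root_.commutator X) le_rfl hg
  exact ⟨l, fun e => k (by rw [e]; rfl)⟩

open scoped Pointwise in
theorem dvd_card {A : Type*} [Group A] [Finite A] {p k : ℕ} [Fact p.Prime] {a : A} (a1 : a ≠ 1)
    (ha : a ^ p ^ k = 1) {s : Set A} (h : ∀ x ∈ s, x * a ∈ s) : p ∣ Nat.card s := by
  have e : s * (zpowers a : Set A) = s := by
    refine le_antisymm ?_ fun x hx => ⟨x, hx, 1, one_mem _, mul_one x⟩
    rintro _ ⟨x, hx, y, hy, rfl⟩
    obtain ⟨n, rfl⟩ := (mem_powers_iff_mem_zpowers.2 hy)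
    induction n with
    | zero => simpa using hx
    | succ n ih =>
      have := h _ (ih (npow_mem_zpowers a n))
      simpa only [pow_succ, mul_assoc] using this
  rw [← e, card_mul_eq_card_subgroup_mul_card_quotient, Nat.card_zpowers]
  obtain ⟨j, -, hj⟩ := (Nat.dvd_prime_pow Fact.out).1 (orderOf_dvd_of_pow_eq_one ha)
  refine Dvd.dvd.mul_right (hj ▸ dvd_pow_self p ?_) _
  rintro rfl
  exact a1 (orderOf_eq_one_iff.1 hj)

theorem avg_perm {G : Type} [Group G] [Finite G] (H K : Subgroup G) :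
    avg K (H11.permChar G (G ⧸ H) - fun _ => 1) =
      (Nat.card (MulAction.orbitRel.Quotient K (G ⧸ H)) : ℂ) - 1 := by
  have := Fintype.ofFinite K
  have e := H11.classInner_sub_left (H11.permChar K (G ⧸ H)) (fun _ => 1) (fun _ => 1)
  rw [H11.classInner_permChar_one, H11.classInner_one_one, H11.classInner_one_right] at e
  rw [← e, avg, finsum_eq_sum_of_fintype]
  rfl

theorem pdiv (bas : Bas1Stmt) (pd : Pd1Stmt) : PdivStmt := by
  intro G _ _ _ p n _ S gen H two hp
  classical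
  obtain ⟨hB, -, -, -, -, -, Q0, -, anti, QU, hX, XQ, -⟩ := bas S
  by_contra ft
  have nt : Nontrivial (G ⧸ H) := QuotientGroup.nontrivial_iff.2 two.max.1
  have hχ := (H11.isIrrCharacter_permChar_sub_one_iff (G := G) (G ⧸ H)).2 two.two
  have h0 : avg S.B (H11.permChar G (G ⧸ H) - fun _ => 1) ≠ 0 := fun e => ft fun g => by
    rw [avg_perm, sub_eq_zero, Nat.cast_eq_one] at e
    have := (Nat.card_eq_one_iff_unique.1 e).1
    obtain ⟨b, hb⟩ : ((g⁻¹ : G) : G ⧸ H) ∈ MulAction.orbit S.B ((1 : G) : G ⧸ H) :=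
      Quotient.exact (Subsingleton.elim (α := MulAction.orbitRel.Quotient S.B (G ⧸ H)) _ _)
    have hb' : (((b : G) * 1 : G) : G ⧸ H) = (g⁻¹ : G) := hb
    refine ⟨_, inv_mem (QuotientGroup.eq.1 hb'), b⁻¹, inv_mem b.2, by group⟩
  have pU : IsPGroup p S.U := S.sp.U_pgroup _
  have := Fintype.ofFinite S.U
  have := H11.finite_monoidHom_units (G := S.U)
  have := Fintype.ofFinite (S.U →* ℂˣ)
  have XU : ∀ i, S.X i ≤ S.U := fun i => (hX i).1 ▸ le_sup_left
  have pr : ∀ i, ∃ π : S.U →* (S.X i).subgroupOf S.U, (∀ x : (S.X i).subgroupOf S.U, π x = x) ∧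
      ∀ y ∈ (S.Q {i}).subgroupOf S.U, π y = 1 := fun i => by
    have : ((S.Q {i}).subgroupOf S.U).Normal := (normal_subgroupOf_iff_le_normalizer (QU _)).2
      ((S.sp.U_le _).trans ((BN.B_le_PJ _).trans (S.sp.U_normal _)))
    refine exists_proj ?_ (eq_bot_iff.2 fun y hy => mem_bot.2 (Subtype.ext
      (mem_bot.1 ((hX i).2.1.le ⟨hy.1, hy.2⟩))))
    rw [← subgroupOf_sup (XU i) (QU _), (hX i).1, subgroupOf_self]
  choose π π1 π2 using pr
  let J : (S.U →* ℂˣ) → Finset (Fin n) := fun l => {i | ∃ y : S.U, (y : G) ∈ S.X i ∧ l y ≠ 1}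
  have hJ : ∀ l : S.U →* ℂˣ, ∀ y : S.U, (y : G) ∈ S.Q (J l) → l y = 1 := fun l y hy => by
    have e : l = ∏ i ∈ J l, (l.comp ((S.X i).subgroupOf S.U).subtype).comp (π i) := by
      refine MonoidHom.eq_of_eqOn_dense (s := {y : S.U | ∃ i, (y : G) ∈ S.X i}) ?_ ?_
      · refine map_injective S.U.subtype_injective ?_
        rw [MonoidHom.map_closure, ← MonoidHom.range_eq_map, range_subtype]
        refine le_antisymm ((closure_le _).2 ?_) (gen.ge.trans (iSup_le fun i x hx =>
          subset_closure ⟨⟨x, XU i hx⟩, ⟨i, hx⟩, rfl⟩))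
        rintro _ ⟨y, -, rfl⟩
        exact y.2
      · rintro x ⟨k, hk⟩
        rw [MonoidHom.finsetProd_apply, Finset.prod_eq_single k (fun i _ ik => by
          simp [π2 i x (XQ {i} k (by simpa using ik.symm) hk)]) fun h => ?_]
        · exact (congrArg (fun t : (S.X k).subgroupOf S.U => l t) (π1 k ⟨x, hk⟩)).symm
        · by_contra h1
          exact h (Finset.mem_filter.2 ⟨Finset.mem_univ _, _, (π k x).2, h1⟩)
    rw [e, MonoidHom.finsetProd_apply]
    exact Finset.prod_eq_one fun i hi => by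
      simp [π2 i y (anti {i} _ (Finset.singleton_subset_iff.2 hi) hy)]
  obtain ⟨z, hz⟩ := lin_congr pU (H11.isCharacter_restrict (H11.isCharacter_of_irr hχ) S.U)
  have h1 : ∀ l : S.U →* ℂˣ, classInner
      (fun y : S.U => (H11.permChar G (G ⧸ H) - fun _ => 1 : G → ℂ) y)
      (fun y => (l y : ℂ)) = ∑ K : Finset (Fin n), if K ⊆ J l then
        (-1 : ℂ) ^ K.card * avg (S.P K) (H11.permChar G (G ⧸ H) - fun _ => 1) else 0 := fun l => by
    rw [← Finset.sum_filter, show Finset.univ.filter (· ⊆ J l) = (J l).powerset by ext; simp,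
      ← pd S _ hχ h0 l (J l) (fun i hi => (Finset.mem_filter.1 hi).2) (hJ l),
      finsum_eq_sum_of_fintype, H11.classInner_def]
    simp only [H11.conj_monoidHom_apply, map_inv]
  have h2 : ∀ K : Finset (Fin n), ∃ c : ℤ, (∑ l : S.U →* ℂˣ, if K ⊆ J l then
      (-1 : ℂ) ^ K.card * avg (S.P K) (H11.permChar G (G ⧸ H) - fun _ => 1) else 0) = p * c := by
    intro K
    rw [← Finset.sum_filter, Finset.sum_const, avg_perm, nsmul_eq_mul]
    by_cases hK : K = Finset.univ
    · refine ⟨0, ?_⟩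
      have e : S.P K = ⊤ := by
        have := Fintype.ofEquiv _ S.e
        rw [hK, Sys.P, Finset.map_univ_equiv, BN.PJ_univ]
      have : MulAction.IsPretransitive (S.P K) (G ⧸ H) := ⟨fun x y => by
        obtain ⟨g, hg⟩ := MulAction.exists_smul_eq G x y
        exact ⟨⟨g, e.ge (mem_top g)⟩, hg⟩⟩
      rw [H11.card_orbits_of_isPretransitive]
      simp
    obtain ⟨i, hi⟩ : ∃ i, i ∉ K := by simpa [Finset.eq_univ_iff_forall] using hK
    have : Nontrivial ((S.X i).subgroupOf S.U) := (nontrivial_iff_ne_bot _).2 fun e =>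
      (hX i).2.2.1 (by rw [← inf_eq_left.2 (XU i), ← disjoint_iff, ← subgroupOf_eq_bot, e])
    obtain ⟨a, a1⟩ := exists_ne_one (pU.to_subgroup ((S.X i).subgroupOf S.U))
    obtain ⟨k, hk⟩ := pU.exists_card_eq
    obtain ⟨c, hc⟩ := dvd_card (p := p) (k := k) (a := a.comp (π i)) (s := {l | K ⊆ J l})
      (fun e => a1 (MonoidHom.ext fun x => by simpa [π1] using DFunLike.congr_fun e (x : S.U)))
      (MonoidHom.ext fun y => by
        rw [MonoidHom.pow_apply, ← map_pow, ← hk, pow_card_eq_one', map_one]; rfl)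
      fun l hl j hj => by
        obtain ⟨y, hy, k⟩ := (Finset.mem_filter.1 (hl hj)).2
        refine Finset.mem_filter.2 ⟨Finset.mem_univ _, y, hy, ?_⟩
        simpa [π2 i y (XQ {i} j (by rw [Finset.mem_singleton]; rintro rfl; exact hi hj) hy)] using k
    rw [Nat.card_eq_fintype_card, Fintype.card_subtype] at hc
    refine ⟨c * ((-1) ^ K.card *
      ((Nat.card (MulAction.orbitRel.Quotient (S.P K) (G ⧸ H)) : ℤ) - 1)), ?_⟩
    rw [show (Finset.univ.filter fun l => K ⊆ J l).card = p * c from hc]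
    push_cast
    ring
  choose c hc using h2
  obtain ⟨m, hm⟩ := hp
  simp only [h1] at hz
  rw [Finset.sum_comm] at hz
  simp only [hc, ← Finset.mul_sum, Pi.sub_apply, OneMemClass.coe_one, H11.permChar_one] at hz
  rw [← index, hm] at hz
  have h3 : (p : ℤ) * (m - ∑ K, c K - z) = 1 := by
    refine Int.cast_injective (α := ℂ) ?_
    push_cast at hz ⊢
    linear_combination hz
  exact (Fact.out : p.Prime).one_lt.ne' (by exact_mod_cast Int.eq_one_of_mul_eq_one_right (by positivity) h3)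

end Cfsg.Agent.H28.CksPd2
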