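import Mathlib
import Cfsg.Agent.Lead.T3Defs
import Cfsg.Agent.S1142

/-! Project T3: isomorphisms of Coxeter systems, and the rank two residues of a `BN`-pair. -/

set_option autoImplicit false

namespace Cfsg.Agent.H28.T3Sub

open Cfsg.Agent.H35 Cfsg.Agent.Lead.T3 Subgroup

universe u

section
variable {I I' W W' : Type*} [Group W] [Group W']

theorem exists_hom {Y : InvGen I W} (h : Y.Exchange) (f : I → W')
    (hf : ∀ i j, (f i * f j) ^ orderOf (Y.s i * Y.s j) = 1) :
    ∃ φ : W →* W', ∀ i, φ (Y.s i) = f i := by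
  choose l hl using Y.wp_surjective
  refine ⟨MonoidHom.mk' (fun w => ((l w).map f).prod) fun a b => ?_, fun i => ?_⟩
  · rw [← List.prod_append, ← List.map_append]
    exact h.prod_eq_of_wp_eq f hf (by rw [InvGen.wp_append, hl, hl, hl])
  · exact (h.prod_eq_of_wp_eq f hf (l' := [i]) (by rw [hl, Y.wp_singleton])).trans (by simp)

theorem map_wp {X : InvGen I W} {Y : InvGen I' W'} (e : I → I') (φ : W' →* W)
    (h : ∀ i, φ (Y.s (e i)) = X.s i) (l : List I) : φ (Y.wp (l.map e)) = X.wp l := by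
  induction l with
  | nil => simp
  | cons i l ih => simp [h, ih]

theorem len_eq {X : InvGen I W} {Y : InvGen I' W'} (e : I ≃ I') (φ : W' ≃* W)
    (h : ∀ i, φ (Y.s (e i)) = X.s i) (w : W') : X.len (φ w) = Y.len w := by
  refine le_antisymm ?_ ?_
  · obtain ⟨l, h1, rfl⟩ := Y.exists_red w
    have := map_wp (Y := Y) e φ.toMonoidHom h (l.map e.symm)
    simp only [List.map_map, Equiv.self_comp_symm, List.map_id, MulEquiv.coe_toMonoidHom] at this
    rw [this, ← h1]
    simpa using X.len_wp_le (l.map e.symm)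
  · obtain ⟨l, h1, h2⟩ := X.exists_red (φ w)
    have := (map_wp (Y := Y) e φ.toMonoidHom h l).trans h2
    rw [← h1, ← φ.injective this]
    simpa using Y.len_wp_le (l.map e)

theorem exchange_of {X : InvGen I W} {Y : InvGen I' W'} (e : I ≃ I') (φ : W' ≃* W)
    (h : ∀ i, φ (Y.s (e i)) = X.s i) (hY : Y.Exchange) : X.Exchange := by
  intro i l hl hi
  have k : ∀ l : List I, φ (Y.wp (l.map e)) = X.wp l := map_wp (Y := Y) e φ.toMonoidHom h
  obtain ⟨a, j, b, e1, e2⟩ := hY (e i) (l.map e)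
    (by rw [InvGen.IsRed, ← len_eq e φ h, k, List.length_map]; exact hl)
    (by rw [← len_eq e φ h, map_mul, h, k, List.length_map]; exact hi)
  refine ⟨a.map e.symm, e.symm j, b.map e.symm, ?_, ?_⟩
  · simpa using congrArg (List.map e.symm) e1
  · rw [← k, ← h, ← h, ← map_mul, ← map_mul]
    simp [e2]

end

theorem subStmt : SubStmt.{u} := by
  intro I W _ X I' W' _ Y hY _ e hm
  obtain ⟨φ, hφ⟩ := exists_hom hY (fun i => X.s (e.symm i)) fun i j => by
    have := hm (e.symm i) (e.symm j)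
    rw [e.apply_symm_apply, e.apply_symm_apply] at this
    rw [this]
    exact pow_orderOf_eq_one _
  obtain ⟨ψ, hψ⟩ := exists_hom X.exch (fun i => Y.s (e i)) fun i j => by
    rw [show orderOf _ = _ from (hm i j).symm]
    exact pow_orderOf_eq_one _
  have h1 : ψ.comp φ = MonoidHom.id _ := MonoidHom.eq_of_eqOn_dense Y.closure_eq (by
    rintro _ ⟨i, rfl⟩; simp [hφ, hψ])
  have h2 : φ.comp ψ = MonoidHom.id _ := MonoidHom.eq_of_eqOn_dense X.closure_eq (by
    rintro _ ⟨i, rfl⟩; simp [hφ, hψ])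
  have k : ∀ i, φ.toMulEquiv ψ h1 h2 (Y.s (e i)) = X.s i := fun i => by simp [hφ]
  exact ⟨_, k, len_eq e _ k⟩

variable {G : Type u} [Group G] (P : BNPair G)

/-- The `BN`-pair of a standard parabolic subgroup. -/
def sub (J : Set P.S) : BNPair (P.parabolic (Subtype.val '' J)) where
  B := P.B.subgroupOf _
  N := P.N.subgroupOf _
  S := {x | (x : G) ∈ Subtype.val '' J}
  sup_eq_top := by
    refine map_injective (Subgroup.subtype_injective _) ?_
    rw [Subgroup.map_sup, subgroupOf_map_subtype, subgroupOf_map_subtype, ← MonoidHom.range_eq_map,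
      range_subtype]
    refine le_antisymm (sup_le inf_le_right inf_le_right) (BN.parabolic_le_iff.2
      ⟨le_sup_of_le_left (le_inf le_rfl (BN.B_le_parabolic _)), fun x hx => mem_sup_right
        ⟨?_, BN.mem_parabolic_of_mem hx⟩⟩)
    obtain ⟨i, -, rfl⟩ := hx
    exact P.subset i.2
  conj_mem n hn t ht := P.conj_mem n hn t ht
  subset := by
    rintro x ⟨i, -, e⟩
    exact mem_subgroupOf.2 (e ▸ P.subset i.2)
  sq_mem := by
    rintro x ⟨i, -, e⟩
    exact P.sq_mem x (e ▸ i.2)
  inj := by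
    rintro x ⟨i, -, e⟩ y ⟨j, -, e'⟩ h
    exact Subtype.ext (P.inj x (e ▸ i.2) y (e' ▸ j.2) h)
  closure_sup := by
    refine le_antisymm (sup_le ((closure_le _).2 ?_) inf_le_right) fun n hn => ?_
    · rintro x ⟨i, -, e⟩
      exact mem_subgroupOf.2 (e ▸ P.subset i.2)
    replace hn : (n : G) ∈ P.N := hn
    obtain ⟨l, hl, e⟩ := (BN.gens P).mem_closure_iff.1
      ((BN.mem_parabolic_iff_of_mem_cell (BN.self_mem_cell (P := P) hn)).1 n.2)
    rw [← BN.mkW_prod, BN.mkW_eq_iff] at e
    have m := BN.prod_mem_closure hl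
    have m' : (l.map Subtype.val).prod ∈ P.parabolic (Subtype.val '' J) := mem_sup_right m
    rw [← mul_inv_cancel_left (⟨_, m'⟩ : P.parabolic _) n]
    refine mul_mem (mem_sup_left ?_) (mem_sup_right ⟨e, P.N.mul_mem (inv_mem (BN.prod_mem_N l)) hn⟩)
    have : closure (Subtype.val '' J) ≤ (closure {x : P.parabolic (Subtype.val '' J) |
        (x : G) ∈ Subtype.val '' J}).map (Subgroup.subtype _) :=
      (closure_le _).2 fun x hx => ⟨⟨x, BN.mem_parabolic_of_mem hx⟩, subset_closure hx, rfl⟩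
    obtain ⟨y, hy, e'⟩ := this m
    rwa [show (⟨_, m'⟩ : P.parabolic _) = y from Subtype.ext e'.symm]
  mul_mem_union := by
    rintro s ⟨i, -, e⟩ n hn b hb
    refine (P.mul_mem_union s (e ▸ i.2) n hn b hb).imp (fun h => ?_) fun h => ?_
    all_goals
      obtain ⟨x, hx, y, hy, e'⟩ := DoubleCoset.mem_doubleCoset.1 h
      exact DoubleCoset.mem_doubleCoset.2 ⟨⟨x, BN.B_le_parabolic _ hx⟩, hx,
        ⟨y, BN.B_le_parabolic _ hy⟩, hy, Subtype.ext e'⟩
  conj_ne := by
    rintro s ⟨i, -, e⟩ h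
    obtain ⟨b, hb, k⟩ := BN.exists_conj_not_mem i
    rw [e] at k
    exact k (h.le ⟨⟨b, BN.B_le_parabolic _ hb⟩, hb, rfl⟩)

theorem eqns : True := by
  have := @sub.eq_1.{0}
  trivial

theorem pow_eq_one_iff' (i j : P.S) (n : ℕ) :
    ((BN.gens P).s i * (BN.gens P).s j) ^ n = 1 ↔ ((i : G) * j) ^ n ∈ P.B := by
  rw [← BN.mkW_eq_one_iff (pow_mem (mul_mem (P.subset i.2) (P.subset j.2)) n)]
  rfl

theorem fhStmt : FhStmt.{u} := by
  intro G _ _ P
  refine ⟨fun i j hij => ?_, fun I e => ?_⟩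
  · let a : (sub P {i, j}).S := ⟨⟨i, BN.mem_parabolic_of_mem ⟨i, by simp, rfl⟩⟩, i, by simp, rfl⟩
    let b : (sub P {i, j}).S := ⟨⟨j, BN.mem_parabolic_of_mem ⟨j, by simp, rfl⟩⟩, j, by simp, rfl⟩
    have := S1142.orderOf_mem (sub P {i, j}) (i := a) (j := b)
      (fun h => hij (Subtype.ext (congrArg (fun x => (x.1 : G)) h))) (by
        rintro ⟨x, k, hk, e⟩
        exact hk.imp (fun h => Subtype.ext (Subtype.ext (e.symm.trans (congrArg _ h))))
          fun h => Subtype.ext (Subtype.ext (e.symm.trans (congrArg _ h))))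
    rwa [show orderOf ((BN.gens P).s i * (BN.gens P).s j) = _ from orderOf_eq_orderOf_iff.2 fun n =>
      (pow_eq_one_iff' P i j n).trans (pow_eq_one_iff' _ a b n).symm]
  · let φ : BN.W P ≃* Shrink.{0} (BN.W P) := Shrink.mulEquiv.symm
    let X : InvGen I (Shrink.{0} (BN.W P)) :=
      { s := fun i => φ ((BN.gens P).s (e i))
        s_mul_s := fun i => by rw [← map_mul, (BN.gens P).s_mul_s, map_one]
        closure_eq := by
          rw [show (Set.range fun i => φ ((BN.gens P).s (e i))) =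
              φ.toMonoidHom '' Set.range (BN.gens P).s by
            rw [← e.surjective.range_comp (BN.gens P).s, ← Set.range_comp]; rfl,
            ← MonoidHom.map_closure, (BN.gens P).closure_eq]
          exact map_top_of_surjective _ φ.surjective }
    have k : ∀ i, φ ((BN.gens P).s (e i)) = X.s i := fun _ => rfl
    exact ⟨_, _, Finite.of_equiv _ φ.toEquiv, ⟨X, exchange_of e φ k (BN.exchange P),
      φ.injective.comp (BN.gens_s_injective.comp e.injective)⟩, ⟨e, φ, k, len_eq e φ k⟩, rfl⟩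

end Cfsg.Agent.H28.T3Sub
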