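import Mathlib
import Cfsg.Agent.H17.KnDef2
import Cfsg.Agent.H89.Cj

/-!
# The group `E` without coordinates
-/

set_option autoImplicit false

namespace Cfsg.Agent.H28.KnEea

open Equiv Subgroup Cfsg.Agent.H11.A16 Cfsg.Agent.H63 Cfsg.Agent.H17.Kn
open Cfsg.Agent.H89.Rec (Syl)

universe u

variable {G : Type u} [Group G] {J : N2 → G}

theorem ex_mul (m2 : Mod2) {g g' : G} {m m' : N2} (hm' : m' ∈ QE) (h : Ex J g m QQ)
    (h' : Ex J g' m' QQ) : Ex J (g * g') (m * m') QQ := fun u hu => by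
  have := (h' u hu).trans (h _ (((m2.nrm m').2.2.2.2.1 hm').1 u hu))
  rwa [show m * (m' * u * m'⁻¹) * m⁻¹ = m * m' * u * (m * m')⁻¹ by group] at this

theorem ex_inv (m2 : Mod2) {g : G} {m : N2} (hm : m ∈ QE) (h : Ex J g m QQ) :
    Ex J g⁻¹ m⁻¹ QQ := fun u hu => by
  have := (h _ (((m2.nrm m⁻¹).2.2.2.2.1 (inv_mem hm)).1 u hu)).symm
  rwa [show m * (m⁻¹ * u * m⁻¹⁻¹) * m⁻¹ = u by group] at this

theorem ex_one : Ex J 1 1 QQ := fun u _ => by simp [R]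

theorem ex_pow (m2 : Mod2) {g : G} {m : N2} (hm : m ∈ QE) (h : Ex J g m QQ) (n : ℕ) :
    Ex J (g ^ n) (m ^ n) QQ := by
  induction n with
  | zero => rw [pow_zero, pow_zero]; exact ex_one
  | succ n ih => rw [pow_succ, pow_succ]; exact ex_mul m2 hm ih h

theorem EE_le : EE ≤ QE := fun e he => by
  have h : e.σ = 1 := he.1
  refine ⟨?_, he.2⟩
  change e.σ ∈ AG
  rw [h]
  exact one_mem _

/-- The elements that act on `Q` as even sign changes. -/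
def K0 (m2 : Mod2) (J : N2 → G) : Subgroup G where
  carrier := {g | ∃ e ∈ EE, Ex J g e QQ}
  one_mem' := ⟨1, one_mem _, ex_one⟩
  mul_mem' := fun ⟨e, he, h⟩ ⟨e', he', h'⟩ => ⟨e * e', mul_mem he he', ex_mul m2 (EE_le he') h h'⟩
  inv_mem' := fun ⟨e, he, h⟩ => ⟨e⁻¹, inv_mem he, ex_inv m2 (EE_le he) h⟩

theorem eqns : True := by
  have := @K0.eq_1.{0}
  trivial

theorem mem_nK [Finite G] (m2 : Mod2) {g : G} {m : N2} (hm : m ∈ QE) (h : Ex J g m QQ) :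
    g ∈ N[K0 m2 J] := by
  refine mem_normalizer_fintype ?_
  rintro k ⟨e, he, hk⟩
  exact ⟨m * e * m⁻¹, (m2.nrm m).2.1 e he,
    ex_mul m2 (inv_mem hm) (ex_mul m2 (EE_le he) h hk) (ex_inv m2 hm h)⟩

theorem eea (hB : Base.{u}) : EeaStmt.{u} := by
  intro G _ _ J φ h
  have gen : Gen G := hB.gen
  have kit : Kit J φ := hB.kit J φ h.toKi
  have m2 := hB.m2
  obtain ⟨l1, l2, -, l4, l5, -, -, -, -, l10, l11, l12, -⟩ := m2.le
  have hT : ∀ t ∈ T0, J t ∈ N[K0 m2 J] := fun t ht =>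
    mem_nK m2 (l10 ht.1) fun u hu => h.em.self ht (l2 hu)
  obtain ⟨S, hS, hTS, -, -, hsy⟩ := gen.ovs (K0 m2 J) (im J T0)
    (h.em.two (hB.m1.two.to_le inf_le_right)) (im_le hT)
  have ap : im J AP ≤ S ⊓ K0 m2 J := im_le fun b hb =>
    ⟨hTS (mem_im (l2 (l5 hb))), b, l1 hb, fun u hu => h.em.self (l2 (l5 hb)) (l2 hu)⟩
  have onto : ∀ e ∈ EE, ∃ g ∈ S ⊓ K0 m2 J, Ex J g e QQ := by
    intro e he
    obtain ⟨g, hg⟩ := h.ee e he
    obtain ⟨j, m, ⟨r, hr⟩, hj⟩ := Nat.exists_eq_two_pow_mul_odd (orderOf_pos g).ne'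
    have h1 := ex_pow m2 (EE_le he) hg m
    have h2 : e ^ m = e := by
      rw [hr, pow_succ, pow_mul, pow_two, m2.ab.2.2.2.1 e he.1, one_pow, one_mul]
    rw [h2] at h1
    obtain ⟨k, ⟨e', he', hk⟩, h3⟩ := hsy.exists_conj (t := g ^ m) (n := j) ⟨e, he, h1⟩
      (by rw [← pow_mul, mul_comm, ← hj, pow_orderOf_eq_one])
    refine ⟨_, h3, ?_⟩
    have := ex_mul m2 (inv_mem (EE_le he')) (ex_mul m2 (EE_le he) hk h1) (ex_inv m2 (EE_le he') hk)
    rwa [(m2.ab.1 e' he'.1 e he.1).eq, mul_inv_cancel_right] at this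
  refine ⟨S ⊓ K0 m2 J, h, hS.to_le inf_le_left, ap, fun g hg => hg.2, onto, fun t ht => ?_,
    fun k hk => ?_⟩
  · refine mem_normalizer_fintype fun n hn => ⟨?_, (mem_normalizer_iff.1 (hT t ht) n).1 hn.2⟩
    have := hTS (mem_im ht)
    exact S.mul_mem (S.mul_mem this hn.1) (S.inv_mem this)
  · obtain ⟨g0, n0, p0, x0⟩ := kit.rq k hk
    obtain ⟨k0, ⟨e, he, hk0⟩, hn⟩ := gen.frat _ _ g0 hsy (mem_nK m2 (l10 hk) x0)
    obtain ⟨g1, hg1, x1⟩ := onto e he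
    have xc := ex_mul m2 (EE_le he) (ex_inv m2 (EE_le he) x1) hk0
    rw [inv_mul_cancel] at xc
    have xc' : ∀ u ∈ QQ, R J (g1⁻¹ * k0) u u := fun u hu => by simpa using xc u hu
    have hcN : g1⁻¹ * k0 ∈ NA J := kit.mna _ fun a ha => ⟨a, ha, xc' a (l4 ha)⟩
    have hcC : g1⁻¹ * k0 ∈ C[im J AA] := by
      rw [mem_centralizer_iff]
      intro y hy
      obtain ⟨a, ha, rfl⟩ := (h.em.mono AA_le_T0).mem.1 hy
      exact (mul_inv_eq_iff_eq_mul.1 (xc' a (l4 ha))).symm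
    obtain ⟨a, ha, k', hk', p', ec⟩ := kit.dec _ hcC
    have haT := AA_le_T0 ha
    have pc : φ (g1⁻¹ * k0) = pm2 a := by
      rw [ec, h.mul _ (kit.le a haT) _ hk', p', mul_one, h.res a haT]
    have haP : a ∈ AP := by
      have : ∀ u ∈ QQ, Commute a u := fun u hu => by
        have := kit.down _ hcN u (l2 hu) u (l2 hu) (xc' u hu)
        rw [pc, ← map_inv, ← map_mul, ← map_mul] at this
        exact mul_inv_eq_iff_eq_mul.1 (pm2_inj this)
      rcases hB.m3.cQQ a this with rfl | rfl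
      · exact one_mem _
      · change z2 ∈ QK ∧ z2 ∈ PP
        decide +kernel
    have haN := inv_mem (kit.le a haT)
    refine ⟨(J a)⁻¹ * (g1⁻¹ * k0 * g0), mul_mem haN (mul_mem hcN n0), ?_, ?_⟩
    · rw [h.mul _ haN _ (mul_mem hcN n0), h.mul _ hcN _ n0, pc, p0, kit.inv _ (kit.le a haT),
        h.res a haT, inv_mul_cancel_left]
    · rw [mul_assoc]
      exact mul_mem (inv_mem (le_normalizer (ap (mem_im haP))))
        (mul_mem (inv_mem (le_normalizer hg1)) hn)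

end Cfsg.Agent.H28.KnEea
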