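import Mathlib
import Cfsg.Agent.H42.ACKit
import Cfsg.Agent.H44.AsL

/-!
# The double cover of `G₂(4)`: lifts of the root groups (project AC, piece GD), part one
-/

set_option autoImplicit false
set_option maxRecDepth 100000
set_option synthInstance.maxSize 2000

namespace Cfsg.Agent.H28.AcG

open Subgroup H44.AP
open H42.AS (RD om)
open scoped commutatorElement

universe u

variable {Γ H : Type u} [Group Γ] [Group H]

/-- A central extension by `⟨c⟩` of the group generated by the root data. -/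
structure Ctx (π : Γ →* H) (B : RD H) (c R : Γ) : Prop where
  rel : B.Rel
  cen : ∀ x, x * c = c * x
  c1 : c ≠ 1
  pc : π c = 1
  ker : ∀ x, π x = 1 → x = 1 ∨ x = c
  surj : ∀ h ∈ B.A, ∃ x, π x = h
  perfP : ⁅B.P, B.P⁆ = B.P
  pR : π R = B.rho

/-- The norm map of `R`. -/
def lam (R x : Γ) : Γ := x * (R * x * R⁻¹) * (R * (R * x * R⁻¹) * R⁻¹)

theorem lam_mul (R x y : Γ) : lam R (x * y) = x * y * (R * x * R⁻¹ * (R * y * R⁻¹)) *
    (R * (R * x * R⁻¹) * R⁻¹ * (R * (R * y * R⁻¹) * R⁻¹)) := by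
  simp only [lam]; group

/-- The action of `rho`. -/
def bR (s : Q4) : Q4 := (om * s.1, om * s.2.1, om * s.2.2.1, om * s.2.2.2)

theorem actR {B : RD H} (h : B.Rel) : Act (qq B) B.rho bR := fun s r => ⟨om ^ 2 * r, by
  rw [qq, q, ← conj_mul, ← conj_mul, ← conj_mul, ← conj_mul, cj (h.rb _), cj (h.rc _),
    cj (h.rd _), cj (h.re _), cj (h.rv _)]
  rfl⟩

theorem bR3 : ∀ s : Q4, s + bR s + bR (bR s) = 0 := by
  have : ∀ t : F4, t + om * t + om * (om * t) = 0 := by decide +kernel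
  rintro ⟨a, b, c, d⟩
  simp [bR, this]

namespace Ctx

variable {π : Γ →* H} {B : RD H} {c R : Γ} (C : Ctx π B c R)
include C

theorem cc : c * c = 1 :=
  (C.ker _ (by rw [map_mul, C.pc, one_mul])).resolve_right fun e => C.c1 (mul_eq_left.1 e)

theorem zc {z : Γ} (hz : π z = 1) (x : Γ) : x * z = z * x := by
  rcases C.ker z hz with rfl | rfl
  · simp
  · exact C.cen x

theorem same {x y : Γ} (e : π x = π y) : ∃ z, π z = 1 ∧ y = x * z :=
  ⟨x⁻¹ * y, by rw [map_mul, map_inv, e, inv_mul_cancel], by group⟩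

theorem cj_same {x y : Γ} (e : π x = π y) (w : Γ) : y * w * y⁻¹ = x * w * x⁻¹ := by
  obtain ⟨z, hz, rfl⟩ := C.same e
  rw [mul_assoc x z w, ← C.zc hz w]; group

theorem lift_cen {S : Subgroup H} (hS : ⁅S, S⁆ = S) (hA : S ≤ B.A) {x : Γ}
    (hx : ∀ s ∈ S, s * π x = π x * s) {a : Γ} (ha : π a ∈ S) : a * x = x * a := by
  have k : ∀ a, π a ∈ S → ∃ z, π z = 1 ∧ a * x * a⁻¹ = x * z := fun a ha =>
    C.same (by rw [map_mul, map_mul, map_inv, hx _ ha, mul_inv_cancel_right])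
  have h1 : S ≤ (centralizer {x}).map π := by
    conv_lhs => rw [← hS]
    rw [commutator_le]
    intro s1 h1 s2 h2
    obtain ⟨a1, rfl⟩ := C.surj _ (hA h1)
    obtain ⟨a2, rfl⟩ := C.surj _ (hA h2)
    refine ⟨⁅a1, a2⁆, mem_centralizer_singleton_iff.2 ?_, map_commutatorElement π a1 a2⟩
    obtain ⟨z1, p1, e1⟩ := k a1⁻¹ (by rw [map_inv]; exact inv_mem h1)
    obtain ⟨z2, p2, e2⟩ := k a2⁻¹ (by rw [map_inv]; exact inv_mem h2)
    have e3 : a1⁻¹ * (a2⁻¹ * x * a2⁻¹⁻¹) * a1⁻¹⁻¹ = a2⁻¹ * (a1⁻¹ * x * a1⁻¹⁻¹) * a2⁻¹⁻¹ := by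
      rw [e1, e2, ← mul_assoc, ← mul_assoc, mul_assoc _ z2, ← C.zc p2, mul_assoc _ z1, ← C.zc p1,
        ← mul_assoc, ← mul_assoc, e1, e2, mul_assoc, mul_assoc, C.zc p1]
    calc ⁅a1, a2⁆ * x = a1 * a2 * (a1⁻¹ * (a2⁻¹ * x * a2⁻¹⁻¹) * a1⁻¹⁻¹) * a1⁻¹ * a2⁻¹ := by
          rw [commutatorElement_def]; group
      _ = x * ⁅a1, a2⁆ := by rw [e3, commutatorElement_def]; group
  obtain ⟨a', h2, e⟩ := h1 ha
  obtain ⟨z, hz, rfl⟩ := C.same e
  rw [mul_assoc, ← C.zc hz, ← mul_assoc, mem_centralizer_singleton_iff.1 h2, mul_assoc]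

theorem g1 {a x : Γ} (ha : π a ∈ B.P) (hx : π x ∈ B.V) : a * x = x * a := by
  obtain ⟨t, e⟩ := (mem_V C.rel).1 hx
  exact C.lift_cen C.perfP (P_le_A C.rel) (fun s hs => by rw [e]; exact P_cen C.rel t hs) ha

theorem VP {g : H} (hg : g ∈ B.V) : g ∈ B.P := by
  obtain ⟨t, rfl⟩ := (mem_V C.rel).1 hg
  exact xvP C.rel t

theorem vV (t : F4) : B.xv t ∈ B.V := (mem_V C.rel).2 ⟨t, rfl⟩

theorem pcj {g x : Γ} : π (g * x * g⁻¹) = π g * π x * (π g)⁻¹ := by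
  rw [map_mul, map_mul, map_inv]

theorem sV {x : Γ} {t : F4} (e : π x = B.xv t) : π (R * x * R⁻¹) = B.xv (om ^ 2 * t) := by
  rw [C.pcj, C.pR, e, cj (C.rel.rv t)]

theorem sV' {x : Γ} (hx : π x ∈ B.V) : π (R * x * R⁻¹) ∈ B.V := by
  obtain ⟨t, e⟩ := (mem_V C.rel).1 hx
  rw [C.sV e]; exact C.vV _

theorem lamV {x : Γ} (hx : π x ∈ B.V) : π (lam R x) = 1 := by
  obtain ⟨t, e⟩ := (mem_V C.rel).1 hx
  have : ∀ t : F4, t + om ^ 2 * t + om ^ 2 * (om ^ 2 * t) = 0 := by decide +kernel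
  rw [lam, map_mul, map_mul, e, C.sV e, C.sV (C.sV e), ← C.rel.vv, ← C.rel.vv, this,
    zero_of C.rel.vv]

theorem lam_mulV {x y : Γ} (hx : π x ∈ B.V) (hy : π y ∈ B.V) :
    lam R (x * y) = lam R x * lam R y := by
  have h1 := C.sV' hx
  have h2 := C.sV' h1
  have h3 := C.sV' hy
  rw [lam_mul, lam, lam]
  generalize R * (R * x * R⁻¹) * R⁻¹ = x2 at *
  generalize R * x * R⁻¹ = x1 at *
  generalize R * (R * y * R⁻¹) * R⁻¹ = y2 at *
  generalize R * y * R⁻¹ = y1 at *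
  calc _ = x * (y * x1) * (y1 * x2) * y2 := by group
    _ = x * x1 * (y * x2) * y1 * y2 := by rw [C.g1 (C.VP hy) h1, C.g1 (C.VP h3) h2]; group
    _ = _ := by rw [C.g1 (C.VP hy) h2]; group

omit C in
theorem lam_one : lam R 1 = 1 := by simp [lam]

omit C in
theorem lam_cj (x : Γ) : lam R (R * x * R⁻¹) = R * lam R x * R⁻¹ := by
  simp only [lam, ← conj_mul]

theorem lam_c : lam R c = c := by
  have : R * c * R⁻¹ = c := by rw [C.cen, mul_inv_cancel_right]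
  rw [lam, this, this, C.cc, one_mul]

theorem lam_sV {x : Γ} (hx : π x ∈ B.V) : lam R (R * x * R⁻¹) = lam R x := by
  rw [lam_cj, C.zc (C.lamV hx), mul_inv_cancel_right]

theorem lam_invV {x : Γ} (hx : π x ∈ B.V) (e : lam R x = 1) : lam R x⁻¹ = 1 := by
  have := C.lam_mulV hx (x := x) (y := x⁻¹) (by rw [map_inv]; exact inv_mem hx)
  rw [mul_inv_cancel, lam_one, e, one_mul] at this
  exact this.symm

theorem g2 {x : Γ} (hx : π x ∈ B.V) : x * x = 1 := by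
  have p2 : π (x * x) = 1 := by
    obtain ⟨t, e⟩ := (mem_V C.rel).1 hx
    rw [map_mul, e, sq_of C.rel.vv]
  have h1 : lam R (x * x) = 1 := by
    rw [C.lam_mulV hx hx]
    rcases C.ker _ (C.lamV hx) with e | e <;> rw [e]
    exacts [one_mul 1, C.cc]
  rcases C.ker _ p2 with e | e
  · exact e
  · rw [e, C.lam_c] at h1
    exact absurd h1 C.c1

theorem qP {x : Γ} {s : Q4} {r : F4} (e : π x = qq B s r) : π x ∈ B.P := e ▸ qqP s r

theorem liftq (s : Q4) (r : F4) : ∃ x, π x = qq B s r := C.surj _ (P_le_A C.rel (qqP s r))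

theorem cm_eq {x y : Γ} {s s' : Q4} {r r' : F4} (e : π x = qq B s r) (e' : π y = qq B s' r') :
    π ⁅x, y⁆ = B.xv (β s s') := by
  rw [map_commutatorElement, e, e', commutatorElement_def, qq_comm C.rel]; group

theorem cmV {x y : Γ} {s s' : Q4} {r r' : F4} (e : π x = qq B s r) (e' : π y = qq B s' r') :
    π ⁅x, y⁆ ∈ B.V := C.cm_eq e e' ▸ C.vV _

theorem wd1 {x x' y : Γ} {s : Q4} {r r1 : F4} (e : π x = qq B s r) (e' : π x' = qq B s r1)
    (hy : π y ∈ B.P) : ⁅x', y⁆ = ⁅x, y⁆ := by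
  have hv : π (x⁻¹ * x') ∈ B.V := by
    rw [map_mul, map_inv, e, e', qq_inv C.rel, qq_mul C.rel, qq_mem_V C.rel]
    obtain ⟨a, b, c, d⟩ := s
    simp [aa]
  obtain ⟨v, rfl⟩ : ∃ v, x' = x * v := ⟨x⁻¹ * x', by group⟩
  rw [inv_mul_cancel_left] at hv
  rw [commutatorElement_def, commutatorElement_def, mul_assoc x v y, ← C.g1 hy hv]; group

theorem wd {x x' y y' : Γ} {s s' : Q4} {r r1 r' r1' : F4} (e : π x = qq B s r)
    (e1 : π x' = qq B s r1) (f : π y = qq B s' r') (f1 : π y' = qq B s' r1') :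
    ⁅x', y'⁆ = ⁅x, y⁆ := by
  rw [C.wd1 e e1 (C.qP f1), ← commutatorElement_inv, C.wd1 f f1 (C.qP e), commutatorElement_inv]

theorem cm_mul {x x' y : Γ} {s s' : Q4} {r r' : F4} (hx : π x ∈ B.P) (e : π x' = qq B s r)
    (f : π y = qq B s' r') : ⁅x * x', y⁆ = ⁅x', y⁆ * ⁅x, y⁆ := by
  calc _ = x * ⁅x', y⁆ * x⁻¹ * ⁅x, y⁆ := by simp only [commutatorElement_def]; group
    _ = _ := by rw [C.g1 hx (C.cmV e f), mul_inv_cancel_right]

end Ctx

/-- All commutators of lifts have norm one. -/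
def E (π : Γ →* H) (B : RD H) (R : Γ) (s s' : Q4) : Prop :=
  ∀ x y r r', π x = qq B s r → π y = qq B s' r' → lam R ⁅x, y⁆ = 1

theorem span4 : ∀ s : Q4, ∃ u t0 t1 t2 : F4,
    s = (0, 0, 0, u) + bA 0 (t0, 0, 0, 0) + bA 1 (t1, 0, 0, 0) + bA om (t2, 0, 0, 0) := by
  rintro ⟨a, b, c, d⟩
  refine ⟨d + (b + om * (b + c)) + (b + c), a + (b + om * (b + c)) + (b + c), b + om * (b + c),
    b + c, ?_⟩
  revert a b c d
  decide +kernel

theorem bHA : ∀ t a : F4, bH (bA t (a, 0, 0, 0)) = bA (om ^ 2 * t) (a, 0, 0, 0) := by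
  decide +kernel
theorem bAA : ∀ t t' a : F4, bA t' (bA (t + t') (a, 0, 0, 0)) = bA t (a, 0, 0, 0) := by
  decide +kernel
theorem om1 : om = om ^ 2 * (om ^ 2 * 1) := by decide +kernel

namespace Ctx

variable {π : Γ →* H} {B : RD H} {c R : Γ} (C : Ctx π B c R)
include C

theorem E_of {x y : Γ} {s s' : Q4} {r r' : F4} (e : π x = qq B s r) (f : π y = qq B s' r')
    (h : lam R ⁅x, y⁆ = 1) : E π B R s s' := fun _ _ _ _ e1 f1 => by rw [C.wd e e1 f f1, h]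

theorem E_symm {s s' : Q4} (h : E π B R s s') : E π B R s' s := fun x y r r' e f => by
  rw [← commutatorElement_inv]
  exact C.lam_invV (C.cmV f e) (h _ _ _ _ f e)

theorem E_add {s1 s2 s' : Q4} (h1 : E π B R s1 s') (h2 : E π B R s2 s') :
    E π B R (s1 + s2) s' := by
  obtain ⟨x1, e1⟩ := C.liftq s1 0
  obtain ⟨x2, e2⟩ := C.liftq s2 0
  obtain ⟨y, f⟩ := C.liftq s' 0
  refine C.E_of (x := x1 * x2) (by rw [map_mul, e1, e2, qq_mul C.rel]) f ?_
  rw [C.cm_mul (C.qP e1) e2 f, C.lam_mulV (C.cmV e2 f) (C.cmV e1 f), h1 _ _ _ _ e1 f,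
    h2 _ _ _ _ e2 f, one_mul]

theorem E_zero (s : Q4) : E π B R 0 s := by
  obtain ⟨y, f⟩ := C.liftq s 0
  refine C.E_of (x := 1) (r := 0) (by rw [map_one, ← qqv C.rel, zero_of C.rel.vv]) f ?_
  rw [commutatorElement_one_left, lam_one]

theorem E_act {p : H} (hp : p ∈ B.P) {f : Q4 → Q4} (ha : Act (qq B) p f) {s s' : Q4}
    (h : E π B R s s') : E π B R (f s) (f s') := by
  obtain ⟨g, rfl⟩ := C.surj _ (P_le_A C.rel hp)
  obtain ⟨x, e⟩ := C.liftq s 0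
  obtain ⟨y, e'⟩ := C.liftq s' 0
  obtain ⟨r, e1⟩ := ha s 0
  obtain ⟨r', e2⟩ := ha s' 0
  refine C.E_of (x := g * x * g⁻¹) (y := g * y * g⁻¹) (by rw [C.pcj, e, e1])
    (by rw [C.pcj, e', e2]) ?_
  rw [← conjugate_commutatorElement, C.g1 hp (C.cmV e e'), mul_inv_cancel_right, h _ _ _ _ e e']

theorem E_R {s s' : Q4} (h : E π B R s s') : E π B R (bR s) (bR s') := by
  obtain ⟨x, e⟩ := C.liftq s 0
  obtain ⟨y, e'⟩ := C.liftq s' 0
  obtain ⟨r, e1⟩ := actR C.rel s 0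
  obtain ⟨r', e2⟩ := actR C.rel s' 0
  refine C.E_of (x := R * x * R⁻¹) (y := R * y * R⁻¹) (by rw [C.pcj, C.pR, e, e1])
    (by rw [C.pcj, C.pR, e', e2]) ?_
  rw [← conjugate_commutatorElement, C.lam_sV (C.cmV e e'), h _ _ _ _ e e']

theorem ee {x y : Γ} {t u : F4} (e : π x = B.xe t) (f : π y = B.xe u) : ⁅x, y⁆ = 1 := by
  obtain ⟨n, hn⟩ := C.surj _ (nbA (D := B))
  have h1 : π (n * x * n⁻¹) ∈ B.V := by rw [C.pcj, hn, e, cj (C.rel.nbe t)]; exact C.vV _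
  have h2 : π (n * y * n⁻¹) ∈ B.V := by rw [C.pcj, hn, f, cj (C.rel.nbe u)]; exact C.vV _
  have := commutatorElement_eq_one_iff_mul_comm.2 (C.g1 (C.VP h1) h2)
  rwa [← conjugate_commutatorElement, conj_eq_one_iff] at this

theorem E_ee (t u : F4) : E π B R (0, 0, 0, t) (0, 0, 0, u) := by
  obtain ⟨x, e⟩ := C.liftq (0, 0, 0, t) 0
  obtain ⟨y, e'⟩ := C.liftq (0, 0, 0, u) 0
  refine C.E_of e e' ?_
  rw [C.ee (e.trans (qe C.rel t).symm) (e'.trans (qe C.rel u).symm), lam_one]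

theorem E_all (h : ∀ t u, E π B R (t, 0, 0, 0) (0, 0, 0, u)) (s s' : Q4) : E π B R s s' := by
  have hA : ∀ t {s s'}, E π B R s s' → E π B R (bA t s) (bA t s') :=
    fun t => C.E_act (xaP t) (actA C.rel t)
  have hN : ∀ {s s'}, E π B R s s' → E π B R (bN s) (bN s') := C.E_act naP (actN C.rel)
  have hH : ∀ {s s'}, E π B R s s' → E π B R (bH s) (bH s') :=
    C.E_act (p := B.ha) (mul_mem (mul_mem (mul_mem (mul_mem (mul_mem (xaP _) naP) (xaP _))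
      naP) (xaP _)) naP) (actH C.rel)
  have b1 : ∀ t a u, E π B R (bA t (a, 0, 0, 0)) (0, 0, 0, u) := fun t a u => by
    have := hA t (h a u)
    rwa [show bA t (0, 0, 0, u) = (0, 0, 0, u) by simp [bA]] at this
  have b2 : ∀ a a', E π B R (bA 1 (a, 0, 0, 0)) (a', 0, 0, 0) := fun a a' => by
    have := hN (b1 1 a a')
    rwa [show bN (bA 1 (a, 0, 0, 0)) = bA 1 (a, 0, 0, 0) by simp [bA, bN]] at this
  have b3 : ∀ t a a', E π B R (bA t (a, 0, 0, 0)) (a', 0, 0, 0) →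
      E π B R (bA (om ^ 2 * t) (a, 0, 0, 0)) (a', 0, 0, 0) := fun t a a' h1 => by
    have := hH h1
    rwa [bHA, show bH (a', 0, 0, 0) = (a', 0, 0, 0) by simp [bH]] at this
  have b4 : ∀ t a a', E π B R (bA t (a, 0, 0, 0)) (a', 0, 0, 0) := fun t a a' => by
    rcases cases4 t with rfl | rfl | rfl | rfl
    · have := hN (C.E_ee a a')
      rwa [show bA 0 (a, 0, 0, 0) = (a, 0, 0, 0) by simp [bA]]
    · exact b2 a a'
    · rw [om1]; exact b3 _ _ _ (b3 _ _ _ (b2 a a'))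
    · rw [← mul_one (om ^ 2)]; exact b3 _ _ _ (b2 a a')
  have b5 : ∀ t t' a a', E π B R (bA t (a, 0, 0, 0)) (bA t' (a', 0, 0, 0)) := fun t t' a a' => by
    have := hA t' (b4 (t + t') a a')
    rwa [bAA] at this
  have b6 : ∀ s, (∀ u, E π B R (0, 0, 0, u) s) → (∀ t a, E π B R (bA t (a, 0, 0, 0)) s) →
      ∀ s', E π B R s' s := fun s h1 h2 s' => by
    obtain ⟨u, t0, t1, t2, rfl⟩ := span4 s'
    exact C.E_add (C.E_add (C.E_add (h1 _) (h2 _ _)) (h2 _ _)) (h2 _ _)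
  exact b6 s' (fun u => C.E_symm (b6 _ (fun u' => C.E_ee u' u) (fun t a => b1 t a u) s'))
    (fun t a => C.E_symm (b6 _ (fun u => C.E_symm (b1 t a u)) (fun t' a' => b5 t' t a' a) s')) s

end Ctx

end Cfsg.Agent.H28.AcG
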