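import Mathlib
import Cfsg.Agent.H28.AcGa

/-!
# The double cover of `G₂(4)`: lifts of the root groups (project AC, piece GD), part two
-/

set_option autoImplicit false
set_option maxRecDepth 100000
set_option synthInstance.maxSize 2000

namespace Cfsg.Agent.H28.AcG

open Subgroup H44.AP
open H42.AS (RD om)
open scoped commutatorElement

universe u

variable {Γ H : Type u} [Group Γ] [Group H]

/-- The unipotent subgroup. -/
def UU {B : RD H} (h : B.Rel) : Subgroup H where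
  carrier := {g | ∃ s r t, g = qq B s r * B.xa t}
  one_mem' := ⟨0, 0, 0, by rw [← qqv h, zero_of h.vv, zero_of h.aa, one_mul]⟩
  mul_mem' := by
    rintro _ _ ⟨s, r, t, rfl⟩ ⟨s', r', t', rfl⟩
    obtain ⟨r1, e⟩ := actA h t s' r'
    exact ⟨_, _, t + t', by rw [← qq_mul h s (bA t s') r r1, ← e, h.aa]; group⟩
  inv_mem' := by
    rintro _ ⟨s, r, t, rfl⟩
    obtain ⟨r1, e⟩ := actA h t s (r + s.2.2.2 * s.1 + s.2.2.1 * s.2.1)
    exact ⟨_, r1, t, by rw [← e, ← qq_inv h, mul_inv_rev, inv_mul_cancel_right, inv_of h.aa]⟩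

theorem card_UU {B : RD H} (h : B.Rel) : Nat.card (UU h) = 4096 := by
  have e0 : Nat.card (Q4 × F4 × F4) = 4096 := by simp [card_F4]
  rw [← e0]
  refine (Nat.card_eq_of_bijective (fun y : Q4 × F4 × F4 =>
    (⟨qq B y.1 y.2.1 * B.xa y.2.2, _, _, _, rfl⟩ : UU h)) ⟨?_, ?_⟩).symm
  · rintro ⟨s, r, t⟩ ⟨s', r', t'⟩ e
    have e1 : qq B s r * B.xa t = qq B s' r' * B.xa t' := congrArg Subtype.val e
    have e2 : B.xa (t + t') * ((qq B s' r')⁻¹ * qq B s r) = 1 := by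
      rw [mul_eq_one_comm, h.aa, mul_assoc, ← mul_assoc (qq B s r), e1, mul_assoc, sq_of h.aa]
      group
    rw [qq_inv h, qq_mul h, qq, q] at e2
    simp only [← mul_assoc] at e2
    have k : ∀ x y : F4, x + y = 0 → x = y := by decide +kernel
    obtain rfl := k _ _ (h.nf _ _ _ _ _ _ e2).1
    obtain ⟨rfl, rfl⟩ := qq_inj h (mul_right_cancel e1)
    rfl
  · rintro ⟨_, s, r, t, rfl⟩
    exact ⟨(s, r, t), rfl⟩

namespace Ctx

variable {π : Γ →* H} {B : RD H} {c R : Γ} (C : Ctx π B c R)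
include C

theorem sQ {x : Γ} {s : Q4} {r : F4} (e : π x = qq B s r) :
    ∃ r', π (R * x * R⁻¹) = qq B (bR s) r' := by
  rw [C.pcj, C.pR, e]; exact actR C.rel s r

theorem mulQ {x y : Γ} {s s' : Q4} {r r' : F4} (e : π x = qq B s r) (f : π y = qq B s' r') :
    ∃ r1, π (x * y) = qq B (s + s') r1 := ⟨_, by rw [map_mul, e, f, qq_mul C.rel]⟩

theorem lamQ {x : Γ} {s : Q4} {r : F4} (e : π x = qq B s r) : π (lam R x) ∈ B.V := by
  obtain ⟨r1, e1⟩ := C.sQ e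
  obtain ⟨r2, e2⟩ := C.sQ e1
  rw [lam, map_mul, map_mul, e, e1, e2, qq_mul C.rel, qq_mul C.rel, qq_mem_V C.rel, bR3]

theorem mu_mul (hE : ∀ s s', E π B R s s') {x y : Γ} {s s' : Q4} {r r' : F4}
    (e : π x = qq B s r) (f : π y = qq B s' r') :
    lam R (lam R (x * y)) = lam R (lam R x) * lam R (lam R y) := by
  obtain ⟨r1, e1⟩ := C.sQ e
  obtain ⟨r2, e2⟩ := C.sQ e1
  obtain ⟨r3, f1⟩ := C.sQ f
  obtain ⟨r4, f2⟩ := C.mulQ f f1
  have v1 := C.cmV f e1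
  have v2 := C.cmV f2 e2
  have key : lam R (x * y) = ⁅y, R * x * R⁻¹⁆ * ⁅y * (R * y * R⁻¹), R * (R * x * R⁻¹) * R⁻¹⁆ *
      (lam R x * lam R y) := by
    have c1 := C.g1 (C.qP e) v1
    have c2 := C.g1 (a := x * (R * x * R⁻¹)) (by rw [map_mul]; exact mul_mem (C.qP e) (C.qP e1)) v2
    rw [lam_mul, lam, lam]
    generalize R * (R * x * R⁻¹) * R⁻¹ = x2 at *
    generalize R * x * R⁻¹ = x1 at *
    generalize R * (R * y * R⁻¹) * R⁻¹ = y2 at *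
    generalize R * y * R⁻¹ = y1 at *
    calc _ = x * ⁅y, x1⁆ * x1 * (y * y1) * x2 * y2 := by rw [commutatorElement_def]; group
      _ = ⁅y, x1⁆ * (x * x1 * ⁅y * y1, x2⁆) * x2 * (y * y1) * y2 := by
        rw [c1, commutatorElement_def (y * y1)]; group
      _ = _ := by rw [c2]; group
  rw [key, C.lam_mulV (by rw [map_mul]; exact mul_mem v1 v2)
    (by rw [map_mul]; exact mul_mem (C.lamQ e) (C.lamQ f)), C.lam_mulV v1 v2,
    hE _ _ _ _ _ _ f e1, hE _ _ _ _ _ _ f2 e2, one_mul, one_mul, C.lam_mulV (C.lamQ e) (C.lamQ f)]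

/-- The kernel of the norm on the lift of `Q`. -/
def Q1 (hE : ∀ s s', E π B R s s') : Subgroup Γ where
  carrier := {x | (∃ s r, π x = qq B s r) ∧ lam R (lam R x) = 1}
  one_mem' := ⟨⟨0, 0, by rw [← qqv C.rel, zero_of C.rel.vv, map_one]⟩, by rw [lam_one, lam_one]⟩
  mul_mem' := by
    rintro x y ⟨⟨s, r, e⟩, h1⟩ ⟨⟨s', r', f⟩, h2⟩
    exact ⟨⟨_, _, by rw [map_mul, e, f, qq_mul C.rel]⟩, by rw [C.mu_mul hE e f, h1, h2, one_mul]⟩
  inv_mem' := by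
    rintro x ⟨⟨s, r, e⟩, h1⟩
    obtain ⟨r1, f⟩ : ∃ r1, π x⁻¹ = qq B s r1 := ⟨_, by rw [map_inv, e, qq_inv C.rel]⟩
    have := C.mu_mul hE e f
    rw [mul_inv_cancel, lam_one, lam_one, h1, one_mul] at this
    exact ⟨⟨_, _, f⟩, this.symm⟩

theorem Q1_cj (hE : ∀ s s', E π B R s s') {a x : Γ} {t : F4} (ha : π a = B.xa t)
    (hx : x ∈ C.Q1 hE) : a * x * a⁻¹ ∈ C.Q1 hE := by
  obtain ⟨⟨s, r, e⟩, h1⟩ := hx
  obtain ⟨r1, e1⟩ := actA C.rel t s r
  refine ⟨⟨_, r1, by rw [C.pcj, ha, e, e1]⟩, ?_⟩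
  have k : ∀ y, R * (a * y * a⁻¹) * R⁻¹ = a * (R * y * R⁻¹) * a⁻¹ := fun y => by
    rw [← C.cj_same (x := a) (y := R * a * R⁻¹) (by rw [C.pcj, C.pR, ha, cj (C.rel.ra t)])
      (R * y * R⁻¹)]
    group
  have : lam R (a * x * a⁻¹) = lam R x := by
    rw [lam, k, k, conj_mul, conj_mul, ← lam, C.g1 (ha ▸ xaP t) (C.lamQ e), mul_inv_cancel_right]
  rw [this, h1]

theorem aa_comm (hE : ∀ s s', E π B R s s') {a a' : Γ} {t t' : F4} (ha : π a = B.xa t)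
    (ha' : π a' = B.xa t') : a * a' = a' * a := by
  obtain ⟨n, hn⟩ := C.surj _ (nbA (D := B))
  have h1 : π (n * a * n⁻¹) = qq B (0, t, 0, 0) 0 := by
    rw [C.pcj, hn, ha, cj (C.rel.nba t)]; exact qc C.rel t
  have h2 : π (n * a' * n⁻¹) = qq B (0, t', 0, 0) 0 := by
    rw [C.pcj, hn, ha', cj (C.rel.nba t')]; exact qc C.rel t'
  have h3 := hE _ _ _ _ _ _ h1 h2
  have h4 := C.cm_eq h1 h2
  rw [show β (0, t, 0, 0) (0, t', 0, 0) = 0 by simp [β], zero_of C.rel.vv] at h4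
  rcases C.ker _ h4 with e | e
  · rwa [← conjugate_commutatorElement, conj_eq_one_iff,
      commutatorElement_eq_one_iff_mul_comm] at e
  · rw [e, C.lam_c] at h3
    exact absurd h3 C.c1

theorem split (hE : ∀ s s', E π B R s s') {x : Γ} (hx : π x ∈ UU C.rel) :
    ∃ q ∈ C.Q1 hE, ∃ a t, π a = B.xa t ∧ x = q * a := by
  obtain ⟨s, r, t, e⟩ := hx
  obtain ⟨a, ha⟩ := C.surj _ (xaA (D := B) t)
  have e1 : π (x * a⁻¹) = qq B s r := by rw [map_mul, map_inv, e, ha, mul_inv_cancel_right]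
  rcases C.ker _ (C.lamV (C.lamQ e1)) with h1 | h1
  · exact ⟨_, ⟨⟨s, r, e1⟩, h1⟩, a, t, ha, by group⟩
  · refine ⟨x * a⁻¹ * c, ⟨⟨s, r, by rw [map_mul, e1, C.pc, mul_one]⟩, ?_⟩, c * a, t,
      by rw [map_mul, C.pc, one_mul, ha], ?_⟩
    · rw [C.mu_mul hE e1 (s' := 0) (r' := 0) (by rw [C.pc, ← qqv C.rel, zero_of C.rel.vv]), h1,
        C.lam_c, C.lam_c, C.cc]
    · rw [mul_assoc, ← mul_assoc c, C.cc]; group

theorem not_all [Finite Γ] (hr : π.range = B.A) (hp : ⁅(⊤ : Subgroup Γ), (⊤ : Subgroup Γ)⁆ = ⊤)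
    (hc : Nat.card B.A = 251596800) (hE : ∀ s s', E π B R s s') : False := by
  have hle : UU C.rel ≤ B.A := by
    rintro _ ⟨s, r, t, rfl⟩
    exact mul_mem (P_le_A C.rel (qqP s r)) (xaA t)
  have hS : H8.IsSylowIn 2 ((UU C.rel).comap π) ⊤ := by
    refine ⟨le_top, IsPGroup.comap_of_ker_isPGroup (IsPGroup.of_card (n := 12) (card_UU C.rel)) π
      fun x => ⟨1, Subtype.ext ?_⟩, ?_⟩
    · rcases C.ker x x.2 with e | e
      · simp [e]
      · simp [e, pow_two, C.cc]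
    · have := H8.card_eq_card_mul_relIndex hle
      rw [relIndex_top_right, index_comap, hr]
      rw [hc, card_UU] at this
      omega
  have h1 := H42.AC.tr hp hS (z := c) (by rw [mem_comap, C.pc]; exact one_mem _)
    (mem_centralizer_iff.2 fun x _ => C.cen x)
  have h2 : ⁅(UU C.rel).comap π, (UU C.rel).comap π⁆ ≤ C.Q1 hE := by
    rw [commutator_le]
    intro x hx y hy
    obtain ⟨q, hq, a, t, ha, rfl⟩ := C.split hE hx
    obtain ⟨q', hq', a', t', ha', rfl⟩ := C.split hE hy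
    have := mul_mem (mul_mem (mul_mem hq (C.Q1_cj hE ha hq')) (C.Q1_cj hE ha' (inv_mem hq)))
      (inv_mem hq')
    convert this using 1
    calc _ = q * a * q' * (a' * a⁻¹) * q⁻¹ * a'⁻¹ * q'⁻¹ := by rw [commutatorElement_def]; group
      _ = _ := by
        rw [show a' * a⁻¹ = a⁻¹ * a' by
          rw [mul_inv_eq_iff_eq_mul, mul_assoc, ← C.aa_comm hE ha ha', inv_mul_cancel_left]]
        group
  have h3 := (h2 h1).2
  rw [C.lam_c, C.lam_c] at h3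
  exact C.c1 h3

theorem g3 [Finite Γ] (hr : π.range = B.A) (hp : ⁅(⊤ : Subgroup Γ), (⊤ : Subgroup Γ)⁆ = ⊤)
    (hc : Nat.card B.A = 251596800) {w : Γ} {s : F4} (hs : s ≠ 0) (hw : π w = B.xv s) :
    ∃ b e t u, π b = B.xb t ∧ π e = B.xe u ∧ ⁅b, e⁆ = w := by
  by_contra hn
  push Not at hn
  have k1 : ∀ {t u b e r r'}, t * u = s → π b = qq B (t, 0, 0, 0) r → π e = qq B (0, 0, 0, u) r' →
      ⁅b, e⁆ = w * c := fun {t u b e r r'} h1 hb he => by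
    obtain ⟨b0, hb0⟩ := C.liftq (t, 0, 0, 0) 0
    obtain ⟨e0, he0⟩ := C.liftq (0, 0, 0, u) 0
    rw [C.wd hb0 hb he0 he]
    have h2 := C.cm_eq hb0 he0
    rw [show β (t, 0, 0, 0) (0, 0, 0, u) = s by simp [β, ← h1, mul_comm], ← hw] at h2
    obtain ⟨z, hz, e1⟩ := C.same h2.symm
    rcases C.ker z hz with rfl | rfl
    · exact absurd (e1.trans (mul_one w))
        (hn _ _ t u (hb0.trans (qb C.rel t).symm) (he0.trans (qe C.rel u).symm))
    · exact e1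
  have k2 : lam R (w * c) = 1 := by
    obtain ⟨y, hy⟩ := C.liftq (0, 0, 0, 1) 0
    obtain ⟨x0, h0⟩ := C.liftq (s, 0, 0, 0) 0
    obtain ⟨x1, h1⟩ := C.liftq (s * om, 0, 0, 0) 0
    obtain ⟨x2, h2⟩ := C.liftq (s * om ^ 2, 0, 0, 0) 0
    obtain ⟨y1, f1⟩ := C.liftq (0, 0, 0, om ^ 2) 0
    obtain ⟨y2, f2⟩ := C.liftq (0, 0, 0, om) 0
    have a1 : ∀ s : F4, s * om * om ^ 2 = s ∧ s * om ^ 2 * om = s ∧
      bR (bR (s * om ^ 2, 0, 0, 0)) + bR (s * om, 0, 0, 0) + (s, 0, 0, 0) = 0 := by decide +kernel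
    have a2 : bR (0, 0, 0, om ^ 2) = (0, 0, 0, 1) ∧ bR (bR (0, 0, 0, om)) = (0, 0, 0, 1) := by
      decide +kernel
    obtain ⟨r1, p1⟩ := C.sQ h1
    obtain ⟨r2, p2⟩ := C.sQ f1
    obtain ⟨r3, p3⟩ := C.sQ h2
    obtain ⟨r4, p4⟩ := C.sQ p3
    obtain ⟨r5, p5⟩ := C.sQ f2
    obtain ⟨r6, p6⟩ := C.sQ p5
    rw [a2.1] at p2
    rw [a2.2] at p6
    have e0 := k1 (mul_one s) h0 hy
    have e1 : R * (w * c) * R⁻¹ = ⁅R * x1 * R⁻¹, y⁆ := by
      rw [← k1 (a1 s).1 h1 f1, conjugate_commutatorElement, C.wd p1 p1 hy p2]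
    have e2 : R * (R * (w * c) * R⁻¹) * R⁻¹ = ⁅R * (R * x2 * R⁻¹) * R⁻¹, y⁆ := by
      rw [← k1 (a1 s).2.1 h2 f2, conjugate_commutatorElement, conjugate_commutatorElement,
        C.wd p4 p4 hy p6]
    obtain ⟨r7, p7⟩ := C.mulQ p4 p1
    obtain ⟨r8, p8⟩ := C.mulQ p7 h0
    rw [(a1 s).2.2] at p8
    rw [lam, e2, e1, ← e0, mul_assoc, ← C.cm_mul (C.qP p4) p1 hy, ← C.cm_mul (C.qP p7) h0 hy,
      C.wd1 (x := 1) (r := 0) (by rw [map_one, ← qqv C.rel, zero_of C.rel.vv]) p8 (C.qP hy),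
      commutatorElement_one_left]
  have k3 : ∀ t u, t * u = s → E π B R (t, 0, 0, 0) (0, 0, 0, u) := fun t u h1 _ _ _ _ hb he => by
    rw [k1 h1 hb he, k2]
  have k4 : ∀ t u, E π B R (t, 0, 0, 0) (0, 0, 0, u) →
      E π B R (om * t, 0, 0, 0) (0, 0, 0, om * u) := fun t u h1 => by
    simpa [bR] using C.E_R h1
  refine C.not_all hr hp hc (C.E_all fun t u => ?_)
  have a3 : ∀ s t u : F4, s ≠ 0 → t = 0 ∨ u = 0 ∨ t * u = s ∨ om * t * (om * u) = s ∨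
    om ^ 2 * t * (om ^ 2 * u) = s := by decide +kernel
  have a4 : ∀ t : F4, om * (om ^ 2 * t) = t ∧ om * (om * (om * t)) = t := by decide +kernel
  rcases a3 s t u hs with rfl | rfl | h1 | h1 | h1
  · exact C.E_zero _
  · exact C.E_symm (C.E_zero _)
  · exact k3 _ _ h1
  · have := k4 _ _ (k4 _ _ (k3 _ _ h1))
    rwa [(a4 t).2, (a4 u).2] at this
  · have := k4 _ _ (k3 _ _ h1)
    rwa [(a4 t).1, (a4 u).1] at this

end Ctx

open H42.AL in
theorem gd : GDStmt.{u} := fun G H _ _ _ _ A B p c C hc => by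
  let π : A →* H := C.cov.hom.comp (inclusion le_normalizer)
  have hπ : ∀ x : A, π x = p x := fun _ => rfl
  have hs : ∀ h ∈ B.A, ∃ x, π x = h := fun h hh => by
    obtain ⟨a, ha, e⟩ := (C.cov.img h).1 hh
    exact ⟨⟨a, ha⟩, e⟩
  obtain ⟨R, hR⟩ := hs _ (rhoA (D := B))
  have X : Ctx π B ⟨c, C.cA⟩ R :=
    { rel := C.fa.rel
      cen := fun x => Subtype.ext (H42.AC.K_comm C.cK x.2)
      c1 := fun e => C.c1 (congrArg Subtype.val e)
      pc := C.cov.K C.cK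
      ker := fun x e => (C.cen x x.2 ((C.cov.ker _ (le_normalizer x.2)).1 e)).imp
        (fun e => Subtype.ext e) fun e => Subtype.ext e
      surj := hs
      perfP := C.fa.par.perfP
      pR := hR }
  refine ⟨fun a ha x hx h1 h2 => congrArg Subtype.val (X.g1 (a := ⟨a, ha⟩) (x := ⟨x, hx⟩) h1 h2),
    fun a ha x hx h1 h2 => ?_, fun x hx h1 => congrArg Subtype.val (X.g2 (x := ⟨x, hx⟩) h1),
    fun w hw s hs0 h1 => ?_⟩
  · obtain ⟨t, e⟩ := (mem_X X.rel).1 h2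
    refine congrArg Subtype.val (X.lift_cen C.fa.par.perfPS ?_ (a := ⟨a, ha⟩) (x := ⟨x, hx⟩)
      (fun s hs => by rw [hπ, e]; exact d_cen X.rel t hs) h1)
    refine (closure_le _).2 ?_
    rintro _ (((⟨t, rfl⟩ | ⟨t, rfl⟩) | ⟨t, rfl⟩) | rfl)
    exacts [xeA X.rel t, xvA X.rel t, xbA t, nbA]
  · obtain ⟨b, e, t, u, h2, h3, h4⟩ := X.g3 (w := ⟨w, hw⟩)
      (le_antisymm (by rintro _ ⟨x, rfl⟩; exact C.cov.memB x.2) hs)
      C.cov.std.1.1.commutator_eq_top hc hs0 h1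
    exact ⟨b, b.2, e, e.2, t, u, h2, h3, congrArg Subtype.val h4⟩

end Cfsg.Agent.H28.AcG
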