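import Mathlib
import Cfsg.Agent.H42.ASDefs

/-!
# The stabilizer of a singular vector; the action on an extraspecial group
-/

set_option autoImplicit false

namespace Cfsg.Agent.H28.AsQ

open Subgroup H30 H42.AS QuadraticMap

universe u

section Geo

variable {F V V' : Type*} [Field F] [AddCommGroup V] [Module F V] [FiniteDimensional F V]
  [AddCommGroup V'] [Module F V'] [FiniteDimensional F V'] {Q : QuadraticForm F V}
  {Q' : QuadraticForm F V'} (hQ : (polarBilin Q).Nondegenerate)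
include hQ

omit [FiniteDimensional F V] in
theorem uniq0 {φ ψ : O (hypExt Q)} (h : ∀ n s, φ.1 (n, s, 0) = ψ.1 (n, s, 0)) : φ = ψ := by
  have k : ∀ n s, (ψ⁻¹ * φ).1 (n, s, 0) = (n, s, 0) := fun n s => by
    rw [O_mul_apply, h, O_inv_apply]
  rw [← inv_mul_eq_one.1 (O_ext fun x => ?_ : ψ⁻¹ * φ = 1)]
  generalize ψ⁻¹ * φ = χ at k
  have h1 := O_polar χ (0, 0, 1) (0, 1, 0)
  have h2 := fun n => O_polar χ (0, 0, 1) (n, 0, 0)
  have h3 := O_map χ (0, 0, 1)
  simp only [k, polar_hypExt, hypExt_apply, polar_zero_right, polar_zero_left, mul_zero, mul_one,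
    zero_add, add_zero, map_zero] at h1 h2 h3
  have h4 := eq_zero_of_polar hQ h2
  rw [h4, h1, map_zero, zero_add, mul_one] at h3
  have h5 : χ.1 (0, 0, 1) = (0, 0, 1) := Prod.ext h4 (Prod.ext h3 h1)
  rw [show x = (x.1, x.2.1, 0) + x.2.2 • ((0, 0, 1) : V × F × F) by simp, map_add, map_smul, k, h5]
  rfl

theorem stab0 {φ : O (hypExt Q)} (hu : φ.1 (0, 1, 0) = (0, 1, 0)) : ∃ (g : O Q) (m : V),
    dickson (hypExt_nondegenerate hQ) φ = dickson hQ g ∧
      ∀ n s, φ.1 (n, s, 0) = (g.1 n, s - polar Q (g.1 n) m, 0) := by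
  have h1 : ∀ n, (φ.1 (n, 0, 0)).2.2 = 0 := fun n => by
    simpa [hu, polar_hypExt] using O_polar φ (n, 0, 0) (0, 1, 0)
  let g0 : V →ₗ[F] V := LinearMap.fst F _ _ ∘ₗ φ.1.toLinearMap ∘ₗ LinearMap.inl F _ _
  have h2 : ∀ n, Q (g0 n) = Q n := fun n => by
    have := O_map φ (n, 0, 0)
    rwa [hypExt_apply, hypExt_apply, h1, mul_zero, mul_zero, add_zero, add_zero] at this
  have h3 : Function.Injective g0 := (injective_iff_map_eq_zero g0).2 fun n hn =>
    eq_zero_of_polar hQ fun n' => by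
      have := O_polar φ (n, 0, 0) (n', 0, 0)
      rw [polar_hypExt, show (φ.1 (n, 0, 0)).1 = 0 from hn] at this
      simpa [h1, polar_hypExt] using this.symm
  let g : O Q := ⟨LinearEquiv.ofInjectiveEndo g0 h3, h2⟩
  have h4 : (φ.1 (0, 0, 1)).2.2 = 1 := by
    simpa [hu, polar_hypExt] using O_polar φ (0, 0, 1) (0, 1, 0)
  have h5 : ∀ n s, φ.1 (n, s, 0) = (g.1 n, s - polar Q (g.1 n) (φ.1 (0, 0, 1)).1, 0) := by
    intro n s
    have h6 := O_polar φ (n, 0, 0) (0, 0, 1)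
    simp only [polar_hypExt, h1, h4, polar_zero_right, mul_zero, mul_one, zero_mul,
      add_zero] at h6
    rw [show ((n, s, 0) : V × F × F) = (n, 0, 0) + s • ((0, 1, 0) : V × F × F) by simp, map_add,
      map_smul, hu]
    refine Prod.ext (by simp; rfl) (Prod.ext ?_ (by simp [h1]))
    change _ + s * 1 = s - polar Q (φ.1 (n, 0, 0)).1 _
    linear_combination h6
  refine ⟨g, _, ?_, h5⟩
  have h6 := uniq0 hQ (φ := φ)
    (ψ := eich (hypExt Q) (0, 1, 0) ((φ.1 (0, 0, 1)).1, 0, 0) * hypExtHom Q g) fun n s => by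
      rw [h5, O_mul_apply, eich_apply_of_orth_left (by simp [hypExt_apply]) (by simp [polar_hypExt])
        (by simp [polar_hypExt, hypExtHom])]
      simp [polar_hypExt, hypExtHom]
  rw [h6, map_mul, dickson_eich, one_mul]
  exact dsign_hypExtHom g

variable (e : (hypExt Q).IsometryEquiv Q')

omit [FiniteDimensional F V] [FiniteDimensional F V'] in
theorem uniq {φ ψ : O Q'} (h : ∀ n s, φ.1 (e (n, s, 0)) = ψ.1 (e (n, s, 0))) : φ = ψ := by
  obtain ⟨φ, rfl⟩ := (OCongr e).surjective φ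
  obtain ⟨ψ, rfl⟩ := (OCongr e).surjective ψ
  exact congrArg _ (uniq0 hQ fun n s => EquivLike.injective e (by simpa only [OCongr_apply'] using h n s))

theorem stab (hQ' : (polarBilin Q').Nondegenerate) {φ : O Q'}
    (hu : φ.1 (e (0, 1, 0)) = e (0, 1, 0)) : ∃ (g : O Q) (m : V), dickson hQ' φ = dickson hQ g ∧
      ∀ n s, φ.1 (e (n, s, 0)) = e (g.1 n, s - polar Q (g.1 n) m, 0) := by
  obtain ⟨φ, rfl⟩ := (OCongr e).surjective φ
  obtain ⟨g, m, h1, h2⟩ := stab0 hQ (φ := φ)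
    (EquivLike.injective e (by simpa only [OCongr_apply'] using hu))
  exact ⟨g, m, by rw [dickson_OCongr (hQ := hypExt_nondegenerate hQ), h1], fun n s => by rw [OCongr_apply', h2]⟩

end Geo

/-- the splitting of the form in dimension eight -/
noncomputable def e8 : (hypExt q6).IsometryEquiv (qPlus (ZMod 2) 4) where
  toFun x := Sum.elim (Fin.cons x.2.1 fun i => x.1 (.inl i)) (Fin.cons x.2.2 fun i => x.1 (.inr i))
  invFun y := (Sum.elim (fun i => y (.inl i.succ)) fun i => y (.inr i.succ), y (.inl 0), y (.inr 0))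
  map_add' x y := by ext (i | i) <;> cases i using Fin.cases <;> rfl
  map_smul' c x := by ext (i | i) <;> cases i using Fin.cases <;> rfl
  left_inv x := by ext (i | i) <;> rfl
  right_inv y := by ext (i | i) <;> cases i using Fin.cases <;> rfl
  map_app' x := by rw [hypExt_apply, qPlus_apply, qPlus_apply, Fin.sum_univ_succ, add_comm]; rfl

theorem exists_psi {G V : Type*} [Group G] [AddCommGroup V] [Module (ZMod 2) V] [Finite V]
    {q : QuadraticForm (ZMod 2) V} {z : G} {Q : Subgroup G} {π : G → V} (z2 : orderOf z = 2)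
    (π_mul : ∀ a ∈ Q, ∀ b ∈ Q, π (a * b) = π a + π b)
    (π_ker : ∀ a ∈ Q, π a = 0 ↔ a = 1 ∨ a = z) (π_surj : ∀ x, ∃ a ∈ Q, π a = x)
    (sq : ∀ a ∈ Q, a * a = z ^ (q (π a)).val) : ∃ Ψ : G → O q,
      (∀ g ∈ centralizer {z} ⊓ normalizer (Q : Set G),
        ∀ h ∈ centralizer {z} ⊓ normalizer (Q : Set G), Ψ (g * h) = Ψ g * Ψ h) ∧
      ∀ g ∈ centralizer {z} ⊓ normalizer (Q : Set G), ∀ a ∈ Q,
        π (g * a * g⁻¹) = (Ψ g).1 (π a) := by
  choose s hs hs' using π_surj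
  have two : ∀ x : V, x + x = 0 := fun x => by
    rw [← two_smul (ZMod 2), show (2 : ZMod 2) = 0 from rfl, zero_smul]
  have key : ∀ g, ∃ φ : O q, g ∈ centralizer {z} ⊓ normalizer (Q : Set G) → ∀ a ∈ Q,
      π (g * a * g⁻¹) = φ.1 (π a) := fun g => by
    by_cases hg : g ∈ centralizer {z} ⊓ normalizer (Q : Set G)
    swap
    · exact ⟨1, fun h => absurd h hg⟩
    have m := fun a => (mem_normalizer_iff.1 hg.2 a).1
    have gz : g * z * g⁻¹ = z := mul_inv_eq_iff_eq_mul.2 (mem_centralizer_singleton_iff.1 hg.1)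
    have k0 : ∀ a ∈ Q, π (g * a * g⁻¹) = 0 ↔ π a = 0 := fun a ha => by
      rw [π_ker _ (m a ha), π_ker a ha, conj_eq_one_iff]
      nth_rw 1 [← gz]
      rw [mul_left_inj, mul_right_inj]
    have k1 : ∀ a ∈ Q, π (g * s (π a) * g⁻¹) = π (g * a * g⁻¹) := fun a ha => by
      have := (k0 _ (mul_mem (hs (π a)) ha)).2 (by rw [π_mul _ (hs _) _ ha, hs', two])
      rw [← conj_mul, π_mul _ (m _ (hs _)) _ (m a ha), ← two (π (g * a * g⁻¹))] at this
      exact add_right_cancel this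
    let f := (AddMonoidHom.mk' (fun x => π (g * s x * g⁻¹)) fun x y => by
      rw [← π_mul _ (m _ (hs x)) _ (m _ (hs y)), conj_mul, ← k1 _ (mul_mem (hs x) (hs y)),
        π_mul _ (hs x) _ (hs y), hs', hs']).toZModLinearMap 2
    refine ⟨⟨LinearEquiv.ofBijective f (Finite.injective_iff_bijective.1
      ((injective_iff_map_eq_zero f).2 fun x hx => hs' x ▸ (k0 _ (hs x)).1 hx)), fun x => ?_⟩,
      fun _ a ha => (k1 a ha).symm⟩
    have := sq _ (m _ (hs x))
    rw [conj_mul, sq _ (hs x), ← conj_pow, gz, hs'] at this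
    exact ZMod.val_injective 2 (pow_injOn_Iio_orderOf (by rw [z2]; exact ZMod.val_lt _)
      (by rw [z2]; exact ZMod.val_lt _) this.symm)
  choose Ψ hΨ using key
  refine ⟨Ψ, fun g hg h hh => O_ext fun x => ?_, hΨ⟩
  rw [← hs' x, O_mul_apply, ← hΨ _ hh _ (hs x), ← hΨ _ hg _ ((mem_normalizer_iff.1 hh.2 _).1 (hs x)),
    ← hΨ _ (mul_mem hg hh) _ (hs x)]
  congr 1
  group

end Cfsg.Agent.H28.AsQ
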