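import Mathlib
import Cfsg.Agent.H28.AsQa0

/-!
# The subgroup `W_z` and the involution `τ`
-/

set_option autoImplicit false

namespace Cfsg.Agent.H28.AsQ

open Subgroup H30 H42.AS QuadraticMap

universe u

variable {G : Type u} [Group G]

theorem zc (c : ZMod 2) : c = 0 ∨ c = 1 := by revert c; decide

theorem f4c (s : F4) : s = 0 ∨ s = 1 ∨ s = om ∨ s = om + 1 := by revert s; decide

theorem val_one : (1 : ZMod 2).val = 1 := rfl

theorem pw_add {t : G} (ht : t * t = 1) (c d : ZMod 2) :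
    t ^ (c + d).val = t ^ c.val * t ^ d.val := by
  rcases zc c with rfl | rfl <;> rcases zc d with rfl | rfl <;>
    simp [show (1 + 1 : ZMod 2) = 0 from rfl, val_one, ht]

open Classical in
/-- whether two elements commute -/
noncomputable def cm (x y : G) : ZMod 2 := if x * y = y * x then 0 else 1

theorem cm_eq {z x y : G} (hz : z ≠ 1) {c : ZMod 2} (h : x * y = z ^ c.val * (y * x)) :
    cm x y = c := by
  rcases zc c with rfl | rfl
  · exact if_pos (by simpa using h)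
  · exact if_neg fun k => hz (by simpa [k, val_one] using h)

theorem cm_spec {z x y : G} (h : x * y = y * x ∨ x * y = z * (y * x)) :
    x * y = z ^ (cm x y).val * (y * x) := by
  by_cases k : x * y = y * x
  · rw [cm, if_pos k]
    simpa using k
  · rw [cm, if_neg k, val_one, pow_one]
    exact h.resolve_left k

theorem comm_of_sq {V : Type*} [AddCommGroup V] [Module (ZMod 2) V]
    {q : QuadraticForm (ZMod 2) V} {z : G} {Q : Subgroup G} {π : G → V} (z2 : z * z = 1)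
    (zc : ∀ a ∈ Q, Commute z a) (π_mul : ∀ a ∈ Q, ∀ b ∈ Q, π (a * b) = π a + π b)
    (sq : ∀ a ∈ Q, a * a = z ^ (q (π a)).val) :
    ∀ a ∈ Q, ∀ b ∈ Q, a * b = z ^ (polar q (π a) (π b)).val * (b * a) := fun a ha b hb => by
  have h := sq _ (mul_mem hb ha)
  rw [π_mul _ hb _ ha, show q (π b + π a) = polar q (π a) (π b) + (q (π b) + q (π a)) by
    rw [polar, add_comm (π a)]; ring, pw_add z2, pw_add z2, ← sq a ha, ← sq b hb, ← mul_assoc,
    ← mul_assoc, ← mul_assoc, ← mul_assoc, ((zc b hb).pow_left _).eq, mul_left_inj] at h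
  simp only [mul_assoc] at h
  exact mul_left_cancel h

theorem eq_or {V : Type*} [AddCommGroup V] {z : G} {Q : Subgroup G} {π : G → V}
    (π_mul : ∀ a ∈ Q, ∀ b ∈ Q, π (a * b) = π a + π b) (π_ker : ∀ a ∈ Q, π a = 0 ↔ a = 1 ∨ a = z)
    {a b : G} (ha : a ∈ Q) (hb : b ∈ Q) (h : π a = π b) : a = b ∨ a = b * z := by
  have := (π_ker _ (mul_mem (inv_mem hb) ha)).1 (by
    rw [π_mul _ (inv_mem hb) _ ha, h, ← π_mul _ (inv_mem hb) _ hb, π_ker _ (by simp)]; simp)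
  rwa [inv_mul_eq_one, inv_mul_eq_iff_eq_mul, eq_comm] at this

variable {C : WD G} {W Od : Subgroup G} (h : WC C W Od)
include h

theorem v_zero : C.v 0 = 1 := by simpa using h.v_add 0 0

theorem v_sq (s : F4) : C.v s * C.v s = 1 := by
  rw [← h.v_add, show s + s = 0 by revert s; decide, v_zero h]

theorem z_ne : C.v 1 ≠ 1 := fun k => one_ne_zero (h.v_inj 1 k)

theorem v_inj' {s t : F4} (k : C.v s = C.v t) : s = t := by
  have := h.v_inj (s + t) (by rw [h.v_add, k, v_sq h])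
  clear k
  revert s t
  decide

theorem v_re (c : ZMod 2) : C.v ⟨c, 0⟩ = C.v 1 ^ c.val := by
  rcases zc c with rfl | rfl
  · exact (v_zero h).trans (pow_zero _).symm
  · exact (pow_one _).symm

theorem v_im (c : ZMod 2) : C.v ⟨0, c⟩ = C.v om ^ c.val := by
  rcases zc c with rfl | rfl
  · exact (v_zero h).trans (pow_zero _).symm
  · exact (pow_one _).symm

theorem π_v (s : F4) : C.π (C.v s) = 0 := (h.π_ker _ (h.vW s)).2 ⟨s, rfl⟩

theorem π_one : C.π 1 = 0 := v_zero h ▸ π_v h 0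

theorem v_comm (s : F4) {a : G} (ha : a ∈ W) : Commute (C.v s) a := by
  have := h.comm _ (h.vW s) a ha
  rwa [π_v h, show bq 0 (C.π a) = 0 by simp [bq]; rfl, v_zero h, one_mul] at this

theorem mem_cV {g : G} : g ∈ centralizer (C.V : Set G) ↔
    g * C.v 1 = C.v 1 * g ∧ g * C.v om = C.v om * g := by
  rw [WD.V, centralizer_closure, mem_centralizer_iff, Set.forall_mem_range]
  refine ⟨fun k => ⟨(k 1).symm, (k om).symm⟩, fun ⟨k1, k2⟩ s => ?_⟩
  rcases f4c s with rfl | rfl | rfl | rfl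
  · simp [v_zero h]
  · exact k1.symm
  · exact k2.symm
  · rw [h.v_add, mul_assoc, ← k1, ← mul_assoc, ← k2, mul_assoc]

theorem W_le : W ≤ C.M0 W := fun _ ha =>
  ⟨(mem_cV h).2 ⟨(v_comm h 1 ha).eq.symm, (v_comm h om ha).eq.symm⟩, le_normalizer ha⟩

/-- the preimage of the real points -/
def Wz : Subgroup G where
  carrier := {a | a ∈ W ∧ (C.π a).2 = 0}
  mul_mem' ha hb := ⟨mul_mem ha.1 hb.1, by rw [h.π_mul _ ha.1 _ hb.1, Prod.snd_add, ha.2, hb.2,
    add_zero]⟩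
  one_mem' := ⟨one_mem _, by rw [π_one h]; rfl⟩
  inv_mem' {a} ha := ⟨inv_mem ha.1, by
    have := congrArg Prod.snd (h.π_mul _ (inv_mem ha.1) _ ha.1)
    rwa [inv_mul_cancel, π_one h, Prod.snd_add, ha.2, add_zero, eq_comm] at this⟩

theorem v_mem (s : F4) : C.v s ∈ Wz h := ⟨h.vW s, by rw [π_v h]; rfl⟩

theorem exists_Wz (n : N6) : ∃ a ∈ Wz h, (C.π a).1 = n := by
  obtain ⟨a, ha, k⟩ := h.π_surj (n, 0)
  exact ⟨a, ⟨ha, by rw [k]⟩, by rw [k]⟩

theorem Wz_sq {a : G} (ha : a ∈ Wz h) : a * a = C.v 1 ^ (q6 (C.π a).1).val := by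
  rw [h.sq a ha.1, ← v_re h, qq, ha.2]
  simp

theorem conj_Wz {g a : G} (hg : g ∈ C.M0 W) (ha : a ∈ Wz h) :
    g * a * g⁻¹ ∈ Wz h ∧ (C.π (g * a * g⁻¹)).1 = (C.Φ g).1 (C.π a).1 := by
  refine ⟨⟨(mem_normalizer_iff.1 hg.2 a).1 ha.1, ?_⟩, ?_⟩ <;> rw [h.phi.act g hg a ha.1]
  rw [ha.2, map_zero]

theorem conj_W {a b : G} (ha : a ∈ W) (hb : b ∈ Wz h) : a * b * a⁻¹ =
    C.v ⟨polar q6 (C.π a).1 (C.π b).1, polar q6 (C.π a).2 (C.π b).1⟩ * b := by
  rw [h.comm a ha b hb.1, bq, hb.2]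
  simp [mul_assoc]

theorem cent {g : G} (hg : g ∈ C.M0 W)
    (ht : ∀ b ∈ Wz h, g * b * g⁻¹ = b ∨ g * b * g⁻¹ = b * C.v 1) :
    ∃ a ∈ Wz h, ∃ o ∈ Od, g = a * o := by
  obtain ⟨a, ha, o, ho, rfl⟩ := h.phi.Φ_ker g hg (O_ext fun n => by
    obtain ⟨b, hb, rfl⟩ := exists_Wz h n
    rw [← (conj_Wz h hg hb).2]
    rcases ht b hb with k | k <;> rw [k]
    · rfl
    · rw [h.π_mul _ hb.1 _ (h.vW 1), π_v h, add_zero]
      rfl)
  refine ⟨a, ⟨ha, eq_zero_of_polar (qPlus_nondegenerate 3) fun n => ?_⟩, o, ho, rfl⟩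
  obtain ⟨b, hb, rfl⟩ := exists_Wz h n
  have k := ht b hb
  rw [show a * o * b * (a * o)⁻¹ = a * (o * b * o⁻¹) * a⁻¹ by group, h.OW o ho b hb.1,
    mul_inv_cancel_right, conj_W h ha hb, ← (v_comm h 1 hb.1).eq, mul_left_inj, mul_eq_right,
    ← v_zero h] at k
  rcases k with k | k <;> exact congrArg QuadraticAlgebra.im (v_inj' h k)

theorem odd_kill [Finite G] {o : G} (ho : o ∈ Od) {k : ℕ} (hk : o ^ 2 ^ k = 1) : o = 1 := by
  have h1 := orderOf_dvd_of_pow_eq_one hk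
  have h2 := (h.odd.of_dvd_nat (orderOf_dvd_natCard Od ho)).coprime_two_right.pow_right k
  exact orderOf_eq_one_iff.1 (Nat.eq_one_of_dvd_coprimes h2 dvd_rfl h1)

omit h in
/-- the involution `τ` -/
structure TT (C : WD G) (W Od : Subgroup G) (τ : G) : Prop where
  τW : τ ∈ normalizer (W : Set G)
  τ1 : τ * C.v 1 = C.v 1 * τ
  τω : τ * C.v om = C.v 1 * (C.v om * τ)
  τO : ∀ o ∈ Od, o * τ = τ * o
  τz : ∀ a ∈ W, (C.π a).2 = 0 → τ * a = a * τ ∨ τ * a = C.v 1 * (a * τ)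
  τ2 : τ * τ = 1

theorem exists_TT [Finite G] {τ κ : G} (t : TK C W Od τ κ) : ∃ τ, TT C W Od τ := by
  have tω : τ * C.v om = C.v 1 * (C.v om * τ) := by
    rw [t.τω, ← mul_assoc, ← h.v_add]
    rfl
  have tz : ∀ a ∈ W, (C.π a).2 = 0 → τ * a = a * τ ∨ τ * a = C.v 1 * (a * τ) := fun a ha k => by
    have := t.τz a ha k
    rwa [← (v_comm h 1 ha).eq, mul_inv_eq_iff_eq_mul, mul_inv_eq_iff_eq_mul, mul_assoc] at this
  have t2 : ∀ a ∈ Wz h, τ * τ * a = a * (τ * τ) := fun a ha => by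
    rcases tz a ha.1 ha.2 with k | k
    · rw [mul_assoc, k, ← mul_assoc, k, mul_assoc]
    · rw [mul_assoc, k, ← mul_assoc, t.τ1, mul_assoc, ← mul_assoc τ, k, ← mul_assoc, ← mul_assoc,
        v_sq h, one_mul, mul_assoc]
  obtain ⟨a, ha, o, ho, e⟩ := cent h (g := τ * τ) ⟨(mem_cV h).2 ⟨t2 _ (v_mem h 1), t2 _ (v_mem h om)⟩,
    mul_mem t.τW t.τW⟩ fun b hb => .inl (by rw [t2 b hb, mul_inv_cancel_right])
  obtain ⟨s, rfl⟩ := (h.π_ker a ha.1).1 (Prod.ext
    (eq_zero_of_polar (qPlus_nondegenerate 3) fun n => by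
      obtain ⟨b, hb, rfl⟩ := exists_Wz h n
      have k := t2 b hb
      rw [e, mul_assoc, h.OW o ho b hb.1, ← mul_assoc, ← mul_assoc, mul_left_inj,
        ← mul_inv_eq_iff_eq_mul, conj_W h ha.1 hb, mul_eq_right, ← v_zero h] at k
      exact congrArg QuadraticAlgebra.re (v_inj' h k)) ha.2)
  obtain ⟨k, hk⟩ := t.τ2
  obtain rfl := odd_kill h ho (k := k + 1) (by
    have : (τ * τ) ^ 2 ^ (k + 1) = 1 := by
      rw [← pow_two, ← pow_mul, show 2 * 2 ^ (k + 1) = 2 ^ k * 4 by ring, pow_mul, hk, one_pow]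
    rwa [e, (show Commute (C.v s) o from (h.OW o ho _ (h.vW s)).symm).mul_pow, pow_succ', pow_mul,
      pow_two, v_sq h, one_pow, one_mul, ← pow_succ'] at this)
  rw [mul_one] at e
  have hs : τ * C.v s = C.v s * τ := by rw [← e, mul_assoc]
  rcases f4c s with rfl | rfl | rfl | rfl
  · exact ⟨τ, t.τW, t.τ1, tω, t.τO, tz, e.trans (v_zero h)⟩
  · refine ⟨τ * C.v om, mul_mem t.τW (le_normalizer (h.vW om)), ?_, ?_, fun o ho => ?_,
      fun a ha k => ?_, ?_⟩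
    · rw [mul_assoc, (v_comm h om (h.vW 1)).eq, ← mul_assoc, t.τ1, mul_assoc]
    · rw [tω]
      simp only [mul_assoc, tω]
    · rw [← mul_assoc, t.τO o ho, mul_assoc, h.OW o ho _ (h.vW om), mul_assoc]
    · rw [mul_assoc, (v_comm h om ha).eq, ← mul_assoc]
      rcases tz a ha k with k | k <;> rw [k] <;> simp [mul_assoc]
    · rw [tω]
      nth_rw 2 [← tω]
      rw [mul_assoc, mul_assoc, ← mul_assoc τ, e, (v_comm h 1 (h.vW om)).eq, ← mul_assoc (C.v om),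
        v_sq h, one_mul, v_sq h]
  · exact absurd (by simpa [hs] using tω) (z_ne h)
  · rw [h.v_add, ← mul_assoc, tω, mul_assoc, mul_assoc, t.τ1, ← mul_assoc (C.v om),
      mul_eq_right] at hs
    exact absurd hs (z_ne h)

end Cfsg.Agent.H28.AsQ
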