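import Mathlib
import Cfsg.Agent.H28.AsQa
import Cfsg.Agent.H42.ALDefs

/-!
# The extraspecial group `Q = W_z ⟨τ⟩` of order `2^7` (AL-QA)
-/

set_option autoImplicit false

namespace Cfsg.Agent.H28.AlQ

open Subgroup H30 H42.AL QuadraticMap
open H42.AS (om Q0)
open AsQ (zc f4c val_one pw_add cm cm_eq cm_spec comm_of_sq eq_or tri_mul stab uniq exists_psi)

universe u

/-- the splitting of the form in dimension six -/
noncomputable def e6 : (hypExt q4).IsometryEquiv q6 where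
  toFun x := Sum.elim (Sum.elim (Fin.cons x.2.1 fun i => x.1 (.inl (.inl i)))
    (Fin.cons x.2.2 fun i => x.1 (.inl (.inr i)))) fun i => x.1 (.inr i)
  invFun y := (Sum.elim (Sum.elim (fun i => y (.inl (.inl i.succ))) fun i => y (.inl (.inr i.succ)))
    fun i => y (.inr i), y (.inl (.inl 0)), y (.inl (.inr 0)))
  map_add' x y := by ext ((i | i) | i) <;> cases i using Fin.cases <;> rfl
  map_smul' c x := by ext ((i | i) | i) <;> cases i using Fin.cases <;> rfl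
  left_inv x := by ext ((i | i) | i) <;> rfl
  right_inv y := by ext ((i | i) | i) <;> cases i using Fin.cases <;> rfl
  map_app' x := by
    rw [hypExt_apply, qMinus_apply, qMinus_apply, Fin.sum_univ_succ, add_assoc, add_comm]
    rfl

variable {G : Type u} [Group G] {τ : G}

variable {C : WD G} {W Od : Subgroup G}

section

variable (h : WC C W Od)
include h

theorem v_zero : C.v 0 = 1 := by simpa using h.v_add 0 0

theorem v_sq (s : F4) : C.v s * C.v s = 1 := by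
  rw [← h.v_add, show s + s = 0 by revert s; decide, v_zero h]

theorem z_ne : C.v 1 ≠ 1 := fun k => one_ne_zero (h.v_inj 1 k)

theorem v_inj' {s t : F4} (k : C.v s = C.v t) : s = t := by
  have := h.v_inj (s + t) (by rw [h.v_add, k, v_sq h])
  clear k
  revert s t
  decide

theorem v_re (c : ZMod 2) : C.v ⟨c, 0⟩ = C.v 1 ^ c.val := by
  rcases zc c with rfl | rfl
  · exact (v_zero h).trans (pow_zero _).symm
  · exact (pow_one _).symm

theorem v_im (c : ZMod 2) : C.v ⟨0, c⟩ = C.v om ^ c.val := by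
  rcases zc c with rfl | rfl
  · exact (v_zero h).trans (pow_zero _).symm
  · exact (pow_one _).symm

theorem π_v (s : F4) : C.π (C.v s) = 0 := (h.π_ker _ (h.vW s)).2 ⟨s, rfl⟩

theorem π_one : C.π 1 = 0 := v_zero h ▸ π_v h 0

theorem v_comm (s : F4) {a : G} (ha : a ∈ W) : Commute (C.v s) a := by
  have := h.comm _ (h.vW s) a ha
  rwa [π_v h, show bq 0 (C.π a) = 0 by simp [bq]; rfl, v_zero h, one_mul] at this

theorem mem_cV {g : G} : g ∈ centralizer (C.V : Set G) ↔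
    g * C.v 1 = C.v 1 * g ∧ g * C.v om = C.v om * g := by
  rw [WD.V, centralizer_closure, mem_centralizer_iff, Set.forall_mem_range]
  refine ⟨fun k => ⟨(k 1).symm, (k om).symm⟩, fun ⟨k1, k2⟩ s => ?_⟩
  rcases f4c s with rfl | rfl | rfl | rfl
  · simp [v_zero h]
  · exact k1.symm
  · exact k2.symm
  · rw [h.v_add, mul_assoc, ← k1, ← mul_assoc, ← k2, mul_assoc]

theorem mem_V {x : G} (hx : x ∈ C.V) : ∃ s, C.v s = x := by
  induction hx using closure_induction with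
  | mem x hx => exact hx
  | one => exact ⟨0, v_zero h⟩
  | mul x y _ _ h1 h2 => obtain ⟨s, rfl⟩ := h1; obtain ⟨t, rfl⟩ := h2; exact ⟨_, h.v_add s t⟩
  | inv x _ h1 => obtain ⟨s, rfl⟩ := h1; exact ⟨s, eq_inv_of_mul_eq_one_left (v_sq h s)⟩

theorem W_le : W ≤ C.M0 W := fun _ ha =>
  ⟨(mem_cV h).2 ⟨(v_comm h 1 ha).eq.symm, (v_comm h om ha).eq.symm⟩, le_normalizer ha⟩

/-- the preimage of the real points -/
def Wz : Subgroup G where
  carrier := {a | a ∈ W ∧ (C.π a).2 = 0}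
  mul_mem' ha hb := ⟨mul_mem ha.1 hb.1, by rw [h.π_mul _ ha.1 _ hb.1, Prod.snd_add, ha.2, hb.2,
    add_zero]⟩
  one_mem' := ⟨one_mem _, by rw [π_one h]; rfl⟩
  inv_mem' {a} ha := ⟨inv_mem ha.1, by
    have := congrArg Prod.snd (h.π_mul _ (inv_mem ha.1) _ ha.1)
    rwa [inv_mul_cancel, π_one h, Prod.snd_add, ha.2, add_zero, eq_comm] at this⟩

theorem v_mem (s : F4) : C.v s ∈ Wz h := ⟨h.vW s, by rw [π_v h]; rfl⟩

theorem exists_Wz (n : N4) : ∃ a ∈ Wz h, (C.π a).1 = n := by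
  obtain ⟨a, ha, k⟩ := h.π_surj (n, 0)
  exact ⟨a, ⟨ha, by rw [k]⟩, by rw [k]⟩

theorem Wz_sq {a : G} (ha : a ∈ Wz h) : a * a = C.v 1 ^ (q4 (C.π a).1).val := by
  rw [h.sq a ha.1, ← v_re h, qq, ha.2]
  simp

theorem conj_Wz {g a : G} (hg : g ∈ C.M0 W) (ha : a ∈ Wz h) :
    g * a * g⁻¹ ∈ Wz h ∧ (C.π (g * a * g⁻¹)).1 = (C.Φ g).1 (C.π a).1 := by
  refine ⟨⟨(mem_normalizer_iff.1 hg.2 a).1 ha.1, ?_⟩, ?_⟩ <;> rw [h.phi.act g hg a ha.1]
  rw [ha.2, map_zero]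

theorem conj_W {a b : G} (ha : a ∈ W) (hb : b ∈ Wz h) : a * b * a⁻¹ =
    C.v ⟨polar q4 (C.π a).1 (C.π b).1, polar q4 (C.π a).2 (C.π b).1⟩ * b := by
  rw [h.comm a ha b hb.1, bq, hb.2]
  simp [mul_assoc]

theorem cent {g : G} (hg : g ∈ C.M0 W)
    (ht : ∀ b ∈ Wz h, g * b * g⁻¹ = b ∨ g * b * g⁻¹ = b * C.v 1) :
    ∃ a ∈ Wz h, ∃ o ∈ Od, g = a * o := by
  obtain ⟨a, ha, o, ho, rfl⟩ := h.phi.Φ_ker g hg (O_ext fun n => by
    obtain ⟨b, hb, rfl⟩ := exists_Wz h n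
    rw [← (conj_Wz h hg hb).2]
    rcases ht b hb with k | k <;> rw [k]
    · rfl
    · rw [h.π_mul _ hb.1 _ (h.vW 1), π_v h, add_zero]
      rfl)
  refine ⟨a, ⟨ha, eq_zero_of_polar hq4 fun n => ?_⟩, o, ho, rfl⟩
  obtain ⟨b, hb, rfl⟩ := exists_Wz h n
  have k := ht b hb
  rw [show a * o * b * (a * o)⁻¹ = a * (o * b * o⁻¹) * a⁻¹ by group, h.OW o ho b hb.1,
    mul_inv_cancel_right, conj_W h ha hb, ← (v_comm h 1 hb.1).eq, mul_left_inj, mul_eq_right,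
    ← v_zero h] at k
  rcases k with k | k <;> exact congrArg QuadraticAlgebra.im (v_inj' h k)

theorem odd_kill [Finite G] {o : G} (ho : o ∈ Od) {k : ℕ} (hk : o ^ 2 ^ k = 1) : o = 1 := by
  have h1 := orderOf_dvd_of_pow_eq_one hk
  have h2 := (h.odd.of_dvd_nat (orderOf_dvd_natCard Od ho)).coprime_two_right.pow_right k
  exact orderOf_eq_one_iff.1 (Nat.eq_one_of_dvd_coprimes h2 dvd_rfl h1)

omit h in
/-- the involution `τ` -/
structure TT (C : WD G) (W Od : Subgroup G) (τ : G) : Prop where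
  τW : τ ∈ normalizer (W : Set G)
  τ1 : τ * C.v 1 = C.v 1 * τ
  τω : τ * C.v om = C.v 1 * (C.v om * τ)
  τO : ∀ o ∈ Od, o * τ = τ * o
  τz : ∀ a ∈ W, (C.π a).2 = 0 → τ * a = a * τ ∨ τ * a = C.v 1 * (a * τ)
  τ2 : τ * τ = 1

theorem exists_TT [Finite G] {τ κ : G} (t : TK C W Od τ κ) : ∃ τ, TT C W Od τ := by
  have tω : τ * C.v om = C.v 1 * (C.v om * τ) := by
    rw [t.τω, ← mul_assoc, ← h.v_add]
    rfl
  have tz : ∀ a ∈ W, (C.π a).2 = 0 → τ * a = a * τ ∨ τ * a = C.v 1 * (a * τ) := fun a ha k => by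
    have := t.τz a ha k
    rwa [← (v_comm h 1 ha).eq, mul_inv_eq_iff_eq_mul, mul_inv_eq_iff_eq_mul, mul_assoc] at this
  have t2 : ∀ a ∈ Wz h, τ * τ * a = a * (τ * τ) := fun a ha => by
    rcases tz a ha.1 ha.2 with k | k
    · rw [mul_assoc, k, ← mul_assoc, k, mul_assoc]
    · rw [mul_assoc, k, ← mul_assoc, t.τ1, mul_assoc, ← mul_assoc τ, k, ← mul_assoc, ← mul_assoc,
        v_sq h, one_mul, mul_assoc]
  obtain ⟨a, ha, o, ho, e⟩ := cent h (g := τ * τ) ⟨(mem_cV h).2 ⟨t2 _ (v_mem h 1), t2 _ (v_mem h om)⟩,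
    mul_mem t.τW t.τW⟩ fun b hb => .inl (by rw [t2 b hb, mul_inv_cancel_right])
  obtain ⟨s, rfl⟩ := (h.π_ker a ha.1).1 (Prod.ext
    (eq_zero_of_polar hq4 fun n => by
      obtain ⟨b, hb, rfl⟩ := exists_Wz h n
      have k := t2 b hb
      rw [e, mul_assoc, h.OW o ho b hb.1, ← mul_assoc, ← mul_assoc, mul_left_inj,
        ← mul_inv_eq_iff_eq_mul, conj_W h ha.1 hb, mul_eq_right, ← v_zero h] at k
      exact congrArg QuadraticAlgebra.re (v_inj' h k)) ha.2)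
  obtain ⟨k, hk⟩ := t.τ2
  obtain rfl := odd_kill h ho (k := k + 1) (by
    have : (τ * τ) ^ 2 ^ (k + 1) = 1 := by
      rw [← pow_two, ← pow_mul, show 2 * 2 ^ (k + 1) = 2 ^ k * 4 by ring, pow_mul, hk, one_pow]
    rwa [e, (show Commute (C.v s) o from (h.OW o ho _ (h.vW s)).symm).mul_pow, pow_succ', pow_mul,
      pow_two, v_sq h, one_pow, one_mul, ← pow_succ'] at this)
  rw [mul_one] at e
  have hs : τ * C.v s = C.v s * τ := by rw [← e, mul_assoc]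
  rcases f4c s with rfl | rfl | rfl | rfl
  · exact ⟨τ, t.τW, t.τ1, tω, t.τO, tz, e.trans (v_zero h)⟩
  · refine ⟨τ * C.v om, mul_mem t.τW (le_normalizer (h.vW om)), ?_, ?_, fun o ho => ?_,
      fun a ha k => ?_, ?_⟩
    · rw [mul_assoc, (v_comm h om (h.vW 1)).eq, ← mul_assoc, t.τ1, mul_assoc]
    · rw [tω]
      simp only [mul_assoc, tω]
    · rw [← mul_assoc, t.τO o ho, mul_assoc, h.OW o ho _ (h.vW om), mul_assoc]
    · rw [mul_assoc, (v_comm h om ha).eq, ← mul_assoc]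
      rcases tz a ha k with k | k <;> rw [k] <;> simp [mul_assoc]
    · rw [tω]
      nth_rw 2 [← tω]
      rw [mul_assoc, mul_assoc, ← mul_assoc τ, e, (v_comm h 1 (h.vW om)).eq, ← mul_assoc (C.v om),
        v_sq h, one_mul, v_sq h]
  · exact absurd (by simpa [hs] using tω) (z_ne h)
  · rw [h.v_add, ← mul_assoc, tω, mul_assoc, mul_assoc, t.τ1, ← mul_assoc (C.v om),
      mul_eq_right] at hs
    exact absurd hs (z_ne h)

end

/-- coordinates on `Q` -/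
noncomputable def πQ (C : WD G) (τ x : G) : (Fin 2 ⊕ Fin 2) ⊕ Fin 2 → ZMod 2 :=
  e6 ((C.π (x * τ ^ (cm x (C.v om)).val)).1, cm τ x, cm x (C.v om))

variable (h : WC C W Od) (t : TT C W Od τ)
include h t

theorem lam_spec {a : G} (ha : a ∈ Wz h) : τ * a = C.v 1 ^ (cm τ a).val * (a * τ) :=
  cm_spec (t.τz a ha.1 ha.2)

omit h in
theorem zτ : Commute (C.v 1) τ := t.τ1.symm

theorem lam_mul {a b : G} (ha : a ∈ Wz h) (hb : b ∈ Wz h) : cm τ (a * b) = cm τ a + cm τ b := by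
  refine cm_eq (z_ne h) ?_
  rw [pw_add (v_sq h 1), ← mul_assoc, lam_spec h t ha, mul_assoc, mul_assoc, lam_spec h t hb,
    ← mul_assoc a, ← ((v_comm h 1 ha.1).pow_left _).eq]
  simp only [mul_assoc]

theorem lam_z (c : ZMod 2) : cm τ (C.v 1 ^ c.val) = 0 :=
  cm_eq (z_ne h) (by simpa using ((zτ t).pow_left _).eq.symm)

theorem lam_w (c : ZMod 2) : cm τ (C.v om ^ c.val) = c := by
  refine cm_eq (z_ne h) ?_
  rcases zc c with rfl | rfl
  · simp
  · simpa [val_one] using t.τω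

theorem T_mul (i : ZMod 2) {b : G} (hb : b ∈ Wz h) :
    τ ^ i.val * b = C.v 1 ^ (cm τ b * i).val * (b * τ ^ i.val) := by
  rcases zc i with rfl | rfl
  · simp
  · simpa [val_one] using lam_spec h t hb

theorem el_mul {a b : G} (ha : a ∈ Wz h) (hb : b ∈ Wz h) (i j : ZMod 2) :
    a * τ ^ i.val * (b * τ ^ j.val) = C.v 1 ^ (cm τ b * i).val * (a * b) * τ ^ (i + j).val := by
  rw [pw_add t.τ2, mul_assoc, ← mul_assoc (τ ^ _), T_mul h t i hb, ← mul_assoc, ← mul_assoc,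
    ← ((v_comm h 1 ha.1).pow_left _).eq]
  simp only [mul_assoc]

theorem πQ_el {a : G} (ha : a ∈ Wz h) (i : ZMod 2) :
    πQ C τ (a * τ ^ i.val) = e6 ((C.π a).1, cm τ a, i) := by
  have h1 : cm (a * τ ^ i.val) (C.v om) = i := by
    refine cm_eq (z_ne h) ?_
    have := lam_w h t 1
    rw [val_one, pow_one] at this
    rw [mul_assoc, T_mul h t i (v_mem h om), this, one_mul, ← mul_assoc,
      ← ((v_comm h 1 ha.1).pow_left _).eq, mul_assoc, ← mul_assoc a, ← (v_comm h om ha.1).eq,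
      mul_assoc]
  have h2 : cm τ (a * τ ^ i.val) = cm τ a := by
    refine cm_eq (z_ne h) ?_
    rw [← mul_assoc, lam_spec h t ha, mul_assoc, mul_assoc, mul_assoc, ← pow_succ, ← pow_succ']
  rw [πQ, h1, h2, mul_assoc, ← pw_add t.τ2, CharTwo.add_self_eq_zero, ZMod.val_zero, pow_zero,
    mul_one]

theorem πQ_Wz {a : G} (ha : a ∈ Wz h) : πQ C τ a = e6 ((C.π a).1, cm τ a, 0) := by
  simpa using πQ_el h t ha 0

/-- the extraspecial group -/
def QQ : Subgroup G where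
  carrier := {x | ∃ a ∈ Wz h, ∃ i : ZMod 2, a * τ ^ i.val = x}
  mul_mem' := by
    rintro _ _ ⟨a, ha, i, rfl⟩ ⟨b, hb, j, rfl⟩
    exact ⟨_, mul_mem (pow_mem (v_mem h 1) _) (mul_mem ha hb), _, (el_mul h t ha hb i j).symm⟩
  one_mem' := ⟨1, one_mem _, 0, by simp⟩
  inv_mem' := by
    rintro _ ⟨a, ha, i, rfl⟩
    refine ⟨_, mul_mem (pow_mem (v_mem h 1) (cm τ a⁻¹ * i).val) (inv_mem ha), i, ?_⟩
    rw [mul_assoc, ← T_mul h t i (inv_mem ha), mul_inv_rev, mul_left_inj, eq_inv_iff_mul_eq_one,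
      ← pw_add t.τ2, CharTwo.add_self_eq_zero, ZMod.val_zero, pow_zero]

theorem Wz_le : Wz h ≤ QQ h t := fun a ha => ⟨a, ha, 0, by simp⟩

theorem τ_mem : τ ∈ QQ h t := ⟨1, one_mem _, 1, by simp [val_one]⟩

theorem z_comm : ∀ a ∈ QQ h t, Commute (C.v 1) a := by
  rintro _ ⟨a, ha, i, rfl⟩
  exact (v_comm h 1 ha.1).mul_right ((zτ t).pow_right _)

theorem πQ_mul : ∀ a ∈ QQ h t, ∀ b ∈ QQ h t, πQ C τ (a * b) = πQ C τ a + πQ C τ b := by
  rintro _ ⟨a, ha, i, rfl⟩ _ ⟨b, hb, j, rfl⟩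
  have hz := pow_mem (v_mem h 1) (cm τ b * i).val
  rw [el_mul h t ha hb, πQ_el h t (mul_mem hz (mul_mem ha hb)), πQ_el h t ha, πQ_el h t hb,
    lam_mul h t hz (mul_mem ha hb), lam_z h t, lam_mul h t ha hb, ← map_add,
    h.π_mul _ hz.1 _ (mul_mem ha.1 hb.1), ← v_re h, π_v h, h.π_mul _ ha.1 _ hb.1]
  simp

theorem πQ_ker : ∀ a ∈ QQ h t, πQ C τ a = 0 ↔ a = 1 ∨ a = C.v 1 := by
  refine fun x hx => ⟨fun k => ?_, ?_⟩
  · obtain ⟨a, ha, i, rfl⟩ := hx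
    rw [πQ_el h t ha, EmbeddingLike.map_eq_zero_iff, Prod.mk_eq_zero, Prod.mk_eq_zero] at k
    obtain ⟨k1, k2, rfl⟩ := k
    obtain ⟨s, rfl⟩ := (h.π_ker a ha.1).1 (Prod.ext k1 ha.2)
    have l1 := lam_w h t 1
    have l2 := lam_z h t 1
    rw [val_one, pow_one] at l1 l2
    rcases f4c s with rfl | rfl | rfl | rfl
    · simp [v_zero h]
    · simp
    · simp [l1] at k2
    · simp [h.v_add, lam_mul h t (v_mem h _) (v_mem h _), l1, l2] at k2
  · have : ∀ c : ZMod 2, πQ C τ (C.v 1 ^ c.val) = 0 := fun c => by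
      rw [πQ_Wz h t (pow_mem (v_mem h 1) _), lam_z h t, ← v_re h, π_v h]
      exact map_zero e6
    rintro (rfl | rfl)
    · simpa using this 0
    · simpa [val_one] using this 1

theorem exists_lam (n : N4) (s : ZMod 2) : ∃ a ∈ Wz h, (C.π a).1 = n ∧ cm τ a = s := by
  obtain ⟨a, ha, rfl⟩ := exists_Wz h n
  have hw := pow_mem (v_mem h om) (s - cm τ a).val
  refine ⟨_, mul_mem hw ha, ?_, ?_⟩
  · rw [h.π_mul _ hw.1 _ ha.1, ← v_im h, π_v h, zero_add]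
  · rw [lam_mul h t hw ha, lam_w h t, sub_add_cancel]

theorem πQ_surj (x : (Fin 2 ⊕ Fin 2) ⊕ Fin 2 → ZMod 2) : ∃ a ∈ QQ h t, πQ C τ a = x := by
  obtain ⟨⟨n, s, i⟩, rfl⟩ := EquivLike.surjective e6 x
  obtain ⟨a, ha, rfl, rfl⟩ := exists_lam h t n s
  exact ⟨_, ⟨a, ha, i, rfl⟩, πQ_el h t ha i⟩

theorem Q_sq : ∀ a ∈ QQ h t, a * a = C.v 1 ^ (q6 (πQ C τ a)).val := by
  rintro _ ⟨a, ha, i, rfl⟩
  rw [el_mul h t ha ha, πQ_el h t ha, e6.map_app, hypExt_apply, Wz_sq h ha, add_comm (q4 _),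
    pw_add (v_sq h 1), CharTwo.add_self_eq_zero, ZMod.val_zero, pow_zero, mul_one]

theorem O_comm : ∀ o ∈ Od, ∀ a ∈ QQ h t, o * a = a * o := by
  rintro o ho _ ⟨a, ha, i, rfl⟩
  exact Commute.mul_right (h.OW o ho a ha.1) (Commute.pow_right (t.τO o ho) _)

theorem πQ_w : πQ C τ (C.v om) = e6 (0, 1, 0) := by
  have l1 := lam_w h t 1
  rw [val_one, pow_one] at l1
  rw [πQ_Wz h t (v_mem h om), π_v h, l1]
  rfl

theorem πQ_conj {x a : G} (hx : x ∈ QQ h t) (ha : a ∈ QQ h t) :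
    πQ C τ (x * a * x⁻¹) = πQ C τ a := by
  rw [πQ_mul h t _ (mul_mem hx ha) _ (inv_mem hx), πQ_mul h t _ hx _ ha, add_right_comm,
    ← πQ_mul h t _ hx _ (inv_mem hx), (πQ_ker h t _ (by simp)).2 (by simp), zero_add]

theorem tri_Q {x b : G} (hx : x ∈ QQ h t) (hb : b ∈ QQ h t) :
    x * b * x⁻¹ = b ∨ x * b * x⁻¹ = b * C.v 1 :=
  eq_or (πQ_mul h t) (πQ_ker h t) (mul_mem (mul_mem hx hb) (inv_mem hx)) hb (πQ_conj h t hx hb)

theorem τw : τ * C.v om * τ⁻¹ = C.v om * C.v 1 := by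
  rw [t.τω, ← mul_assoc, mul_inv_cancel_right, (v_comm h 1 (h.vW om)).eq]

theorem M0_le [Finite G] : C.M0 W ≤ centralizer {C.v 1} ⊓ normalizer (QQ h t : Set G) := by
  intro g hg
  obtain ⟨g1, g2⟩ := (mem_cV h).1 hg.1
  have gW : g * τ * g⁻¹ * τ ∈ normalizer (W : Set G) :=
    mul_mem (mul_mem (mul_mem hg.2 t.τW) ((normalizer _).inv_mem hg.2)) t.τW
  have gz : Commute (C.v 1) g := g1.symm
  have σz : Commute (C.v 1) (g * τ * g⁻¹) := (gz.mul_right (zτ t)).mul_right gz.inv_right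
  have k1 : g * τ * g⁻¹ * τ * C.v om = C.v om * (g * τ * g⁻¹ * τ) := by
    have gw : Commute g (C.v om) := g2
    rw [mul_assoc, t.τω, ← mul_assoc, ← σz.eq, mul_assoc, ← mul_assoc (g * τ * g⁻¹),
      mul_assoc (g * τ), gw.inv_left.eq, ← mul_assoc (g * τ), mul_assoc g, t.τω, ← mul_assoc g,
      ← mul_assoc (g * _), g1, mul_assoc (C.v 1) g, g2]
    simp only [← mul_assoc, v_sq h, one_mul]
  obtain ⟨a, ha, o, ho, e⟩ := cent h ⟨(mem_cV h).2 ⟨(σz.mul_right (zτ t)).eq.symm, k1⟩, gW⟩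
    fun b hb => by
      refine tri_mul (v_sq h 1) (v_comm h 1 hb.1) σz ?_ (tri_Q h t (τ_mem h t) (Wz_le h t hb))
      have := tri_Q h t (τ_mem h t) (Wz_le h t (conj_Wz h ((C.M0 W).inv_mem hg) hb).1)
      rw [show g * τ * g⁻¹ * b * (g * τ * g⁻¹)⁻¹ = g * (τ * (g⁻¹ * b * g⁻¹⁻¹) * τ⁻¹) * g⁻¹ by group]
      rcases this with k | k <;> rw [k]
      · simp [mul_assoc]
      · simp [mul_assoc, gz.inv_right.eq]
  have e' : g * τ * g⁻¹ = o * (a * τ) := by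
    rw [← mul_assoc o, h.OW o ho a ha.1, ← e, mul_assoc _ τ τ, t.τ2, mul_one]
  have hq : a * τ ∈ QQ h t := mul_mem (Wz_le h t ha) (τ_mem h t)
  obtain rfl := odd_kill h ho (k := 2) (by
    have : (o * (a * τ)) ^ 2 ^ 2 = 1 := by
      rw [← e', conj_pow, pow_two, pow_mul, pow_two τ, t.τ2]
      simp
    rwa [(show Commute o (a * τ) from O_comm h t o ho _ hq).mul_pow, pow_two 2, pow_mul (a * τ),
      pow_two (a * τ), Q_sq h t _ hq, pow_two, ← pw_add (v_sq h 1), CharTwo.add_self_eq_zero,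
      ZMod.val_zero, pow_zero, mul_one, ← pow_two 2] at this)
  refine ⟨mem_centralizer_singleton_iff.2 g1, mem_normalizer_fintype ?_⟩
  rintro _ ⟨b, hb, i, rfl⟩
  rw [← conj_mul, ← conj_pow, e', one_mul]
  exact mul_mem (Wz_le h t (conj_Wz h hg hb).1) (pow_mem hq _)

theorem Q_le : QQ h t ≤ centralizer {C.v 1} ⊓ normalizer (QQ h t : Set G) := fun a ha =>
  ⟨mem_centralizer_singleton_iff.2 (z_comm h t a ha).eq.symm, le_normalizer ha⟩

theorem split (hN : normalizer (C.V : Set G) ≤ normalizer (W : Set G)) {g : G}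
    (h1 : g * C.v 1 = C.v 1 * g)
    (h2 : g * C.v om * g⁻¹ = C.v om ∨ g * C.v om * g⁻¹ = C.v om * C.v 1) :
    ∃ x ∈ QQ h t, x * g ∈ C.M0 W := by
  have k : ∀ y, y * C.v 1 = C.v 1 * y → y * C.v om * y⁻¹ = C.v om → y ∈ C.M0 W := fun y a b =>
    have := (mem_cV h).2 ⟨a, mul_inv_eq_iff_eq_mul.1 b⟩
    ⟨this, hN (centralizer_le_normalizer _ this)⟩
  rcases h2 with h2 | h2
  · exact ⟨1, one_mem _, k _ (by simpa using h1) (by simpa using h2)⟩
  · refine ⟨τ, τ_mem h t, k _ (by rw [mul_assoc, h1, ← mul_assoc, t.τ1, mul_assoc]) ?_⟩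
    rw [show τ * g * C.v om * (τ * g)⁻¹ = τ * (g * C.v om * g⁻¹) * τ⁻¹ by group, h2, ← conj_mul,
      τw h t, t.τ1, mul_inv_cancel_right, mul_assoc, v_sq h, mul_one]

variable [Finite G] {Ψ : G → O q6}
  (act : ∀ g ∈ centralizer {C.v 1} ⊓ normalizer (QQ h t : Set G), ∀ a ∈ QQ h t,
    πQ C τ (g * a * g⁻¹) = (Ψ g).1 (πQ C τ a))
include act

omit [Finite G] in
theorem psi_Q {x : G} (hx : x ∈ QQ h t) : Ψ x = 1 := O_ext fun y => by
  obtain ⟨a, ha, rfl⟩ := πQ_surj h t y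
  rw [← act x (Q_le h t hx) a ha, πQ_conj h t hx ha]
  rfl

theorem psi_M0 {g : G} (hg : g ∈ C.M0 W) : ∃ m,
    dickson hq6 (Ψ g) = dickson hq4 (C.Φ g) ∧
    ∀ n s, (Ψ g).1 (e6 (n, s, 0)) = e6 ((C.Φ g).1 n, s - polar q4 ((C.Φ g).1 n) m, 0) := by
  obtain ⟨g6, m, k1, k2⟩ := stab hq4 e6 hq6 (φ := Ψ g) (by
    rw [← πQ_w h t, ← act g (M0_le h t hg) _ (Wz_le h t (v_mem h om)), ((mem_cV h).1 hg.1).2,
      mul_inv_cancel_right])
  obtain rfl : C.Φ g = g6 := O_ext fun n => by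
    obtain ⟨a, ha, rfl⟩ := exists_Wz h n
    have := act g (M0_le h t hg) a (Wz_le h t ha)
    rw [πQ_Wz h t ha, k2, πQ_Wz h t (conj_Wz h hg ha).1, (conj_Wz h hg ha).2] at this
    exact congrArg Prod.fst (EquivLike.injective e6 this)
  exact ⟨m, k1, k2⟩

theorem psi_W {a : G} (ha : a ∈ W) (h1 : (C.π a).1 = 0) (n : N4) (s : ZMod 2) :
    (Ψ a).1 (e6 (n, s, 0)) = e6 (n, polar q4 (C.π a).2 n + s, 0) := by
  obtain ⟨b, hb, rfl, rfl⟩ := exists_lam h t n s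
  have hw := pow_mem (v_mem h om) (polar q4 (C.π a).2 (C.π b).1).val
  rw [← πQ_Wz h t hb, ← act a (M0_le h t (W_le h ha)) b (Wz_le h t hb), conj_W h ha hb, h1,
    polar_zero_left, v_im h, πQ_Wz h t (mul_mem hw hb), lam_mul h t hw hb, lam_w h t,
    h.π_mul _ hw.1 _ hb.1, ← v_im h, π_v h, zero_add]

omit h t act in
theorem qa : QAStmt.{u} := by
  intro G _ _ C W Od τ κ h hN tk
  obtain ⟨τ, t⟩ := exists_TT h tk
  have z2 : orderOf (C.v 1) = 2 := orderOf_eq_prime (by rw [pow_two, v_sq h]) (z_ne h)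
  obtain ⟨Ψ, mul, act⟩ := exists_psi z2 (πQ_mul h t) (πQ_ker h t) (πQ_surj h t) (Q_sq h t)
  have hw := Wz_le h t (v_mem h om)
  have red : ∀ g ∈ centralizer {C.v 1} ⊓ normalizer (QQ h t : Set G),
      (Ψ g).1 (πQ C τ (C.v om)) = πQ C τ (C.v om) →
      ∃ x ∈ QQ h t, x * g ∈ C.M0 W ∧ Ψ (x * g) = Ψ g := fun g hg k => by
    obtain ⟨x, hx, k'⟩ := split h t hN (mem_centralizer_singleton_iff.1 hg.1)
      (eq_or (πQ_mul h t) (πQ_ker h t) ((mem_normalizer_iff.1 hg.2 _).1 hw) hw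
        (by rw [act g hg _ hw, k]))
    exact ⟨x, hx, k', by rw [mul x (Q_le h t hx) g hg, psi_Q h t act hx, one_mul]⟩
  refine ⟨QQ h t, πQ C τ, Ψ, ⟨z2, Wz_le h t (v_mem h 1), πQ_mul h t, πQ_ker h t, πQ_surj h t,
    Q_sq h t, comm_of_sq (v_sq h 1) (z_comm h t) (πQ_mul h t) (Q_sq h t), mul, act,
    fun g hg k => ?_, h.odd, O_comm h t, hw, ?_, ?_, fun g g1 g2 => ?_, h.vconj om (by decide),
    C.r 1, M0_le h t (W_le h (h.rW 1)), ?_, ?_, fun o ho => h.OW o ho _ (h.rW 1)⟩,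
    fun φ hφ k => ?_, Wz_le h t ⟨h.eW 1, by rw [h.πe]; decide⟩, fun g hg => (M0_le h t hg).2,
    fun g hg => ?_, fun g hg g1 => ?_, ⟨τ, τ_mem h t, fun e => z_ne h (by simpa [e] using t.τω)⟩,
    fun g hg k => O_ext fun n => ?_⟩
  · obtain ⟨x, hx, k1, k2⟩ := red g hg (by rw [k]; rfl)
    obtain ⟨a, ha, o, ho, e⟩ := cent h k1 fun b hb => eq_or (πQ_mul h t) (πQ_ker h t)
      (Wz_le h t (conj_Wz h k1 hb).1) (Wz_le h t hb)
      (by rw [act _ (M0_le h t k1) _ (Wz_le h t hb), k2, k]; rfl)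
    exact ⟨x⁻¹ * a, mul_mem (inv_mem hx) (Wz_le h t ha), o, ho, by rw [mul_assoc, ← e]; simp⟩
  · rw [πQ_w h t]
    simp
  · rw [πQ_w h t, e6.map_app]
    simp [hypExt_apply]
  · obtain ⟨x, hx, k⟩ := split h t hN g1 g2
    exact (mul_mem_cancel_left (le_normalizer hx)).1 (M0_le h t k).2
  · rintro ⟨a, ha, i, e⟩
    rcases zc i with rfl | rfl
    · rw [ZMod.val_zero, pow_zero, mul_one] at e
      have := (e ▸ ha).2
      rw [h.πr] at this
      exact absurd this (by decide)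
    · have hτ : τ ∈ W := (mul_mem_cancel_left ha.1).1 (by simpa [← e, val_one] using h.rW 1)
      exact z_ne h (by simpa [(v_comm h om hτ).eq] using t.τω)
  · rw [h.sq _ (h.rW 1), h.πr, ← v_zero h]
    congr 1
  · rw [πQ_w h t] at k
    obtain ⟨g6, m, k1, k2⟩ := stab hq4 e6 hq6 k
    obtain ⟨g, hg, rfl, -⟩ := h.phi.Φ_surj g6
      ((mem_kerDS_of_two_eq_zero _ rfl).2 (k1.symm.trans hφ.1))
    obtain ⟨m', -, k3⟩ := psi_M0 h t act hg
    obtain ⟨a, ha, e⟩ := h.π_surj (0, m' - m)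
    refine ⟨a * g, M0_le h t (mul_mem (W_le h ha) hg), uniq hq4 e6 fun n s => ?_⟩
    rw [mul a (M0_le h t (W_le h ha)) g (M0_le h t hg), O_mul_apply, k3, k2,
      psi_W h t act ha (by rw [e]), e, polar_comm, polar_sub_right]
    congr 3
    ring

  · obtain ⟨m, k3, -⟩ := psi_M0 h t act hg
    rw [mem_kerDS_of_two_eq_zero _ rfl, mem_kerDS_of_two_eq_zero _ rfl, k3]
  · have g2 : g⁻¹ * C.v 1 = C.v 1 * g⁻¹ := (Commute.inv_left g1).eq
    obtain ⟨s, hs⟩ := mem_V h ((mem_normalizer_iff.1 (inv_mem hg) _).1 (subset_closure ⟨om, rfl⟩))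
    obtain ⟨x, hx, k⟩ := split h t hN g2 (by
      rcases f4c s with rfl | rfl | rfl | rfl
      · rw [v_zero h, eq_comm, conj_eq_one_iff] at hs
        exact absurd (h.v_inj _ hs) (by decide)
      · rw [eq_mul_inv_iff_mul_eq, ← g2, mul_right_inj] at hs
        exact absurd (v_inj' h hs) (by decide)
      · exact .inl hs.symm
      · exact .inr (hs.symm.trans (h.v_add _ _)))
    exact ⟨x⁻¹, inv_mem hx, by simpa using (C.M0 W).inv_mem k⟩
  · obtain ⟨a, ha, rfl⟩ := exists_Wz h n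
    have := k a (Wz_le h t ha) (by
      rw [πQ_w h t, πQ_Wz h t ha, polar, ← map_add, e6.map_app, e6.map_app, e6.map_app]
      simp [hypExt_apply])
    rw [πQ_w h t, πQ_Wz h t ha, πQ_Wz h t (conj_Wz h hg ha).1, (conj_Wz h hg ha).2,
      ← map_add] at this
    rcases this with e | e <;> simpa using congrArg Prod.fst (EquivLike.injective e6 e)

end Cfsg.Agent.H28.AlQ
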