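import Mathlib
import Cfsg.Agent.H76.AsQB
import Cfsg.Agent.H42.ALDefs

/-!
# The element `κ` normalizes the extraspecial group of order `2^7` (AL-QB)
-/

set_option autoImplicit false

namespace Cfsg.Agent.H28.AlQ

open Subgroup H30 H42.AL QuadraticMap Module
open H42.AS (om Q0)
open H76.AsQB (z2 pself exists_pair exists_ker exists_dual mov_line indep)

set_option synthInstance.maxSize 100000 in
theorem idx0 : ∀ a b c d e f : ZMod 2, a * c + b * d + (e ^ 2 + e * f + f ^ 2) = 0 →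
    ∀ a' b' c' d' e' f' : ZMod 2, a' * c' + b' * d' + (e' ^ 2 + e' * f' + f' ^ 2) = 0 →
    a * c' + c * a' + (b * d' + d * b') + (e * f' + f * e') = 0 →
    ∀ x y z t u v : ZMod 2, x * z + y * t + (u ^ 2 + u * v + v ^ 2) = 0 →
    a * z + c * x + (b * t + d * y) + (e * v + f * u) = 0 →
    a' * z + c' * x + (b' * t + d' * y) + (e' * v + f' * u) = 0 →
    ∃ i j k : ZMod 2, ¬ (i = 0 ∧ j = 0 ∧ k = 0) ∧ i * a + j * a' + k * x = 0 ∧
      i * b + j * b' + k * y = 0 ∧ i * c + j * c' + k * z = 0 ∧ i * d + j * d' + k * t = 0 ∧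
      i * e + j * e' + k * u = 0 ∧ i * f + j * f' + k * v = 0 := by
  decide +kernel

theorem idx {p p' x : (Fin 2 ⊕ Fin 2) ⊕ Fin 2 → ZMod 2} (hi : LinearIndependent (ZMod 2) ![p, p'])
    (hp : q6 p = 0) (hp' : q6 p' = 0) (hpp : polar q6 p p' = 0) (h0 : q6 x = 0)
    (h1 : polar q6 p x = 0) (h2 : polar q6 p' x = 0) : x ∈ Submodule.span (ZMod 2) {p, p'} := by
  simp only [qMinus_apply, polar_qMinus, Fin.sum_univ_two, one_mul, show (2 : ZMod 2) = 0 from rfl,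
    zero_mul, zero_add, add_zero] at hp hp' hpp h0 h1 h2
  obtain ⟨i, j, k, n, e⟩ := idx0 _ _ _ _ _ _ hp _ _ _ _ _ _ hp' hpp _ _ _ _ _ _ h0 h1 h2
  have e' : i • p + j • p' + k • x = 0 := by
    ext ((l | l) | l) <;> fin_cases l
    exacts [e.1, e.2.1, e.2.2.1, e.2.2.2.1, e.2.2.2.2.1, e.2.2.2.2.2]
  by_cases hk : k = 0
  · rw [hk, zero_smul, add_zero] at e'
    exact absurd ⟨(LinearIndependent.pair_iff.1 hi _ _ e').1,
      (LinearIndependent.pair_iff.1 hi _ _ e').2, hk⟩ n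
  · rw [z2 hk, one_smul] at e'
    exact Submodule.mem_span_pair.2 ⟨-i, -j, by linear_combination (norm := module) -e'⟩

section Geo

variable {V : Type*} [AddCommGroup V] [Module (ZMod 2) V] [FiniteDimensional (ZMod 2) V]
  {Q : QuadraticForm (ZMod 2) V} (hQ : (polarBilin Q).Nondegenerate)
include hQ

theorem perp_le (h6 : finrank (ZMod 2) V = 6) {p p' : V} (hp : Q p = 0) (hp' : Q p' = 0)
    (hpp : polar Q p p' = 0) (an : ∀ x, Q x = 0 → polar Q p x = 0 → polar Q p' x = 0 →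
      x ∈ Submodule.span (ZMod 2) {p, p'}) {J : Submodule (ZMod 2) V}
    (hJ : ∀ φ ∈ kerDS hQ, φ.1 p = p → φ.1 p' = p' → ∀ x ∈ J, φ.1 x ∈ J) {w : V} (hw : w ∈ J)
    (hl : w ∉ Submodule.span (ZMod 2) {p, p'}) : perp Q (Submodule.span (ZMod 2) {p, p'}) ≤ J := by
  set l := Submodule.span (ZMod 2) {p, p'} with hl'
  have mp : p ∈ l := Submodule.subset_span (by simp)
  have mp' : p' ∈ l := Submodule.subset_span (by simp)
  by_cases hwl : w ∈ perp Q l
  · obtain ⟨y, y1, y2⟩ : ∃ y ∈ perp Q l, polar Q w y = 1 := by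
      by_contra! H
      exact hl (perp_perp hQ l ▸ mem_perp'.2 fun y hy => by by_contra h; exact H y hy (z2 h))
    have q1 : Q w ≠ 0 := fun h => hl (an w h (mem_perp.1 hwl _ mp) (mem_perp.1 hwl _ mp'))
    have key : ∀ n ∈ perp Q l, polar Q w n = 1 → n ∈ J := fun n hn h => by
      have q2 : Q n ≠ 0 := fun k => by
        rw [polar_comm, mem_perp.1 hwl _ (an n k (mem_perp.1 hn _ mp) (mem_perp.1 hn _ mp'))] at h
        exact zero_ne_one h
      have fx : ∀ x ∈ l, (refl Q n * refl Q w).1 x = x := fun x hx => by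
        rw [O_mul_apply, refl_apply_of_orth (mem_perp.1 hwl x hx),
          refl_apply_of_orth (mem_perp.1 hn x hx)]
      have := add_mem (hJ _ ((mem_kerDS_of_two_eq_zero hQ rfl).2 (by
        rw [map_mul, dickson_refl hQ q1, dickson_refl hQ q2]; simp)) (fx _ mp) (fx _ mp') w hw) hw
      rw [O_mul_apply, refl_apply_self q1, map_neg, refl_apply, h, z2 q2] at this
      simpa using this
    intro x hx
    by_cases h : polar Q w x = 0
    · simpa using sub_mem (key _ (add_mem hx y1) (by rw [polar_add_right, h, y2, zero_add]))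
        (key y y1 y2)
    · exact key x hx (z2 h)
  have d1 : finrank (ZMod 2) l ≤ 2 := by
    classical
    have := (finrank_span_finset_le_card (R := ZMod 2) {p, p'}).trans Finset.card_le_two
    rwa [Finset.coe_pair] at this
  have d2 := finrank_add_finrank_perp hQ l
  have ll : l ≤ perp Q l := Submodule.span_le.2 (by
    rintro x (rfl | rfl) <;> refine mem_perp_span.2 ?_ <;> rintro y (rfl | rfl)
    exacts [pself _, (polar_comm _ _ _).trans hpp, hpp, pself _])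
  obtain ⟨s, s1, h0, s3⟩ : ∃ s ∈ l, Q s = 0 ∧ polar Q s w ≠ 0 := by
    by_contra! H
    exact hwl (mem_perp_span.2 (by rintro y (rfl | rfl); exacts [H _ mp hp, H _ mp' hp']))
  have h1 := (polar_comm _ _ _).trans (z2 s3)
  have k : ∀ n ∈ perp Q l, n - (polar Q w n + Q n) • s ∈ J := fun n hn => by
    have := sub_mem (hJ _ (eich_mem_kerDS hQ s n)
      (eich_apply_of_orth (mem_perp.1 (ll s1) _ mp) (mem_perp.1 hn _ mp))
      (eich_apply_of_orth (mem_perp.1 (ll s1) _ mp') (mem_perp.1 hn _ mp')) w hw) hw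
    rw [eich_apply h0 (mem_perp.1 hn s s1), h1] at this
    convert this using 1
    module
  obtain ⟨n, hn, n', hn', e⟩ := exists_pair hQ (W := perp Q l) (by omega)
  have ms : s ∈ J := by
    have := sub_mem (add_mem (k n hn) (k n' hn')) (k _ (add_mem hn hn'))
    rw [polar_add_right, Q_add, e] at this
    convert this using 1
    module
  intro x hx
  simpa using add_mem (k x hx) (J.smul_mem (polar Q w x + Q x) ms)

theorem ker_le (h6 : finrank (ZMod 2) V = 6) {p p' : V} (h0 : p ≠ 0) (h0' : p' ≠ 0) (hne : p' ≠ p)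
    (hp : Q p = 0) (hp' : Q p' = 0) (hpp : polar Q p p' = 0) {H : Subgroup (O Q)}
    (h2 : ∀ φ ∈ kerDS hQ, φ.1 p = p → φ ∈ H)
    {k : O Q} (hk : k ∈ H) (hkp : k.1 p = p') : kerDS hQ ≤ H := by
  have t1 : ∀ x, x ≠ 0 → Q x = 0 → polar Q p x = 0 → ∃ φ ∈ H, φ.1 p = x := fun x a1 a2 a3 => by
    by_cases hx : x = p
    · exact ⟨1, one_mem _, hx.symm⟩
    obtain ⟨g, g1, g2⟩ := witt_two hQ (indep hQ h0 h0' hne) (indep hQ h0 a1 hx) rfl
      (hp'.trans a2.symm) (hpp.trans a3.symm)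
    obtain ⟨φ, k1, k2⟩ := exists_ker hQ g (W := Submodule.span (ZMod 2) (Set.range ![p, x])) (by
      have : finrank (ZMod 2) (Submodule.span (ZMod 2) (Set.range ![p, x])) ≤ 2 :=
        (finrank_range_le_card (R := ZMod 2) ![p, x]).trans (by simp)
      omega)
    exact ⟨φ * k, mul_mem (h2 φ k1 (by rw [k2 _ (g1.symm ▸ Submodule.subset_span ⟨0, rfl⟩), g1])) hk,
      by rw [O_mul_apply, hkp, k2 _ (g2.symm ▸ Submodule.subset_span ⟨1, rfl⟩), g2]⟩
  have t2 : ∀ x, x ≠ 0 → Q x = 0 → ∃ φ ∈ H, φ.1 p = x := fun x a1 a2 => by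
    have d1 := finrank_inf_perp_singleton (Q := Q) ⊤ p
    have d2 := finrank_inf_perp_singleton (Q := Q) (⊤ ⊓ perp Q (ZMod 2 ∙ p)) x
    rw [finrank_top] at d1
    obtain ⟨y, ⟨⟨-, y1⟩, y2⟩, y3, y4⟩ := exists_singular_mem Q
      (⊤ ⊓ perp Q (ZMod 2 ∙ p) ⊓ perp Q (ZMod 2 ∙ x)) (by omega)
    obtain ⟨φ, k1, rfl⟩ := t1 y y3 y4 (mem_perp_singleton.1 y1)
    obtain ⟨ψ, k2, k3⟩ := t1 ((φ⁻¹).1 x) (by simpa using a1) (by rw [O_map, a2]) (by
      rw [← O_polar φ, O_apply_inv, polar_comm]; exact mem_perp_singleton.1 y2)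
    exact ⟨φ * ψ, mul_mem k1 k2, by rw [O_mul_apply, k3, O_apply_inv]⟩
  rw [← eichGroup_eq_kerDS hQ (not_isExc_of_finrank (by omega)) (by omega)]
  refine eichGroup_le fun u v a1 a2 _ => ?_
  obtain ⟨φ, k1, rfl⟩ := t2 u a1 a2
  rw [← O_apply_inv φ v, ← eich_conj]
  exact mul_mem (mul_mem k1 (h2 _ (eich_mem_kerDS hQ _ _) (eich_apply_self _ _))) (inv_mem k1)

end Geo

universe u

theorem qb0 {G : Type u} [Group G] [Finite G] {z v0 u κ : G} {Q Od : Subgroup G}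
    {π : G → (Fin 2 ⊕ Fin 2) ⊕ Fin 2 → ZMod 2} {Ψ : G → O q6} (P : Q0 z v0 Q Od π Ψ)
    (ss : ∀ φ ∈ kerDS hq6, φ.1 (π v0) = π v0 →
      ∃ g ∈ centralizer {z} ⊓ normalizer (Q : Set G), Ψ g = φ) (hu : u ∈ Q) (hne : π u ≠ π v0)
    (hc : v0 * u = u * v0) (κz : κ * z = z * κ) (κ1 : κ * v0 * κ⁻¹ = u) (κ2 : κ * u * κ⁻¹ = v0) :
    ∀ φ ∈ kerDS hq6, ∃ g ∈ centralizer {z} ⊓ normalizer (Q : Set G), Ψ g = φ := by
  have hQ := hq6
  have h6 : finrank (ZMod 2) ((Fin 2 ⊕ Fin 2) ⊕ Fin 2 → ZMod 2) = 6 := by simp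
  have zz : z * z = 1 := by rw [← pow_two, ← P.z2, pow_orderOf_eq_one]
  have z1 : z ≠ 1 := fun h => by have := P.z2; rw [h, orderOf_one] at this; omega
  have zp : ∀ a : ZMod 2, z ^ a.val = 1 → a = 0 := fun a h => by
    by_contra h0; rw [z2 h0] at h; exact z1 (by simpa [ZMod.val_one] using h)
  have zc : ∀ a : ZMod 2, z ^ a.val = 1 ∨ z ^ a.val = z := fun a => by
    by_cases h0 : a = 0
    · left; simp [h0]
    · right; rw [z2 h0]; simp [ZMod.val_one]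
  have π1 : π 1 = 0 := (P.π_ker 1 (one_mem _)).2 (Or.inl rfl)
  have πz : π z = 0 := (P.π_ker z P.zQ).2 (Or.inr rfl)
  have cz : ∀ a ∈ Q, a * z = z * a := fun a ha => by
    rw [P.comm a ha z P.zQ, πz, polar_zero_right]; simp
  have cj : ∀ a ∈ Q, ∀ b ∈ Q, a * b * a⁻¹ = b ∨ a * b * a⁻¹ = b * z := fun a ha b hb => by
    rw [P.comm a ha b hb]
    rcases zc (polar q6 (π a) (π b)) with h | h <;> rw [h]
    · left; group
    · right; rw [cz b hb]; group
  have πinv : ∀ a ∈ Q, π a⁻¹ = -π a := fun a ha => by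
    rw [eq_neg_iff_add_eq_zero, ← P.π_mul _ (inv_mem ha) _ ha, inv_mul_cancel, π1]
  have πeq : ∀ a ∈ Q, ∀ b ∈ Q, π a = π b → a = b ∨ a = b * z := fun a ha b hb h => by
    rcases (P.π_ker (b⁻¹ * a) (mul_mem (inv_mem hb) ha)).1 (by
      rw [P.π_mul _ (inv_mem hb) _ ha, πinv b hb, h, neg_add_cancel]) with h | h
    · left; rw [inv_mul_eq_one.1 h]
    · right; rw [← h]; group
  have kz : κ * z * κ⁻¹ = z := by rw [κz]; group
  have kz' : κ⁻¹ * z * κ = z := by rw [mul_assoc, ← κz]; group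
  have κ1' : κ⁻¹ * u * κ = v0 := by rw [← κ1]; group
  have κ2' : κ⁻¹ * v0 * κ = u := by rw [← κ2]; group
  have u0 : π u ≠ 0 := fun h => P.v_ne ((P.π_ker v0 P.vQ).2 (by
    rcases (P.π_ker u hu).1 h with h | h
    · left; rw [← κ2, h]; group
    · right; rw [← κ2, h, kz]))
  have us : q6 (π u) = 0 := zp _ (by
    rw [← P.sq u hu, ← κ1, conj_mul, P.sq v0 P.vQ, P.v_sing]; simp)
  have uv : polar q6 (π v0) (π u) = 0 := zp _ (by
    have := P.comm v0 P.vQ u hu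
    rwa [hc, eq_comm, mul_eq_right] at this)
  -- elements fixing `u` modulo `z` normalize `κ Q κ⁻¹`
  have loc' : ∀ g, g * z = z * g → (g * u * g⁻¹ = u ∨ g * u * g⁻¹ = u * z) →
      κ⁻¹ * g * κ ∈ normalizer (Q : Set G) := fun g h1 h2 => P.loc _ (by
      calc κ⁻¹ * g * κ * z = κ⁻¹ * (g * (κ * z * κ⁻¹)) * κ := by group
        _ = κ⁻¹ * z * κ * (κ⁻¹ * g * κ) := by rw [kz, h1]; group
        _ = _ := by rw [kz']) (by
      have e : κ⁻¹ * g * κ * v0 * (κ⁻¹ * g * κ)⁻¹ = κ⁻¹ * (g * u * g⁻¹) * κ := by rw [← κ1]; group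
      rw [e]
      refine h2.imp (fun h => by rw [h, κ1']) fun h => ?_
      rw [h, ← κ1', ← kz']; nth_rw 1 [← kz]; group)
  have nn : ∀ {g a}, g ∈ normalizer (Q : Set G) → a ∈ Q → g * a * g⁻¹ ∈ Q := fun hg ha =>
    (mem_normalizer_iff.1 hg _).1 ha
  have kk : κ * κ ∈ normalizer (Q : Set G) := P.loc _
    (by rw [mul_assoc, κz, ← mul_assoc, κz, mul_assoc]) (Or.inl (by
      calc _ = κ * (κ * v0 * κ⁻¹) * κ⁻¹ := by group
        _ = _ := by rw [κ1, κ2]))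
  have mY : ∀ a ∈ Q, κ * a * κ⁻¹ ∈ centralizer {z} ⊓ normalizer (Q : Set G) := fun a ha => by
    have h1 : κ * a * κ⁻¹ * z = z * (κ * a * κ⁻¹) := by
      calc _ = κ * (a * (κ⁻¹ * z * κ)) * κ⁻¹ := by group
        _ = κ * z * κ⁻¹ * (κ * a * κ⁻¹) := by rw [kz', cz a ha]; group
        _ = _ := by rw [kz]
    refine ⟨mem_centralizer_singleton_iff.2 h1, P.loc _ h1 ?_⟩
    have e : κ * a * κ⁻¹ * v0 * (κ * a * κ⁻¹)⁻¹ = κ * (a * u * a⁻¹) * κ⁻¹ := by rw [← κ2']; group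
    rw [e]
    refine (cj a ha u hu).imp (fun h => by rw [h, κ2]) fun h => ?_
    rw [h, ← κ2, ← kz]; nth_rw 1 [← kz']; group
  have four : ∀ a ∈ Q, a ^ 4 = 1 := fun a ha => by
    rw [show a ^ 4 = a * a * (a * a) by simp [pow_succ, mul_assoc], P.sq a ha]
    rcases zc (q6 (π a)) with h | h <;> simp [h, zz]
  have ker : ∀ a ∈ Q, Ψ (κ * a * κ⁻¹) = 1 → κ⁻¹ * a * κ ∈ Q := fun a ha h => by
    obtain ⟨b, hb, o, ho, e⟩ := P.Ψ_ker _ (mY a ha) h
    have h4 : o ^ 4 = 1 := by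
      have := congrArg (· ^ 4) e
      simp only [conj_pow, four a ha] at this
      rw [Commute.mul_pow (P.OQ o ho b hb).symm, four b hb] at this
      simpa using this.symm
    have h1 : o = 1 := orderOf_eq_one_iff.1 (Nat.Coprime.eq_one_of_dvd
      ((Nat.Coprime.pow_right 2 (P.odd.of_dvd_nat (Od.orderOf_dvd_natCard ho)).coprime_two_right))
      (orderOf_dvd_of_pow_eq_one h4))
    rw [h1, mul_one] at e
    convert nn (inv_mem kk) (e ▸ hb) using 1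
    group
  let J : Submodule (ZMod 2) ((Fin 2 ⊕ Fin 2) ⊕ Fin 2 → ZMod 2) :=
    { carrier := {x | ∃ a ∈ Q, κ⁻¹ * a * κ ∈ Q ∧ π a = x}
      zero_mem' := ⟨1, one_mem _, by simp, π1⟩
      add_mem' := by
        rintro _ _ ⟨a, a1, a2, rfl⟩ ⟨b, b1, b2, rfl⟩
        exact ⟨a * b, mul_mem a1 b1, by convert mul_mem a2 b2 using 1; group, P.π_mul a a1 b b1⟩
      smul_mem' := fun c x hx => by
        by_cases h : c = 0
        · exact ⟨1, one_mem _, by simp, by rw [h, zero_smul, π1]⟩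
        · rwa [z2 h, one_smul] }
  have hJ : ∀ φ ∈ kerDS hQ, φ.1 (π v0) = π v0 → φ.1 (π u) = π u → ∀ x ∈ J, φ.1 x ∈ J := by
    rintro φ h1 h2 h3 _ ⟨a, a1, a2, rfl⟩
    obtain ⟨g, hg, rfl⟩ := ss φ h1 h2
    refine ⟨_, nn hg.2 a1, ?_, P.act g hg a a1⟩
    convert nn (loc' g (mem_centralizer_singleton_iff.1 hg.1)
      (πeq _ (nn hg.2 hu) _ hu ((P.act g hg u hu).trans h3))) a2 using 1
    group
  have fix : ∀ a ∈ Q, ∀ x ∈ J, (Ψ (κ * a * κ⁻¹)).1 x = x := by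
    rintro a ha _ ⟨b, b1, b2, rfl⟩
    rw [← P.act _ (mY a ha) b b1, show κ * a * κ⁻¹ * b * (κ * a * κ⁻¹)⁻¹ =
      κ * (a * (κ⁻¹ * b * κ) * a⁻¹) * κ⁻¹ by group]
    rcases cj a ha _ b2 with h | h <;> rw [h]
    · congr 1; group
    · rw [show κ * (κ⁻¹ * b * κ * z) * κ⁻¹ = b * (κ * z * κ⁻¹) by group, kz, P.π_mul b b1 z P.zQ, πz,
        add_zero]
  have mov : ∀ a ∈ Q, ∀ x, (Ψ (κ * a * κ⁻¹)).1 x - x ∈ Submodule.span (ZMod 2) {π v0, π u} := by
    intro a ha x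
    by_contra H
    have m : (Ψ (κ * a * κ⁻¹)).1 x - x ∈ J := by
      obtain ⟨b, hb, rfl⟩ := P.π_surj x
      refine ⟨_, mul_mem (nn (mY a ha).2 hb) (inv_mem hb), ?_, by
        rw [P.π_mul _ (nn (mY a ha).2 hb) _ (inv_mem hb), P.act _ (mY a ha) b hb, πinv b hb,
          sub_eq_add_neg]⟩
      convert mul_mem ha (nn (loc' b (cz b hb) (cj b hb u hu)) (inv_mem ha)) using 1
      group
    refine H ((perp_perp hQ _).le (perp_anti (perp_le hQ h6 P.v_sing us uv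
      (fun _ => idx (indep hQ P.v_ne u0 hne) P.v_sing us uv) hJ m H)
      (mem_perp.2 fun y hy => ?_)))
    rw [polar_sub_right, sub_eq_zero]
    nth_rw 1 [← fix a ha y hy]
    exact O_polar _ _ _
  obtain ⟨x₁, a1, a2⟩ := exists_dual hQ P.v_ne hne.symm
  obtain ⟨x₂, b1, b2⟩ := exists_dual hQ u0 hne
  have all : ∀ a ∈ Q, κ⁻¹ * a * κ ∈ Q := by
    by_contra H
    push Not at H
    obtain ⟨a, ha, H⟩ := H
    have m := fun a ha => (mov_line P.v_sing us uv a1 a2 b1 b2 (mov a ha)).imp_left (ker a ha)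
    have k : ∀ b ∈ Q, polar q6 (π v0) (π b) = 1 ∨
        polar q6 (π u) (π b) = 1 → ∀ x, (Ψ (κ * b * κ⁻¹)).1 x =
          (Ψ (κ * a * κ⁻¹)).1 x := fun b hb h x => by
      have e := (m a ha).resolve_left H
      rw [e, ((m b hb).resolve_left fun h1 => ?_) x]
      have := fix a ha _ ⟨b, hb, h1, rfl⟩
      rw [e, add_assoc, add_eq_left] at this
      obtain ⟨c1, c2⟩ := LinearIndependent.pair_iff.1 (indep hQ P.v_ne u0 hne) _ _ this
      rw [c1, c2] at h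
      exact absurd h (by decide)
    obtain ⟨c₁, c1, rfl⟩ := P.π_surj x₁
    obtain ⟨c₂, c2, rfl⟩ := P.π_surj x₂
    refine H (ker a ha (O_ext fun x => (Ψ (κ * a * κ⁻¹)).1.injective ?_))
    rw [← k c₁ c1 (Or.inl a1), ← k c₂ c2 (Or.inr b1), ← O_mul_apply,
      ← P.Ψ_mul _ (mY _ c1) _ (mY _ c2), conj_mul, k _ (mul_mem c1 c2) (Or.inl (by
        rw [P.π_mul _ c1 _ c2, polar_add_right, a1, b2, add_zero]))]
    rfl
  have hκ : κ ∈ centralizer {z} ⊓ normalizer (Q : Set G) := ⟨mem_centralizer_singleton_iff.2 κz,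
    mem_normalizer_iff.2 fun a => ⟨fun h => by convert nn kk (all a h) using 1; group,
      fun h => by simpa [mul_assoc] using all _ h⟩⟩
  have Ψ1 : Ψ 1 = 1 := by simpa using P.Ψ_mul 1 (one_mem _) 1 (one_mem _)
  let H : Subgroup (O q6) :=
    { carrier := {φ | ∃ g ∈ centralizer {z} ⊓ normalizer (Q : Set G), Ψ g = φ}
      one_mem' := ⟨1, one_mem _, Ψ1⟩
      mul_mem' := by
        rintro _ _ ⟨g, hg, rfl⟩ ⟨h, hh, rfl⟩
        exact ⟨g * h, mul_mem hg hh, P.Ψ_mul g hg h hh⟩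
      inv_mem' := by
        rintro _ ⟨g, hg, rfl⟩
        exact ⟨g⁻¹, inv_mem hg, eq_inv_of_mul_eq_one_left (by
          rw [← P.Ψ_mul _ (inv_mem hg) _ hg, inv_mul_cancel, Ψ1])⟩ }
  exact fun φ h => ker_le hQ h6 P.v_ne u0 hne P.v_sing us uv (H := H) ss ⟨κ, hκ, rfl⟩
    (by rw [← P.act κ hκ v0 P.vQ, κ1]) h

theorem qb : QBStmt.{u} := by
  intro G _ _ C W Od Q τ κ ϖ Ψ h t P
  have e2 : C.e 1 * C.e 1 = 1 := by
    rw [← h.e_add, show (1 + 1 : F4) = 0 from rfl]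
    simpa using h.e_add 0 0
  have k1 : κ * C.v om * κ⁻¹ = C.e 1 * C.v om := mul_inv_eq_iff_eq_mul.2 t.κω
  refine qb0 P.toQ0 P.stab_surj (mul_mem P.eQ P.vQ) (fun e => ?_) ?_ t.κ1 k1 ?_
  · rw [P.π_mul _ P.eQ _ P.vQ, add_eq_right, P.π_ker _ P.eQ] at e
    have := (h.π_ker _ (h.eW 1)).2 (e.elim (fun e => ⟨0, by simpa [e] using h.v_add 0 0⟩)
      fun e => ⟨1, e.symm⟩)
    rw [h.πe] at this
    exact absurd this (by decide)
  · have := h.comm _ (h.vW om) _ (h.eW 1)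
    rw [(h.π_ker _ (h.vW om)).2 ⟨om, rfl⟩, show bq 0 (C.π (C.e 1)) = 0 by simp [bq]; rfl,
      show C.v 0 = 1 by simpa using h.v_add 0 0, one_mul] at this
    rw [← mul_assoc, this]
  · rw [← conj_mul, k1, t.κe, mul_inv_cancel_right, ← mul_assoc, e2, one_mul]

end Cfsg.Agent.H28.AlQ
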