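import Mathlib
import Cfsg.Agent.H46.SKit
import Cfsg.Agent.H23.WEnd

/-! Project S95: the normaliser of the base group does not induce only inner automorphisms. -/

set_option autoImplicit false
open scoped Pointwise commutatorElement
open Subgroup

namespace Cfsg.Agent.H28.S95E
open Cfsg.Agent.H8 Cfsg.Agent.H23.D2 Cfsg.Agent.H46.S95 Cfsg.Agent.H46.WR

universe u

local notation "C[" A "]" => Subgroup.centralizer (SetLike.coe A)
local notation "N[" A "]" => Subgroup.normalizer (SetLike.coe A)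

variable {Γ : Type} [Group Γ] {G : Type u} [Group G] {φ : Γ →* G} {t : G}

/-- a `2`-group through `t` lies in `H` if `H` controls the conjugates of `t` -/
theorem two_le [Finite G] {H R : Subgroup G} (hR : IsPGroup 2 R) (tR : t ∈ R) (tH : t ∈ H)
    (h : ∀ g, g * t * g⁻¹ ∈ H → g ∈ H) : R ≤ H := by
  by_contra k
  obtain ⟨g, ⟨g1, g2⟩, g3⟩ := SetLike.exists_of_lt (lt_inf_normalizer_of_lt hR
    (inf_lt_left.2 k : R ⊓ H < R))
  exact g3 ⟨g1, h g (norm_conj g2 (⟨tR, tH⟩ : t ∈ R ⊓ H)).2⟩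

/-- a `2`-subgroup of `X C(X)` lies in `X` if `C(X)` has odd order -/
theorem two_le_X [Finite G] {X R : Subgroup G} (o : Odd (Nat.card C[X])) (hR : IsPGroup 2 R)
    (h : R ≤ X ⊔ C[X]) : R ≤ X := fun r hr => by
  have : r ∈ (X : Set G) * (C[X] : Set G) := by
    rw [← coe_mul_of_right_le_normalizer_left _ _ (centralizer_le_normalizer _)]
    exact h hr
  obtain ⟨x, hx, c, hc, rfl⟩ := this
  obtain ⟨k, hk⟩ := hR ⟨_, hr⟩
  have e : x ^ 2 ^ k * c ^ 2 ^ k = 1 := by
    rw [← Commute.mul_pow (mem_C.1 hc x hx)]; exact congrArg Subtype.val hk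
  have m : c ^ 2 ^ k ∈ X := by
    rw [eq_inv_of_mul_eq_one_right e]; exact inv_mem (pow_mem hx _)
  refine mul_mem hx ((zpowers_le.2 m : zpowers (c ^ 2 ^ k) ≤ X) (mem_zpowers_pow_iff.2 ?_))
  exact Nat.Coprime.pow_left k (Nat.coprime_two_left.2
    (o.of_dvd_nat (Subgroup.orderOf_dvd_natCard _ hc)))

/-- `2`-subgroups of the base group -/
theorem card_le_sq [Finite G] (hb : Base Γ) {n : ℕ} (le : ∀ P : Subgroup Γ, IsPGroup 2 P →
    Nat.card P ≤ n) {X R : Subgroup G} (π : X →* Γ × Γ) (o : Odd (Nat.card π.ker))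
    (hR : IsPGroup 2 R) (h : R ≤ X) : Nat.card R ≤ n * n := by
  have := hb.fin
  let f : R →* Γ × Γ := π.comp (inclusion h)
  have fi : Function.Injective f := (injective_iff_map_eq_one f).2 fun r hr => by
    obtain ⟨k, hk⟩ := hR r
    have d1 : orderOf r ∣ 2 ^ k := orderOf_dvd_of_pow_eq_one hk
    have d2 : orderOf r ∣ Nat.card π.ker := by
      rw [← orderOf_injective _ (inclusion_injective h)]
      exact Subgroup.orderOf_dvd_natCard _ hr
    exact orderOf_eq_one_iff.1 (Nat.eq_one_of_dvd_coprimes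
      (Nat.Coprime.pow_left k (Nat.coprime_two_left.2 o)) d1 d2)
  have p1 := hR.of_surjective _ ((MonoidHom.fst Γ Γ).comp f).rangeRestrict_surjective
  have p2 := hR.of_surjective _ ((MonoidHom.snd Γ Γ).comp f).rangeRestrict_surjective
  refine (Nat.card_le_card_of_injective (fun r => (((MonoidHom.fst Γ Γ).comp f).rangeRestrict r,
    ((MonoidHom.snd Γ Γ).comp f).rangeRestrict r)) fun a b e => fi (Prod.ext
      (congrArg (fun p => (p.1 : Γ)) e) (congrArg (fun p => (p.2 : Γ)) e))).trans ?_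
  rw [Nat.card_prod]
  exact Nat.mul_le_mul (le _ p1) (le _ p2)

theorem tt_smul (tt : t * t = 1) (H : Subgroup G) : MulAut.conj t • MulAut.conj t • H = H := by
  rw [conj_smul_conj_smul, tt, map_one, one_smul]

theorem t_norm (tt : t * t = 1) (H : Subgroup G) : t ∈ N[H ⊔ MulAut.conj t • H] :=
  mem_N_iff.2 (by rw [smul_sup, tt_smul tt, sup_comm])

theorem exists_inv {B : Subgroup G} (hb : Base Γ) (hi : Function.Injective φ) (tt : t * t = 1)
    (w : Wr φ t B) :
    ∃ b ∈ B, b * b = 1 ∧ b ≠ 1 := by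
  by_contra! k
  have : B ≤ ⊥ := w.gen.trans ((closure_le _).2 fun b h => k b h.1 h.2)
  refine hb.nc ⟨⟨fun x y => ?_⟩⟩
  have e : ∀ a : Γ, a = 1 := fun a => by
    obtain ⟨b, hb, e⟩ := w.onto a
    have b1 : b = 1 := this hb
    exact hi (by rw [map_one, ← e, b1, mul_one, tt, mul_one])
  rw [e x, e y]

theorem e5 : E5Stmt.{u} := by
  intro Γ _ G _ _ φ t F O B d n hb syl as h w ek BF tF hH hle
  have fin := hb.fin
  have := as.normal
  have := as.simple
  have ti := h.tinv
  obtain ⟨P, pP, cP⟩ := syl.ex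
  obtain ⟨ι, hι, -⟩ := ek.lift 1 (one_mem _) 1 (fun b c e => by
    rw [show c = b from Subtype.ext (by simpa using e)]; rfl) P pP fun _ _ => rfl
  have ιi : Function.Injective (B.subtype.comp ι) := fun x y e =>
    Subtype.ext (by rw [← hι x, ← hι y, Subtype.ext (a1 := ι x) (a2 := ι y) e])
  obtain ⟨S, hS⟩ : ∃ S, S = (B.subtype.comp ι).range := ⟨_, rfl⟩
  have SB : S ≤ B := by
    rw [hS]; rintro _ ⟨x, rfl⟩; exact (ι x).2
  have cS : Nat.card S = n := by
    rw [hS, ← cP]; exact (Nat.card_congr (MonoidHom.ofInjective ιi).toEquiv).symm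
  have pS : IsPGroup 2 S := hS ▸ pP.of_equiv (MonoidHom.ofInjective ιi)
  have ok : SylOk S := by
    rw [hS, MonoidHom.range_eq_map, H23.WEnd.sylOk_map ιi,
      ← H23.WEnd.sylOk_map P.subtype_injective, ← MonoidHom.range_eq_map, range_subtype]
    exact syl.ok P pP cP
  have hc : B ≤ C[(MulAut.conj t • B : Subgroup G)] := fun b hb' => mem_C.2 fun c hc => by
    have := w.comm b hb' _ (mem_conj.1 hc)
    rw [ti, mul_assoc t c, ← mul_assoc t t, h.tt, one_mul, mul_assoc c, h.tt, mul_one] at this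
    exact this.symm
  have hS' : MulAut.conj t • S ≤ MulAut.conj t • B := pointwise_smul_le_pointwise_smul_iff.2 SB
  have hp : IsInternalDirectProduct S (MulAut.conj t • S) (S ⊔ MulAut.conj t • S) := by
    refine ⟨le_sup_left, le_sup_right, fun a ha b hb' => (mem_C.1 (hc (SB ha)) b (hS' hb')).symm,
      eq_bot_iff.2 fun x hx => ?_, rfl⟩
    obtain ⟨y, rfl⟩ := hS ▸ hx.1
    have := ek.inter (ι y) (hS' hx.2)
    rw [hι] at this
    rw [show y = 1 from Subtype.ext this, map_one]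
    exact one_mem _
  have pS2 : IsPGroup 2 (S ⊔ MulAut.conj t • S : Subgroup G) :=
    pS.to_sup_of_normal_left' (isPGroup_conj_smul pS t) (le_sup_right.trans (H45.Spl.idp_norm hp))
  have pt : IsPGroup 2 (zpowers t) := IsPGroup.of_card (n := 1) (by
    rw [Nat.card_zpowers, orderOf_eq_prime (p := 2) (by rw [sq, h.tt]) h.t1]; rfl)
  obtain ⟨R, hR⟩ := (pS2.to_sup_of_normal_left' pt (zpowers_le.2 (t_norm h.tt S))).exists_le_sylow
  have RH := two_le R.isPGroup' (hR (mem_sup_right (mem_zpowers t))) (t_norm h.tt B) hH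
  have pR : IsPGroup 2 ((R : Subgroup G) ⊓ F : Subgroup G) := R.isPGroup'.to_le inf_le_left
  obtain ⟨π, oπ, -⟩ := ek.pi
  have c1 := card_le_sq hb syl.le π oπ pR
    (two_le_X ek.codd pR ((inf_le_inf_right F RH).trans hle))
  have y2 : MulAut.conj t • B ≤ F := fun x hx => by
    have := as.normal.conj_mem _ (BF (mem_conj.1 hx)) t
    simpa [mul_assoc] using this
  have s1 := SB.trans BF
  have s2 := hS'.trans y2
  have sy : IsSylowIn 2 (S ⊔ MulAut.conj t • S) F := by
    refine (isSylowIn_inf_normal R F).of_card_ge pS2 (sup_le s1 s2) ?_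
    rwa [card_eq_card_mul_relIndex hp.1, H45.Spl.idp_card hp, card_conj, cS]
  obtain ⟨b, hbB, bb, b1⟩ := exists_inv hb h.inj h.tt w
  have ob : orderOf b = 2 := orderOf_eq_prime (by rw [sq, bb]) b1
  have n2 : 2 ≤ n := by
    have d1 : d ⟨b, hbB⟩ ≠ 1 := fun e => by
      have := Subgroup.orderOf_dvd_natCard d.ker (x := ⟨b, hbB⟩) e
      rw [← Subgroup.orderOf_coe, ob] at this
      exact (Nat.not_even_iff_odd.2 ek.odd) (even_iff_two_dvd.2 this)
    have c2 : Nat.card (zpowers (d ⟨b, hbB⟩)) = 2 := by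
      rw [Nat.card_zpowers]
      refine orderOf_eq_prime ?_ d1
      rw [← map_pow, show (⟨b, hbB⟩ : B) ^ 2 = 1 from Subtype.ext (by simpa [sq] using bb), map_one]
    exact c2 ▸ syl.le _ (IsPGroup.of_card (n := 1) c2)
  have hO : oddCore F = ⊥ := sSup_eq_bot.2 fun M hM => hM.1.eq_bot_or_eq_top.resolve_right fun e => by
    have := hM.2
    rw [e, card_top] at this
    exact absurd (Nat.Coprime.coprime_dvd_left (ob ▸ Subgroup.orderOf_dvd_natCard F (BF hbB)) this)
      (by decide)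
  have hY' : ⁅MulAut.conj t • B, MulAut.conj t • B⁆ = MulAut.conj t • B := by
    rw [← commutator_conj_smul, ek.perf]
  have ok' : SylOk (MulAut.conj t • S) :=
    (H23.WEnd.sylOk_map (f := (MulAut.conj t).toMonoidHom) (MulAut.conj t).injective S).2 ok
  have okK : ∀ {T : Subgroup G}, T ≤ F → SylOk T → SylOk (T.subgroupOf F) := fun h1 h2 =>
    (H23.WEnd.sylOk_map F.subtype_injective _).1 (by rwa [map_subgroupOf_eq_of_le h1])
  have pfK : ∀ {T : Subgroup G}, T ≤ F → ⁅T, T⁆ = T →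
      ⁅T.subgroupOf F, T.subgroupOf F⁆ = T.subgroupOf F := fun h1 h2 =>
    map_injective F.subtype_injective (by rw [map_commutator, map_subgroupOf_eq_of_le h1, h2])
  have cdK : ∀ {T : Subgroup G}, T ≤ F → Nat.card (T.subgroupOf F) = Nat.card T := fun h1 =>
    Nat.card_congr (subgroupOfEquivOfLe h1).toEquiv
  obtain ⟨-, c2, -⟩ := H23.WEnd.core hO sy.toSylow
    (S₁ := S.subgroupOf F) (S₂ := (MulAut.conj t • S).subgroupOf F) (Y₁ := B.subgroupOf F)
    (Y₂ := (MulAut.conj t • B).subgroupOf F)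
    ⟨comap_mono le_sup_left, comap_mono le_sup_right,
      fun a ha b hb => Subtype.ext (hp.2.2.1 a ha b hb),
      eq_bot_iff.2 fun x hx => Subtype.ext (hp.2.2.2.1.le ⟨hx.1, hx.2⟩), (subgroupOf_sup s1 s2).symm⟩
    (by rw [cdK s1, cdK s2, card_conj]) (okK s1 ok) (okK s2 ok') (pfK BF ek.perf) (pfK y2 hY')
    (comap_mono SB) (comap_mono hS')
    (fun y hy s hs => Subtype.ext (hc hy s (hS' hs)))
    (fun y hy s hs => Subtype.ext (hc (SB hs) y hy).symm)
  have top : ∀ T : Subgroup F, Nat.card T = n → normalClosure (T : Set F) = ⊤ := fun T e =>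
    (normalClosure_normal (s := (T : Set F))).eq_bot_or_eq_top.resolve_left fun k => by
      have : T = ⊥ := eq_bot_iff.2 (le_normalClosure.trans k.le)
      rw [this, card_bot] at e
      omega
  rw [top _ (by rw [cdK s1, cS]), top _ (by rw [cdK s2, card_conj, cS]), inf_idem] at c2
  exact b1 (congrArg Subtype.val (c2.le (mem_top (⟨b, BF hbB⟩ : F))))

end Cfsg.Agent.H28.S95E
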