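import Mathlib
import Cfsg.Agent.H46.SDefs
import Cfsg.Agent.H46.SKit

/-! Project S95: the reduction to centralisers with small Sylow subgroups, pieces `RedL`, `RedA`. -/

set_option autoImplicit false
open scoped Pointwise commutatorElement
open Subgroup

namespace Cfsg.Agent.H28.S95A
open Cfsg.Agent.H8 Cfsg.Agent.H23.D2 Cfsg.Agent.H46.S95

universe u

local notation "C[" A "]" => Subgroup.centralizer (SetLike.coe A)
local notation "N[" A "]" => Subgroup.normalizer (SetLike.coe A)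

variable {Γ : Type} [Group Γ] {G : Type u} [Group G] {φ : Γ →* G}

/-- the centraliser of an involution of `C(A)` normalises `A` -/
theorem tight [Finite G] {A : Subgroup G} (hs : IsStandardSubgroup A) {a c : G} (ha : a ∈ C[A])
    (a1 : a ≠ 1) (aa : a * a = 1) (hc : c * a = a * c) : c ∈ N[A] := by
  by_contra h
  rw [hs.2.2.2] at h
  have o := hs.2.1.2 c h
  have m : a ∈ C[A] ⊓ C[A].map (MulAut.conj c).toMonoidHom :=
    ⟨ha, a, ha, by simp [hc]⟩
  have := Subgroup.orderOf_dvd_natCard _ m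
  rw [orderOf_eq_prime (p := 2) (by rw [sq, aa]) a1] at this
  exact (Nat.not_even_iff_odd.2 o) (even_iff_two_dvd.2 this)

theorem dec {T : Subgroup G} (hT : T ≤ C[φ.range]) {x : G} (hx : x ∈ φ.range ⊔ T) :
    ∃ a, ∃ k ∈ T, x = φ a * k := by
  have : x ∈ (φ.range : Set G) * (T : Set G) := by
    rw [← coe_mul_of_right_le_normalizer_left _ _ (hT.trans (centralizer_le_normalizer _))]
    exact hx
  obtain ⟨_, ⟨a, rfl⟩, k, hk, e⟩ := this
  exact ⟨a, k, hk, e.symm⟩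

theorem one_of_C (hb : Base Γ) (hi : Function.Injective φ) {a : Γ} (h : φ a ∈ C[φ.range]) :
    a = 1 :=
  hb.eq_one fun x => hi (by rw [map_mul, map_mul, mem_C_range.1 h x])

theorem comm_mem (hb : Base Γ) (hi : Function.Injective φ) {h k : G} (hh : h ∈ N[φ.range])
    (hk : k ∈ N[φ.range]) : ⁅h, k⁆ ∈ φ.range ⊔ C[φ.range] := by
  obtain ⟨θ, e⟩ := exists_autHom hi
  obtain ⟨a, ha⟩ := hb.comm (θ ⟨h, hh⟩) (θ ⟨k, hk⟩)
  rw [← map_inv, ← map_inv, ← map_mul, ← map_mul, ← map_mul] at ha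
  have := cent_of_conj (φ := φ) (c := ⁅h, k⁆) (a := a) fun x => by
    have := e (⟨h, hh⟩ * ⟨k, hk⟩ * ⟨h, hh⟩⁻¹ * ⟨k, hk⟩⁻¹) x
    rw [ha] at this
    exact this.symm
  rw [← mul_inv_cancel_left (φ a) ⁅h, k⁆]
  exact mul_mem (mem_sup_left ⟨a, rfl⟩) (mem_sup_right this)

theorem core [Finite G] (hb : Base Γ) (hi : Function.Injective φ) (ψ : Γ →* G) {Λ : Subgroup Γ}
    {T : Subgroup G} (perf : ⁅Λ, Λ⁆ = Λ) (gen : Λ ≤ closure {x | x ∈ Λ ∧ x * x = 1})
    (LN : ∀ l ∈ Λ, ψ l ∈ N[φ.range]) (syl : IsSylowIn 2 T C[φ.range]) (card : Nat.card T = 4)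
    (cen : ∀ x ∈ T, ∀ l ∈ Λ, x * ψ l = ψ l * x) : ∀ l ∈ Λ, ψ l ∈ φ.range := by
  have s1 : Λ ≤ (φ.range ⊔ C[φ.range]).comap ψ := perf.ge.trans (commutator_le.2 fun a ha b hb' => by
    rw [mem_comap, map_commutatorElement]
    exact comm_mem hb hi (LN a ha) (LN b hb'))
  have s2 : Λ ≤ (φ.range ⊔ T).comap ψ := gen.trans ((closure_le _).2 fun l hl => by
    obtain ⟨a, k, hk, e⟩ := dec le_rfl (s1 hl.1)
    have ck := mem_C_range.1 hk
    have e1 : φ (a * a) * (k * k) = 1 := by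
      rw [← map_one ψ, ← hl.2, map_mul ψ, e, map_mul, mul_assoc, mul_assoc, ← mul_assoc k, ← ck a,
        mul_assoc]
    have e2 : a * a = 1 := one_of_C hb hi (by
      rw [eq_inv_of_mul_eq_one_left e1]; exact inv_mem (mul_mem hk hk))
    rw [e2, map_one, one_mul] at e1
    have kT : k ∈ C[T] := mem_C.2 fun x hx => by
      have := cen x hx l hl.1
      rwa [e, ← mul_assoc, ← mem_C_range.1 (syl.le hx) a, mul_assoc, mul_assoc,
        mul_right_inj] at this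
    have pk : IsPGroup 2 (zpowers k) := by
      rintro ⟨_, j, rfl⟩
      refine ⟨1, Subtype.ext ?_⟩
      change (k ^ j) ^ 2 = 1
      rw [← zpow_natCast, ← zpow_mul, mul_comm, zpow_mul, zpow_natCast, sq, e1, one_zpow]
    have := syl.eq_of_le (syl.isPGroup.to_sup_of_normal_left' pk
      (zpowers_le.2 (C_le_N kT))) (sup_le syl.le (zpowers_le.2 hk)) le_sup_left
    change ψ l ∈ φ.range ⊔ T
    rw [e]
    exact mul_mem (mem_sup_left ⟨a, rfl⟩) (mem_sup_right (this.le (mem_sup_right (mem_zpowers k)))))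
  have ab : ∀ x ∈ T, ∀ y ∈ T, x * y = y * x := fun x hx y hy => by
    have := IsPGroup.isMulCommutative_of_card_eq_prime_sq (p := 2) (G := T) card
    exact congrArg Subtype.val (this.is_comm.comm (⟨x, hx⟩ : T) ⟨y, hy⟩)
  have s3 : Λ ≤ φ.range.comap ψ := perf.ge.trans (commutator_le.2 fun l hl m hm => by
    obtain ⟨a, x, hx, e1⟩ := dec syl.le (s2 hl)
    obtain ⟨b, y, hy, e2⟩ := dec syl.le (s2 hm)
    rw [mem_comap, map_commutatorElement]
    refine ⟨⁅a, b⁆, ?_⟩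
    have c1 := cen x hx m hm
    have c2 := mem_C_range.1 (syl.le hy) a
    have c3 := mem_C_range.1 (syl.le hy) b
    rw [map_commutatorElement, e1, commutatorElement_def, commutatorElement_def]
    calc φ a * φ b * (φ a)⁻¹ * (φ b)⁻¹ = φ a * φ b * (φ a)⁻¹ * y * (φ b * y)⁻¹ := by group
      _ = φ a * φ b * (φ a)⁻¹ * (y * φ a) * (φ a)⁻¹ * (φ b * y)⁻¹ := by group
      _ = φ a * (φ b * y) * (φ a)⁻¹ * (φ b * y)⁻¹ := by rw [← c2]; group
      _ = φ a * (ψ m * x) * (φ a * x)⁻¹ * (ψ m)⁻¹ := by rw [e2]; group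
      _ = _ := by rw [← c1]; group)
  exact fun l hl => s3 hl

theorem conj_ne {b : Γ} (hi : Function.Injective φ) (b1 : b ≠ 1) (c : Γ) (g : G) :
    g⁻¹ * φ (c * b * c⁻¹) * g ≠ 1 := fun e => b1 (by
  have : φ (c * b * c⁻¹) = φ 1 := by
    rw [map_one]
    calc _ = g * (g⁻¹ * φ (c * b * c⁻¹) * g) * g⁻¹ := by group
      _ = 1 := by rw [e]; group
  simpa using hi this)

theorem conj_sq {b : Γ} (bb : b * b = 1) (c : Γ) (g : G) :
    g⁻¹ * φ (c * b * c⁻¹) * g * (g⁻¹ * φ (c * b * c⁻¹) * g) = 1 := by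
  calc _ = g⁻¹ * φ (c * (b * b) * c⁻¹) * g := by simp only [map_mul, map_inv]; group
    _ = 1 := by rw [bb]; simp

theorem half [Finite G] (hi : Function.Injective φ) (hs : IsStandardSubgroup φ.range) {g : G}
    {b c : Γ} {Λ Z : Subgroup Γ} {T : Subgroup G} (p : PG φ g b Λ Z c T) :
    MulAut.conj g⁻¹ • C[φ.range] ≤ N[φ.range] := fun k hk => by
  refine tight hs (mem_conj.1 (p.syl.le p.mem).1) (conj_ne hi p.b1 c g) (conj_sq p.bb c g) ?_
  have := mem_C_range.1 (mem_conj.1 hk) (c * b * c⁻¹)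
  generalize φ (c * b * c⁻¹) = a at this
  calc k * (g⁻¹ * a * g) = g⁻¹ * (g⁻¹⁻¹ * k * g⁻¹ * a) * g := by group
    _ = _ := by rw [← this]; group

theorem redL : RedLStmt.{u} := by
  intro Γ _ G _ _ φ hb hi hs z b Λ Z rd g hg c T c' T' p p'
  have h1 := half hi hs p'
  rw [inv_inv] at h1
  refine ⟨h1, fun l hl => mem_conj.2 ?_⟩
  have sy := p.syl.conj_smul g⁻¹
  rw [JJ, inf_eq_left.2 h1, conj_inv_smul_conj_smul] at sy
  have cen : ∀ x ∈ T, ∀ l ∈ Λ, g⁻¹ * x * g * (g⁻¹ * φ (c * l * c⁻¹) * g) =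
      g⁻¹ * φ (c * l * c⁻¹) * g * (g⁻¹ * x * g) := fun x hx l hl => by
    have := p.cen x hx l hl
    generalize φ (c * l * c⁻¹) = a at this
    calc _ = g⁻¹ * (x * a) * g := by group
      _ = _ := by rw [this]; group
  let ψ : Γ →* G := (MulAut.conj g⁻¹).toMonoidHom.comp (φ.comp (MulAut.conj c).toMonoidHom)
  have e : ∀ l, ψ l = g⁻¹ * φ (c * l * c⁻¹) * g := fun l => by simp [ψ]
  rw [← e]
  refine core hb hi ψ rd.rc.perf rd.rc.gen (fun l hl => ?_) sy (by rw [card_conj, p.card])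
    (fun x hx l hl => ?_) l hl
  · rw [e]
    exact tight hs (mem_conj.1 (p.syl.le p.mem).1) (conj_ne hi p.b1 c g) (conj_sq p.bb c g)
      (cen _ p.mem l hl).symm
  · have := cen _ (mem_conj.1 hx) l hl
    rw [e]
    simpa [mul_assoc] using this

theorem redA (h1 : Red1Stmt.{u}) (hS : RedSStmt.{u}) : RedAStmt.{u} := by
  rintro Γ _ G _ _ φ hb ⟨z, b, Λ, Z, rd, alt⟩ hi hs g hg h4
  obtain ⟨c, T, p⟩ := h1 Γ G φ hb hi hs z b Λ Z rd g hg h4
  have hg' : g⁻¹ ∉ N[φ.range] := fun k => hg (inv_mem_iff.1 k)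
  obtain ⟨c', T', p'⟩ := h1 Γ G φ hb hi hs z b Λ Z rd g⁻¹ hg' (by
    rw [JJ, inf_eq_left.2 (half hi hs p), card_conj, ← card_conj _ g]
    exact h4.trans (card_dvd_of_le inf_le_left))
  rcases alt with hbL | ⟨ρ, tc⟩
  · obtain ⟨a, ha⟩ := mem_conj.1 ((redL Γ G φ hb hi hs z b Λ Z rd g hg c T c' T' p p').2 b hbL)
    have := mem_conj.1 (p.syl.le p.mem).1
    rw [← ha] at this
    exact conj_ne hi p.b1 c g (by rw [← ha, one_of_C hb hi this, map_one])
  · exact hS Γ G φ hb hi hs z b Λ Z ρ rd tc g hg c T c' T' p p'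

end Cfsg.Agent.H28.S95A
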