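import Mathlib
import Cfsg.Agent.H1.SpD

/-! Fusion systems over the Sylow subgroup of `Sp₄(q)`: the cubic module has no minimal
configuration. -/

set_option autoImplicit false

namespace Cfsg.Agent.H28.Cb2

open Subgroup Cfsg.Agent.H1.SP

universe u

variable {K : Type u} [Field K]

/-- the element `x(t)` -/
abbrev xx (t : K) : Au K := xa (.ofAdd t)

/-- the normalizer of the group of the `x(t)` -/
abbrev NX (K : Type u) [Field K] : Subgroup (Au K) := normalizer (XA K : Set (Au K))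

theorem x_add (s t : K) : xx (s + t) = xx s * xx t :=
  (xa (K := K)).map_mul (.ofAdd s) (.ofAdd t)

theorem x_neg (t : K) : xx (-t) = (xx t)⁻¹ := (xa (K := K)).map_inv (.ofAdd t)

theorem x_mem (t : K) : xx t ∈ XA K := ⟨_, rfl⟩

theorem x_N (t : K) : xx t ∈ NX K := le_normalizer (x_mem t)

theorem dx (c : Kˣ) (t : K) : da c * xx t = xx (t / c) * da c := LinearEquiv.ext fun a => by
  simp only [LinearEquiv.mul_apply, xa_apply, da_apply, Prod.mk.injEq]
  refine ⟨trivial, ?_, ?_⟩ <;> field_simp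

theorem ex (t : K) : da (-1) * xx t = xx (-t) * da (-1) := by
  rw [dx, Units.val_neg, Units.val_one, div_neg, div_one]

theorem d_N (c : Kˣ) : da c ∈ NX K := by
  have k : ∀ c : Kˣ, ∀ y ∈ XA K, da c * y * (da c)⁻¹ ∈ XA K := by
    rintro c _ ⟨t, rfl⟩
    exact ⟨.ofAdd (t.toAdd / c), (mul_inv_eq_of_eq_mul (dx c t.toAdd)).symm⟩
  refine mem_normalizer_iff.2 fun y => ⟨k c y, fun h => ?_⟩
  have := k c⁻¹ _ h
  rwa [map_inv, show (da c)⁻¹ * (da c * y * (da c)⁻¹) * (da c)⁻¹⁻¹ = y by group] at this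

theorem minus (h2 : (2 : K) ≠ 0) {h : Au K} (hc : Commute (da (-1)) h) :
    ∃ v, v ≠ 0 ∧ h (0, 1, 0) = (0, v, 0) := by
  have e1 : da (-1) (h (0, 1, 0)) = -h (0, 1, 0) := by
    rw [← LinearEquiv.mul_apply, hc.eq, LinearEquiv.mul_apply, ← map_neg, da_apply]
    simp
  rcases e : h (0, 1, 0) with ⟨u, v, w⟩
  rw [e, da_apply] at e1
  simp only [Units.val_neg, Units.val_one, Prod.neg_mk, Prod.mk.injEq] at e1
  have hu : u = 0 := (mul_eq_zero.1 (by linear_combination e1.1 : 2 * u = 0)).resolve_left h2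
  have hw : w = 0 := (mul_eq_zero.1 (by linear_combination e1.2.2 : 2 * w = 0)).resolve_left h2
  subst hu hw
  refine ⟨v, fun hv => ?_, rfl⟩
  rw [hv] at e
  simpa using (map_eq_zero_iff h h.injective).1 e

/-- The solutions of `k σ(u) = u` are no more than the fixed points of `σ`. -/
theorem card_tw [Finite K] (σ : RingAut K) (k : K) :
    Nat.card {u // k * σ u = u} ≤ Nat.card {u // σ u = u} := by
  by_cases h : ∃ u, u ≠ 0 ∧ k * σ u = u
  · obtain ⟨u, u0, hu⟩ := h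
    have k0 : k ≠ 0 := fun e => u0 (by rw [← hu, e, zero_mul])
    refine Nat.card_le_card_of_injective (fun y => ⟨y.1 / u, ?_⟩) fun y y' e =>
      Subtype.ext ((div_left_inj' u0).1 (congrArg Subtype.val e))
    rw [map_div₀, ← mul_div_mul_left _ _ k0, y.2, hu]
  · refine Nat.card_le_card_of_injective (fun _ => ⟨0, map_zero σ⟩) fun y y' _ => Subtype.ext ?_
    rw [by_contra fun e => h ⟨y.1, e, y.2⟩, by_contra fun e => h ⟨y'.1, e, y'.2⟩]

theorem card_fix [Finite K] (σ : RingAut K) :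
    Nat.card K = Nat.card {u // σ u = u} ^ orderOf σ := by
  have : Finite (RingAut K) := Finite.of_injective _ (DFunLike.coe_injective (F := RingAut K))
  have := Fintype.ofFinite (zpowers σ)
  rw [Module.natCard_eq_pow_finrank (K := FixedPoints.subfield (zpowers σ) K),
    FixedPoints.finrank_eq_card, ← Nat.card_eq_fintype_card, Nat.card_zpowers]
  congr 1
  refine Nat.card_congr (Equiv.subtypeEquivRight fun u => ⟨fun h => h ⟨σ, mem_zpowers σ⟩, ?_⟩)
  rintro h ⟨g, hg⟩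
  exact (zpowers_le (H := MulAction.stabilizer (RingAut K) u)).2 h hg

variable {p : ℕ} {Γ : Subgroup (Au K)} {W : AddSubgroup K}

theorem key (h2 : (2 : K) ≠ 0) (B : Cb p Γ W) (F : CbF Γ W) {g0 : Au K} (g1 : g0 ∈ Γ)
    (g2 : g0 ∉ NX K) (g3 : Commute (da (-1)) g0) : ∃ E : K → Au K, ∀ h ∈ Γ, Commute (da (-1)) h →
      ∃ ω ∈ W, ω ≠ 0 ∧ ∃ t, t ≠ 0 ∧ h * xx t * h⁻¹ = E ω := by
  obtain ⟨⟨w0, w1⟩, w2⟩ := AddSubgroup.ne_bot_iff_exists_ne_zero.1 B.ne
  replace w2 : w0 ≠ 0 := fun e => w2 (Subtype.ext e)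
  have xΓ : ∀ t, xx t ∈ Γ := fun t => B.syl.le (x_mem t)
  obtain ⟨v0, v1, v2⟩ := minus h2 g3.inv_right
  obtain ⟨g, hg⟩ : ∃ g, g = xx (w0 / 2) * g0 := ⟨_, rfl⟩
  have gΓ : g ∈ Γ := hg ▸ mul_mem (xΓ _) g1
  have xe : ∀ t : K, xx (-t) * da (-1) * xx t = xx (-t + -t) * da (-1) := fun t => by
    rw [mul_assoc, ex, x_add, mul_assoc]
  have na : g⁻¹ * da (-1) * g ∉ NX K := fun h => by
    refine g2 (F.f9 g0 g1 (-w0) (neg_ne_zero.2 w2) ((mul_mem_cancel_right (d_N (-1))).1 ?_))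
    have e : -w0 = -(w0 / 2) + -(w0 / 2) := by field_simp; ring
    rw [e, mul_assoc, ← g3.eq, ← mul_assoc, mul_assoc g0⁻¹, ← xe, x_neg]
    simpa only [hg, mul_inv_rev, mul_assoc] using h
  have ga : g⁻¹ (0, 1, 0) = (0, v0, -w0) := by
    have e : (xx (w0 / 2))⁻¹ (0, 1, 0) = (0, 1, 0) + (0, 0, -w0) := by
      rw [← x_neg, xa_apply]
      simp only [mul_zero, add_zero, Prod.mk_add_mk, zero_add, mul_one, Prod.mk.injEq, true_and]
      field_simp
    rw [hg, mul_inv_rev, LinearEquiv.mul_apply, e, map_add, v2,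
      B.fix _ (inv_mem g1) _ (neg_mem w1)]
    simp
  refine ⟨fun ω => g * xx (-(ω + 2 * w0) / (2 * v0)) * da (-1) * g⁻¹ * (da (-1))⁻¹,
    fun h hΓ hc => ?_⟩
  have c1 : g⁻¹ * da (-1) * g = (h⁻¹ * g)⁻¹ * da (-1) * (h⁻¹ * g) := by
    rw [mul_inv_rev, inv_inv, mul_assoc g⁻¹ h, ← hc.eq]; group
  have n1 : h⁻¹ * g ∉ NX K := fun e => na (c1 ▸ mul_mem (mul_mem (inv_mem e) (d_N _)) e)
  have m1 := mul_mem (inv_mem hΓ) gΓ
  obtain ⟨t, ht⟩ := F.f7 _ m1 n1
  obtain ⟨s, hs⟩ := F.f6 _ (mul_mem (xΓ t) m1) (fun e => n1 ((mul_mem_cancel_left (x_N t)).1 e)) ht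
  have t0 : t ≠ 0 := by
    rintro rfl
    refine na (c1 ▸ ?_)
    simpa only [Nx, ofAdd_zero, map_one, one_mul] using ht
  have e1 : g⁻¹ * (h * xx (-t + -t) * h⁻¹ * da (-1)) * g = xx (s + s) * da (-1) := by
    have := xe (-s)
    rw [neg_neg, x_neg] at this
    rw [← this, mul_assoc _ h⁻¹, ← hc.inv_right.eq, ← mul_assoc _ (da (-1)), mul_assoc h, ← xe,
      x_neg]
    calc _ = xx s * ((xx t * (h⁻¹ * g) * xx s)⁻¹ * (da (-1) * (xx t * (h⁻¹ * g) * xx s))) *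
        (xx s)⁻¹ := by group
      _ = _ := by rw [hs.eq]; group
  obtain ⟨v, v3, v4⟩ := minus h2 hc.inv_right
  have e2 : (g⁻¹ * h) (0, 0, 4 * t * v) = (0, 0, -(2 * (s + s) * v0) - 2 * w0) := by
    have a1 : ((0, 0, 4 * t * v) : K × K × K) = -xx (-t + -t) (0, v, 0) + (0, v, 0) := by
      simp only [xa_apply, Prod.neg_mk, Prod.mk_add_mk, Prod.mk.injEq]
      refine ⟨?_, ?_, ?_⟩ <;> ring
    have a2 : da (-1) ((0, 1, 0) : K × K × K) = -(0, 1, 0) := by simp [da_apply]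
    have a3 := congrArg (fun y : Au K => y (g⁻¹ (0, 1, 0))) e1
    simp only [LinearEquiv.mul_apply, LinearEquiv.coe_inv, LinearEquiv.apply_symm_apply, a2,
      map_neg] at a3
    simp only [LinearEquiv.coe_inv] at ga v4
    rw [a1, LinearEquiv.mul_apply, map_add, map_add, map_neg, map_neg, ← v4,
      LinearEquiv.coe_inv, a3, LinearEquiv.apply_symm_apply, ga]
    simp only [xa_apply, da_apply, Prod.mk_add_mk, Prod.mk.injEq, Units.val_neg, Units.val_one]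
    refine ⟨?_, ?_, ?_⟩ <;> ring
  have m2 : g⁻¹ * h ∈ Γ := mul_mem (inv_mem gΓ) hΓ
  have e3 := B.unif _ m2 (fun e => n1 (by simpa using inv_mem e)) _ _ e2
  rw [B.fix _ m2 _ e3] at e2
  have h4 : (4 : K) ≠ 0 := by
    rw [show (4 : K) = 2 * 2 by norm_num]; exact mul_ne_zero h2 h2
  refine ⟨_, e3, mul_ne_zero (mul_ne_zero h4 t0) v3, -t + -t, fun e => mul_ne_zero h2 t0
    (by linear_combination -e), ?_⟩
  have e4 : -(4 * t * v + 2 * w0) / (2 * v0) = s + s := by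
    rw [(Prod.mk.inj (Prod.mk.inj e2).2).2]
    field_simp
    ring
  simp only [e4]
  rw [mul_assoc g, ← e1]
  group

theorem tor4 [Finite K] (B : Cb p Γ W) (F : CbF Γ W) {g0 : Au K} (g1 : g0 ∈ Γ) (g2 : g0 ∉ NX K)
    {c : Kˣ} (hc : g0⁻¹ * da c * g0 ∈ NX K) (c2 : c ^ 2 ≠ 1) :
    Nat.card K = Nat.card W ^ 2 ∧ c ^ 4 = 1 := by
  obtain ⟨⟨w0, w1⟩, w2⟩ := AddSubgroup.ne_bot_iff_exists_ne_zero.1 B.ne
  replace w2 : w0 ≠ 0 := fun e => w2 (Subtype.ext e)
  obtain ⟨σ, a, b, -, hz, -, hu⟩ := F.f4 _ hc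
  have fx : ∀ (c : Kˣ) w, (g0⁻¹ * da c * g0) (0, 0, w) = (0, 0, w) → w ∉ W → c ^ 2 = 1 := by
    intro c w h hw
    have := congrArg (fun y => (g0 y).1) h
    simp only [LinearEquiv.mul_apply, LinearEquiv.coe_inv, LinearEquiv.apply_symm_apply,
      da_apply] at this
    exact Units.ext ((mul_eq_right₀ fun e => hw (F.f3 g0 g1 g2 w e)).1 this)
  have hW : ∀ w, w ∈ W ↔ a * b * σ w = w := fun w => ⟨fun h => by
    have := B.fix _ (mul_mem (mul_mem (inv_mem g1) (B.tor c)) g1) w h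
    rw [hz] at this
    exact (Prod.mk.inj (Prod.mk.inj this).2).2,
    fun h => by_contra fun hw => c2 (fx c w (by rw [hz, h]) hw)⟩
  have ab := (hW w0).1 w1
  have s0 : σ w0 ≠ 0 := (map_ne_zero σ).2 w2
  have cW : Nat.card W = Nat.card {u // σ u = u} := by
    refine Nat.card_congr ((Equiv.mulRight₀ w0 w2).symm.subtypeEquiv fun w => ?_)
    rw [hW, eq_div_of_mul_eq s0 ab]
    simp only [Equiv.mulRight₀_symm_apply, map_mul, map_inv₀]
    constructor <;> intro h <;> field_simp at h ⊢ <;> linear_combination h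
  let φ : K →+ K := (AddMonoidHom.fst K (K × K)).comp ((g0⁻¹ : Au K).toAddEquiv.toAddMonoidHom.comp
    ((AddMonoidHom.inr K (K × K)).comp (AddMonoidHom.inr K K)))
  have hφ : ∀ w, φ w = (g0⁻¹ (0, 0, w)).1 := fun _ => rfl
  have k1 : φ.ker = W := AddSubgroup.ext fun w => ⟨F.f3 _ (inv_mem g1) (mt inv_mem_iff.1 g2) w,
    fun h => by rw [AddMonoidHom.mem_ker, hφ, B.fix _ (inv_mem g1) w h]⟩
  have k2 : Nat.card φ.range ≤ Nat.card W := by
    refine le_trans (Nat.card_le_card_of_injective (β := {u // b / a * σ u = u})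
      (fun y => ⟨y.1, ?_⟩) fun y y' e => Subtype.ext (congrArg (·.1) e)) (cW ▸ card_tw σ _)
    obtain ⟨_, w, rfl⟩ := y
    show _ * σ (φ w) = φ w
    rw [hφ, ← hu]
    simp [da_apply]
  have k3 : Nat.card K ≤ Nat.card W ^ 2 := by
    rw [← φ.ker.index_mul_card, AddSubgroup.index_ker, k1, sq]
    exact Nat.mul_le_mul_right _ k2
  have r2 : 1 < Nat.card W := (AddSubgroup.one_lt_card_iff_ne_bot W).2 B.ne
  have k4 := card_fix σ
  rw [← cW] at k4
  obtain ⟨w, hw⟩ : ∃ w, w ∉ W := not_forall.1 (mt (AddSubgroup.eq_top_iff' W).2 F.top)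
  have o2 : orderOf σ = 2 := by
    have o1 := (Nat.pow_le_pow_iff_right r2).1 (k4 ▸ k3)
    have := (Finite.one_lt_card (α := K)).ne'
    rcases (by omega : orderOf σ = 0 ∨ orderOf σ = 1 ∨ orderOf σ = 2) with e | e | e
    · rw [e, pow_zero] at k4; exact absurd k4 this
    · rw [orderOf_eq_one_iff.1 e] at ab hW
      exact absurd ((hW w).2 (by
        rw [RingAut.one_apply] at ab ⊢
        rw [(mul_eq_right₀ w2).1 ab, one_mul])) hw
    · exact e
  have ss : ∀ y, σ (σ y) = y := fun y => by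
    rw [← RingAut.mul_apply, ← sq, ← o2, pow_orderOf_eq_one, RingAut.one_apply]
  refine ⟨o2 ▸ k4, ?_⟩
  rw [show 4 = 2 * 2 from rfl, pow_mul, sq c]
  refine fx _ w ?_ hw
  rw [map_mul, show g0⁻¹ * (da c * da c) * g0 = g0⁻¹ * da c * g0 * (g0⁻¹ * da c * g0) by group,
    LinearEquiv.mul_apply, hz, hz, eq_div_of_mul_eq s0 ab, map_mul, map_div₀, ss, ss]
  congr 2
  field_simp

theorem cb2 : Cb2Stmt.{u} := by
  intro K _ _ p _ _ hp Γ W B F
  have h2 : (2 : K) ≠ 0 := fun e => hp ((Nat.prime_dvd_prime_iff_eq Fact.out Nat.prime_two).1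
    ((CharP.cast_eq_zero_iff K p 2).1 (by exact_mod_cast e)))
  have xΓ : ∀ t, xx t ∈ Γ := fun t => B.syl.le (x_mem t)
  obtain ⟨g0, g1, g2, g3⟩ : ∃ g0 ∈ Γ, g0 ∉ NX K ∧ Commute (da (-1)) g0 := by
    obtain ⟨g, hg, hn⟩ := SetLike.not_le_iff_exists.1 B.nn
    obtain ⟨t, ht⟩ := F.f7 g hg hn
    have n1 : xx t * g ∉ NX K := fun e => hn ((mul_mem_cancel_left (x_N t)).1 e)
    obtain ⟨s, hs⟩ := F.f6 _ (mul_mem (xΓ t) hg) n1 ht
    exact ⟨_, mul_mem (mul_mem (xΓ t) hg) (xΓ s), fun e => n1 ((mul_mem_cancel_right (x_N s)).1 e),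
      hs⟩
  obtain ⟨E, hE⟩ := key h2 B F g1 g2 g3
  choose! ω w1 w2 t t0 hω using hE
  have inj : ∀ h ∈ Γ, Commute (da (-1)) h → ∀ h' ∈ Γ, Commute (da (-1)) h' → ω h = ω h' →
      h⁻¹ * h' ∈ NX K := fun h a1 a2 h' b1 b2 e =>
    F.f9 _ (mul_mem (inv_mem a1) b1) _ (t0 h a1 a2) (by
      have := x_N (t h')
      rwa [show xx (t h') = h'⁻¹ * (h' * xx (t h') * h'⁻¹) * h' by group, hω h' b1 b2, ← e,
        ← hω h a1 a2, show h'⁻¹ * (h * xx (t h) * h⁻¹) * h' =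
          (h⁻¹ * h')⁻¹ * xx (t h) * (h⁻¹ * h') by group] at this)
  have m1 : ∀ c, da c * g0 ∈ Γ := fun c => mul_mem (B.tor c) g1
  have m2 : ∀ c, Commute (da (-1)) (da c * g0) := fun c =>
    ((Commute.all _ c).map da).mul_right g3
  let D : Subgroup Kˣ := (NX K).comap ((MulAut.conj g0⁻¹).toMonoidHom.comp da)
  have hD : ∀ c, c ∈ D ↔ g0⁻¹ * da c * g0 ∈ NX K := fun c => by simp [D]
  have i1 : D.index + 2 ≤ Nat.card W := by
    have := Nat.card_le_card_of_injective (α := Option (Option (Kˣ ⧸ D))) (β := W)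
      (fun y => y.elim 0 fun y => y.elim ⟨ω 1, w1 1 (one_mem _) (Commute.one_right _)⟩ fun c =>
        ⟨ω (da c.out * g0), w1 _ (m1 _) (m2 _)⟩) (by
      have a1 := w2 1 (one_mem _) (Commute.one_right _)
      have a2 := fun c => w2 _ (m1 c) (m2 c)
      have a3 : ∀ c, ω 1 ≠ ω (da c * g0) := fun c e => g2 ((mul_mem_cancel_left (d_N c)).1 (by
        simpa using inj _ (one_mem _) (Commute.one_right _) _ (m1 c) (m2 c) e))
      rintro (_ | _ | c) (_ | _ | c') e <;> replace e := congrArg Subtype.val e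
      exacts [rfl, absurd e.symm a1, absurd e.symm (a2 _), absurd e a1, rfl, absurd e (a3 _),
        absurd e (a2 _), absurd e.symm (a3 _), by
          rw [← QuotientGroup.out_eq' c, ← QuotientGroup.out_eq' c', QuotientGroup.eq.2 ((hD _).2 (by
            simpa only [mul_inv_rev, map_mul, map_inv, mul_assoc] using
              inj _ (m1 _) (m2 _) _ (m1 _) (m2 _) e))]])
    rwa [Finite.card_option, Finite.card_option] at this
  have i2 := D.index_mul_card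
  rw [Nat.card_units] at i2
  have i3 : ∀ n : ℕ, n ≠ 0 → (∀ c ∈ D, c ^ n = 1) → Nat.card D ≤ n := fun n hn h => by
    have := NeZero.mk hn
    exact (card_le_of_le (show D ≤ rootsOfUnity n K from h)).trans (card_rootsOfUnity K n)
  by_cases h : ∀ c ∈ D, c ^ 2 = 1
  · have i4 := Nat.mul_le_mul_left D.index (i3 2 two_ne_zero h)
    have i5 := W.index_mul_card
    have i6 := Nat.mul_le_mul_right (Nat.card W) (AddSubgroup.one_lt_index_of_ne_top F.top)
    omega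
  · obtain ⟨c, hc, c2⟩ : ∃ c ∈ D, c ^ 2 ≠ 1 := by simpa using h
    have i4 := Nat.mul_le_mul_left D.index (i3 4 four_ne_zero fun c hc => by
      by_cases c2 : c ^ 2 = 1
      · rw [show 4 = 2 * 2 from rfl, pow_mul, c2, one_pow]
      · exact (tor4 B F g1 g2 ((hD c).1 hc) c2).2)
    have i5 := (tor4 B F g1 g2 ((hD c).1 hc) c2).1
    have i6 : Nat.card W ^ 2 + 7 ≤ 4 * Nat.card W := by omega
    nlinarith [sq_nonneg ((Nat.card W : ℤ) - 2)]

theorem eqns : True := by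
  have := @xx.eq_1.{0}
  have := @NX.eq_1.{0}
  trivial

end Cfsg.Agent.H28.Cb2
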