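import Mathlib
import Cfsg.Agent.H78.G40A
import Cfsg.Agent.H28.Ce2bCert

/-! Project L40G, piece CE2B: the coset enumeration of index `2240`. -/

set_option autoImplicit false

namespace Cfsg.Agent.H28.Ce2b

open Cfsg.Agent.H78.G40 Cfsg.Agent.H46.L40 Cfsg.Agent.H44 Matrix

universe u

/-- the letters with values in `S3` -/
def gS : ℕ → S3
  | 1 => x12
  | 2 => ⟨!![1, 2, 0; 0, 1, 0; 0, 0, 1], by decide⟩
  | 3 => x21
  | 4 => ⟨!![1, 0, 0; 2, 1, 0; 0, 0, 1], by decide⟩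
  | 5 => x23
  | 6 => ⟨!![1, 0, 0; 0, 1, 2; 0, 0, 1], by decide⟩
  | 7 => x32
  | 8 => ⟨!![1, 0, 0; 0, 1, 0; 0, 2, 1], by decide⟩
  | 9 => ⟨!![1, 0, 1; 0, 1, 0; 0, 0, 1], by decide⟩
  | 10 => ⟨!![1, 0, 2; 0, 1, 0; 0, 0, 1], by decide⟩
  | 11 => ⟨!![1, 0, 0; 0, 1, 0; 1, 0, 1], by decide⟩
  | 12 => ⟨!![1, 0, 0; 0, 1, 0; 2, 0, 1], by decide⟩
  | 13 => z0
  | 14 => a0
  | 15 => w0
  | 16 => ⟨!![0, 2, 0; 1, 0, 0; 0, 0, 1], by decide⟩
  | 17 => n23
  | 18 => ⟨!![1, 0, 0; 0, 0, 2; 0, 1, 0], by decide⟩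
  | _ => 1

/-- the relators involving the other letters -/
def R2 : List (List ℕ) := [[19, 20], [21, 21], [22, 23], [24, 25], [21, 1, 21, 2], [21, 3, 21, 4],
  [21, 5, 21, 6], [21, 7, 21, 8], [19, 19, 13], [19, 21, 20, 13, 21], [19, 14, 20, 13, 14],
  [19, 1, 20, 1], [19, 3, 20, 3], [19, 17, 19, 18, 20, 18], [17, 19, 5, 20, 18, 23],
  [17, 19, 7, 20, 18, 25], [15, 22, 16, 22], [15, 24, 16, 24]]

/-- the values of all letters -/
noncomputable def gH {H : Type u} [Group H] (φ : S3 →* H) (s t : H) : ℕ → H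
  | 19 => s
  | 20 => s⁻¹
  | 21 => t
  | 22 => uu φ s
  | 23 => (uu φ s)⁻¹
  | 24 => uv φ s
  | 25 => (uv φ s)⁻¹
  | x => φ (gS x)

theorem eqns : True := by
  have := @R2.eq_1
  trivial

theorem relS : ∀ r ∈ Ce2bCert.R, (r.all (· < 19) = true ∧ ev gS r = 1) ∨ r ∈ R2 := by
  decide +kernel

theorem tvS : ∀ (i j : Fin 3) (a : ZMod 3), i ≠ j →
    ∃ k ∈ List.range 13, transvection i j a = (gS k).1 := by
  decide +kernel

theorem dgS : ∀ (i j : Fin 3) (c : ZMod 3), i ≠ j → c ≠ 0 → c * c = 1 ∧ ∃ k ∈ [0, 13, 14],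
    ∃ k' ∈ [0, 13, 14], diagonal (fun x => if x = i then c else if x = j then c else 1) =
      (gS k * gS k').1 := by
  decide +kernel

/-- a subgroup containing the letters is everything -/
theorem gen_S3 {K : Subgroup S3} (h : ∀ k < 15, gS k ∈ K) (m : S3) : m ∈ K := by
  refine SpecialLinearGroup.diagonal_transvection_induction' (· ∈ K) m (fun i j hij c hc => ?_)
    (fun i j hij a => ?_) fun _ _ => K.mul_mem
  · obtain ⟨h1, k, hk, k', hk', e⟩ := dgS i j c hij hc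
    have e' : SpecialLinearGroup.diag2n hij c hc = gS k * gS k' := Subtype.ext (by
      rw [SpecialLinearGroup.diag2n_coe, inv_eq_of_mul_eq_one_right h1]; exact e)
    simp only [List.mem_cons, List.not_mem_nil, or_false] at hk hk'
    exact e' ▸ K.mul_mem (h k (by omega)) (h k' (by omega))
  · obtain ⟨k, hk, e⟩ := tvS i j a hij
    have e' : SpecialLinearGroup.transvection hij a = gS k := Subtype.ext e
    exact e' ▸ h k (by have := List.mem_range.1 hk; omega)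

section
variable {H : Type u} [Group H] (φ : S3 →* H) (s t : H)

theorem gH_lt {x : ℕ} (h : x < 19) : gH φ s t x = φ (gS x) := by
  interval_cases x <;> rfl

variable {φ s t}

theorem sat (h : Rl φ s t a0) (h2 : Good2 φ s) : Sat (gH φ s t) Ce2bCert.R := by
  intro r hr
  rcases relS r hr with ⟨h1, e⟩ | hr
  · rw [ev_congr (g' := fun x => φ (gS x)) fun x hx => gH_lt φ s t
      (by simpa using List.all_eq_true.1 h1 x hx), ← map_ev, e, map_one]
  have ht : ∀ m m' : S3, m * m' = 1 → t * (φ m * (t * (φ m' * 1))) = 1 := fun m m' e => by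
    rw [mul_one, h.tL m', ← mul_assoc (φ m), ← map_mul, e, map_one, one_mul, h.tt]
  have hs : ∀ {m m' : S3} (m'' : S3), s * φ m * s⁻¹ = φ m' → m' * m'' = 1 →
      s * (φ m * (s⁻¹ * φ m'')) = 1 := fun m'' e e' => by
    rw [← mul_assoc, ← mul_assoc, e, ← map_mul, e', map_one]
  have i16 : φ (gS 16) = (φ w0)⁻¹ := by
    rw [← map_inv]; exact congrArg φ (eq_inv_of_mul_eq_one_left (by decide +kernel))
  have i18 : φ (gS 18) = (φ n23)⁻¹ := by
    rw [← map_inv]; exact congrArg φ (eq_inv_of_mul_eq_one_left (by decide +kernel))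
  have zz : φ z0 * φ z0 = 1 := by rw [← map_mul, show z0 * z0 = 1 by decide +kernel, map_one]
  simp only [R2, List.mem_cons, List.not_mem_nil, or_false] at hr
  rcases hr with rfl | rfl | rfl | rfl | rfl | rfl | rfl | rfl | rfl | rfl | rfl | rfl | rfl | rfl |
    rfl | rfl | rfl | rfl
  · change s * (s⁻¹ * 1) = 1
    simp
  · change t * (t * 1) = 1
    rw [mul_one, h.tt]
  · change uu φ s * ((uu φ s)⁻¹ * 1) = 1
    simp
  · change uv φ s * ((uv φ s)⁻¹ * 1) = 1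
    simp
  · exact ht (gS 1) (gS 2) (by decide +kernel)
  · exact ht (gS 3) (gS 4) (by decide +kernel)
  · exact ht (gS 5) (gS 6) (by decide +kernel)
  · exact ht (gS 7) (gS 8) (by decide +kernel)
  · change s * (s * (φ z0 * 1)) = 1
    rw [mul_one, ← mul_assoc, h.ss, zz]
  · change s * (t * (s⁻¹ * (φ z0 * (t * 1)))) = 1
    rw [mul_one, ← mul_assoc, ← mul_assoc, h.st, mul_assoc, ← mul_assoc (φ z0), zz, one_mul, h.tt]
  · change s * (φ a0 * (s⁻¹ * (φ z0 * (φ a0 * 1)))) = 1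
    rw [mul_one, ← map_mul]
    exact hs _ h.sa (by decide +kernel)
  · change s * (φ x12 * (s⁻¹ * (φ x12 * 1))) = 1
    rw [mul_one]
    exact hs _ h.s12 (by decide +kernel)
  · change s * (φ x21 * (s⁻¹ * (φ x21 * 1))) = 1
    rw [mul_one]
    exact hs _ h.s21 (by decide +kernel)
  · change s * (φ n23 * (s * (φ (gS 18) * (s⁻¹ * (φ (gS 18) * 1))))) = 1
    rw [i18, ← mul_assoc, ← mul_assoc, h.br]
    group
  · change φ n23 * (s * (φ x23 * (s⁻¹ * (φ (gS 18) *
      ((φ n23 * s * φ x23 * (φ n23 * s)⁻¹)⁻¹ * 1))))) = 1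
    rw [i18]
    group
  · change φ n23 * (s * (φ x32 * (s⁻¹ * (φ (gS 18) *
      ((φ n23 * s * φ x32 * (φ n23 * s)⁻¹)⁻¹ * 1))))) = 1
    rw [i18]
    group
  · change φ w0 * (uu φ s * (φ (gS 16) * (uu φ s * 1))) = 1
    rw [i16, ← mul_assoc, ← mul_assoc, h2.1]
    simp
  · change φ w0 * (uv φ s * (φ (gS 16) * (uv φ s * 1))) = 1
    rw [i16, ← mul_assoc, ← mul_assoc, h2.2]
    simp

end

theorem ce2b : Ce2bS.{u} := by
  intro H _ _ φ s t h h2
  have hφ : ∀ m, φ m ∈ gen (gH φ s t) 25 := fun m =>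
    gen_S3 (K := (gen (gH φ s t) 25).comap φ) (fun k hk => by
      rcases Nat.eq_zero_or_pos k with rfl | h0
      · exact one_mem _
      · rw [Subgroup.mem_comap, ← gH_lt φ s t (by omega)]
        exact mem_gen _ h0 (by omega)) m
  have le : ∀ i, 0 < i → i ≤ 25 → Gn φ {gH φ s t i, t} ≤ gen (gH φ s t) 25 := fun i h0 hi => by
    rw [Subgroup.closure_le]
    rintro x (⟨m, rfl⟩ | rfl | rfl)
    · exact hφ m
    · exact mem_gen _ h0 hi
    · exact mem_gen (gH φ s x) (x := 21) (by omega) (by omega)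
  have hi := Ce2bCert.idxLe (sat h h2) (H := Gn φ {uu φ s, t}) (by
    intro w hw
    change w ∈ [[1], [3], [5], [7], [21], [22]] at hw
    simp only [List.mem_cons, List.not_mem_nil, or_false] at hw
    rcases hw with rfl | rfl | rfl | rfl | rfl | rfl <;> rw [ev_single] <;>
      apply Subgroup.subset_closure
    exacts [.inl ⟨_, rfl⟩, .inl ⟨_, rfl⟩, .inl ⟨_, rfl⟩, .inl ⟨_, rfl⟩, .inr (.inr rfl),
      .inr (.inl rfl)])
  exact (Subgroup.card_le_of_le (le 19 (by omega) (by omega))).trans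
    (hi.card_le (le 22 (by omega) (by omega)) ⟨inferInstance, le_rfl⟩).2

end Cfsg.Agent.H28.Ce2b
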