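import Mathlib
import Cfsg.Agent.H74.CksDefs

/-! Project CKS, piece R3A: chamber-transitive maximal subgroups in the simply laced types. -/

set_option autoImplicit false
set_option linter.unusedSectionVars false

namespace Cfsg.Agent.H28.CksR3

open Cfsg Cfsg.Agent.H74.Cks Cfsg.Agent.H35 Cfsg.Agent.Lead.T3 Subgroup

/-- The earlier pieces. -/
structure Hyp : Prop where
  bas1 : Bas1Stmt
  bas2 : Bas2Stmt
  tgen : TgenStmt
  faith : FaithStmt
  lad : LadStmt
  plf : PlfStmt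
  torq : TorqStmt
  minj : MinjStmt
  tf : TfStmt
  two : TwoStmt
  prod : ProdStmt

/-- The propagation property of a minimal uncovered set over the field with two elements. -/
def P2 {n : ℕ} (m : Fin n → Fin n → ℕ) (J : Finset (Fin n)) : Prop :=
  J.Nonempty ∧ (∀ i ∈ J, ∀ j ∈ J, m i j ≠ 3) ∧ ∀ i ∈ J, ∀ k, m i k = 3 → ∃ l ∈ J, l ≠ i ∧ m l k = 3

/-- Two nodes with the same neighbours. -/
def P3 {n : ℕ} (m : Fin n → Fin n → ℕ) (i j : Fin n) : Prop :=
  m i j = 2 ∧ ∀ k, m i k = 3 ↔ m j k = 3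

theorem eqns : True := by
  have := @P2.eq_1
  have := @P3.eq_1
  trivial

instance decP2 {n : ℕ} (m : Fin n → Fin n → ℕ) (J : Finset (Fin n)) : Decidable (P2 m J) :=
  inferInstanceAs (Decidable (_ ∧ _))

instance decP3 {n : ℕ} (m : Fin n → Fin n → ℕ) (i j : Fin n) : Decidable (P3 m i j) :=
  inferInstanceAs (Decidable (_ ∧ _))

theorem e6 : (∀ J, ¬ P2 (tm 6 (parE 6) 0) J) ∧ ∀ i j, ¬ P3 (tm 6 (parE 6) 0) i j := by
  decide +kernel

theorem e7 : (∀ J, P2 (tm 7 (parE 7) 0) J → 5 ∈ J ∧ 3 ∈ J) ∧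
    ∀ i j, ¬ P3 (tm 7 (parE 7) 0) i j := by
  decide +kernel

theorem e8 : (∀ J, ¬ P2 (tm 8 (parE 8) 0) J) ∧ ∀ i j, ¬ P3 (tm 8 (parE 8) 0) i j := by
  decide +kernel

section tm

variable {n : ℕ} {par : ℕ → ℕ} {a b : Fin n}

theorem tm3 : tm n par 0 a b = 3 ↔ a ≠ b ∧ ((b.1 ≠ 0 ∧ par b = a) ∨ (a.1 ≠ 0 ∧ par a = b)) := by
  have := @Fin.ext_iff _ a b
  unfold tm
  split_ifs <;> simp_all

theorem tm_cases (a b : Fin n) : a = b ∨ tm n par 0 a b = 2 ∨ tm n par 0 a b = 3 := by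
  have := @Fin.ext_iff _ a b
  unfold tm
  split_ifs <;> simp_all

theorem tm_self : tm n par 0 a a = 1 := if_pos rfl

theorem tmA3 : tm n parA 0 a b = 3 ↔ a.1 + 1 = b ∨ b.1 + 1 = a := by
  rw [tm3, Ne, Fin.ext_iff, parA, parA]
  omega

theorem par_lt (h : SLType n par) {k : ℕ} (h0 : k ≠ 0) : par k < k := by
  rcases h with ⟨h, rfl⟩ | ⟨h, rfl⟩ | ⟨h, rfl⟩
  · unfold parA; omega
  · unfold parD; split_ifs <;> omega
  · unfold parE; split_ifs <;> omega

theorem three_le (h : SLType n par) : 3 ≤ n := by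
  rcases h with h | h | h <;> omega

theorem exists_nb (h : SLType n par) (a : Fin n) : ∃ b, tm n par 0 a b = 3 := by
  have h3 := three_le h
  by_cases h0 : a.1 = 0
  · have := par_lt h one_ne_zero
    exact ⟨⟨1, by omega⟩, tm3.2 ⟨fun e => by simp [e] at h0, .inl ⟨one_ne_zero, by
      simp only; omega⟩⟩⟩
  · have := par_lt h h0
    exact ⟨⟨par a, by omega⟩, tm3.2 ⟨fun e => this.ne' (congrArg Fin.val e), .inr ⟨h0, rfl⟩⟩⟩

theorem conn (h : SLType n par) {α : Type*} (f : Fin n → α)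
    (hf : ∀ a b, tm n par 0 a b = 3 → f a = f b) (a b : Fin n) : f a = f b := by
  have h3 := three_le h
  have k : ∀ k (hk : k < n), f ⟨k, hk⟩ = f ⟨0, by omega⟩ := fun k => by
    induction k using Nat.strong_induction_on with
    | _ k ih =>
      intro hk
      by_cases h0 : k = 0
      · subst h0; rfl
      have := par_lt h h0
      exact (hf _ ⟨par k, by omega⟩ (tm3.2 ⟨fun e => this.ne' (congrArg Fin.val e),
        .inr ⟨h0, rfl⟩⟩)).trans (ih _ this _)
  exact (k a a.2).trans (k b b.2).symm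

theorem no_tri (h : SLType n par) {c : Fin n} (h1 : tm n par 0 a b = 3) (h2 : tm n par 0 a c = 3)
    (h3 : tm n par 0 b c = 3) : False := by
  rw [tm3, Ne, Fin.ext_iff] at h1 h2 h3
  have := @par_lt _ _ h a
  have := @par_lt _ _ h b
  have := @par_lt _ _ h c
  omega

theorem p2_A {J : Finset (Fin n)} (h : P2 (tm n parA 0) J) :
    (∃ a ∈ J, a.1 = 0) ∧ ∃ a ∈ J, a.1 + 1 = n := by
  obtain ⟨h0, -, h2⟩ := h
  constructor
  · obtain ⟨a, ha, hm⟩ := J.exists_min_image Fin.val h0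
    refine ⟨a, ha, by_contra fun e => ?_⟩
    obtain ⟨l, hl, l1, l2⟩ := h2 a ha ⟨a.1 - 1, by omega⟩ (tmA3.2 (.inr (by simp only; omega)))
    have := hm l hl
    rw [tmA3] at l2
    rw [Ne, Fin.ext_iff] at l1
    simp only at l2
    omega
  · obtain ⟨a, ha, hm⟩ := J.exists_max_image Fin.val h0
    refine ⟨a, ha, by_contra fun e => ?_⟩
    obtain ⟨l, hl, l1, l2⟩ := h2 a ha ⟨a.1 + 1, by omega⟩ (tmA3.2 (.inl rfl))
    have := hm l hl
    rw [tmA3] at l2
    rw [Ne, Fin.ext_iff] at l1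
    simp only at l2
    omega

theorem p3_A (h4 : 4 ≤ n) (h : P3 (tm n parA 0) a b) : False := by
  obtain ⟨h1, h2⟩ := h
  have ne : a.1 ≠ b.1 := fun e => by rw [Fin.ext e, tm_self] at h1; omega
  simp only [tmA3] at h2
  have ha := a.2
  have hb := b.2
  have k : ∀ c, c < n → (a.1 + 1 = c ∨ c + 1 = a.1 ↔ b.1 + 1 = c ∨ c + 1 = b.1) :=
    fun c hc => h2 ⟨c, hc⟩
  have := k (a.1 + 1)
  have := k (a.1 - 1)
  have := k (b.1 + 1)
  have := k (b.1 - 1)
  omega

end tm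

variable (Y : Hyp) {G : Type} [Group G] [Finite G] [IsSimpleGroup G] {p n : ℕ} [Fact p.Prime]
  {S : Sys G p n} {H : Subgroup G}

theorem exists_min {K : Finset (Fin n)} (h : ¬ S.Full H K) :
    ∃ J ⊆ K, ¬ S.Full H J ∧ ∀ K, K ⊂ J → S.Full H K := by
  obtain ⟨J, hJ, hm⟩ := exists_minimal_le_of_wellFoundedLT (fun J => ¬ S.Full H J) K h
  exact ⟨J, hJ, hm.1, fun K' k => by_contra fun e => k.2 (hm.2 e k.1)⟩

include Y

theorem m_symm (i j : Fin n) : S.m i j = S.m j i := by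
  obtain ⟨-, -, -, -, -, -, -, -, -, -, -, -, -, -, -, -, -, -, h, -⟩ := Y.bas1 S
  exact h i j

theorem two_le_q (i : Fin n) : 2 ≤ S.q i := by
  obtain ⟨-, -, -, -, -, -, -, -, -, -, h, -⟩ := Y.bas1 S
  exact (one_lt_card_iff_ne_bot _).2 (h i).2.2.1

theorem q_edge (pl : S.Planes) {i j : Fin n} (h : S.m i j = 3) : S.q i = S.q j := by
  obtain ⟨F, _, _, ⟨D⟩⟩ := pl i j h
  obtain ⟨h1, h2, -⟩ := Y.torq S i j h F D
  exact h1.trans h2.symm

theorem T_le_two (h0 : 0 < n) (h : ∀ i, S.q i = 2) : S.T ≤ H := fun t ht => by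
  rw [Y.faith S h0 t ht fun i y hy => ?_]
  · exact one_mem _
  by_cases y1 : y = 1
  · simp [y1]
  have hy' := (mem_normalizer_iff.1 (S.X_T i ht) y).1 hy
  obtain ⟨x, -, hx⟩ := (Nat.card_eq_two_iff' (1 : S.X i)).1 (h i)
  have e := (hx ⟨_, hy'⟩ fun e => y1 (by simpa using congrArg Subtype.val e)).trans
    (hx ⟨y, hy⟩ fun e => y1 (congrArg Subtype.val e)).symm
  exact mul_inv_eq_iff_eq_mul.1 (congrArg Subtype.val e)

variable (hs : S.Setup H)
include hs

theorem mono {J K : Finset (Fin n)} (h : J ⊆ K) (hK : S.Full H K) : S.Full H J :=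
  (Y.lad S H hs).2.2.2.2.1 J K h hK

theorem edge (pl : S.Planes) {i j : Fin n} (h : S.m i j = 3) :
    S.Full H {i, j} ∨ (S.q i = 2 ∧ H ⊓ S.U ≤ S.Q {i} ∧ H ⊓ S.U ≤ S.Q {j}) := by
  obtain ⟨F, _, _, ⟨D⟩⟩ := pl i j h
  obtain ⟨-, -, -, -, -, -, -, -, anti, -⟩ := Y.bas1 S
  exact (Y.plf S i j h F D H hs).imp_right fun k =>
    ⟨k.1, k.2.trans (anti _ _ (by simp)), k.2.trans (anti _ _ (by simp))⟩

theorem not_full {i : Fin n} (h : H ⊓ S.U ≤ S.Q {i}) : ¬ S.Full H {i} :=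
  (Y.lad S H hs).2.2.2.2.2.1 i h

theorem full_iff (pl : S.Planes) {i j : Fin n} (h : S.m i j = 3) : S.Full H {i} ↔ S.Full H {j} := by
  rcases edge Y hs pl h with k | k
  · exact iff_of_true (mono Y hs (by simp) k) (mono Y hs (by simp) k)
  · exact iff_of_false (not_full Y hs k.2.1) (not_full Y hs k.2.2)

theorem edge_full (pl : S.Planes) {i j : Fin n} (h : S.m i j = 3) (hi : S.Full H {i}) :
    S.Full H {i, j} :=
  (edge Y hs pl h).resolve_right fun k => not_full Y hs k.2.1 hi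

theorem T_le (h0 : 0 < n) (h : ∀ i, S.Full H {i}) : S.T ≤ H :=
  (Y.tgen S h0).trans (iSup_le fun i => le_trans (inf_le_inf_left _ (by simp))
    ((Y.lad S H hs).2.2.2.1 {i} (h i)).2)

theorem index_mul (hT : S.T ≤ H) : H.index * Nat.card ↥(H ⊓ S.U) = Nat.card S.U := by
  rw [((Y.bas2 S H).2.2.2.1 hs).1, inf_eq_right.2 hT, relIndex_self, one_mul]

theorem not_full_univ (h0 : 0 < n) (hH : IsCoatom H) : ¬ S.Full H Finset.univ := fun h =>
  hH.1 ((Y.lad S H hs).2.2.2.2.2.2.1 h h0)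

open scoped Pointwise in
theorem cube_le (pl : S.Planes) {i j : Fin n} (h : S.m i j = 3) (hf : S.Full H {i, j}) :
    S.q i ^ 3 ≤ Nat.card ↥(H ⊓ S.U) := by
  obtain ⟨F, _, _, ⟨D⟩⟩ := pl i j h
  obtain ⟨h1, -, h2, -⟩ := Y.torq S i j h F D
  have h3 := coe_mul_of_left_le_normalizer_right (H ⊓ S.U) (S.Q {i, j}) (inf_le_right.trans
    ((S.sp.U_le _).trans ((BN.B_le_PJ _).trans (S.sp.U_normal _))))
  have h4 : Nat.card S.U ≤ Nat.card ↥(H ⊓ S.U) * Nat.card (S.Q {i, j}) := by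
    have := Set.natCard_mul_le (s := ((H ⊓ S.U : Subgroup G) : Set G)) (t := S.Q {i, j})
    rwa [← h3, hf] at this
  rw [h2, ← h1] at h4
  exact Nat.le_of_mul_le_mul_right h4 Nat.card_pos

/-- The propagation property. -/
theorem p2 (gen : S.Gen) (pl : S.Planes) (hT : S.T ≤ H) {J : Finset (Fin n)} {M : Subgroup G}
    (mj : S.MinJ H J M) (h0 : J.Nonempty) (h1 : ∀ i ∈ J, S.Full H {i}) (h2 : ∀ i ∈ J, S.q i = 2)
    (h3 : ∀ i ∈ J, ∀ j, i = j ∨ S.m i j = 2 ∨ S.m i j = 3) : P2 S.m J := by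
  obtain ⟨-, -, -, -, -, -, -, -, -, -, -, -, -, -, -, -, -, m1, -⟩ := Y.bas1 S
  have ind := Y.two S gen pl H J M hs hT mj h2 fun i hi j _ => by
    rcases h3 i hi j with rfl | e | e
    · rw [m1]; omega
    all_goals omega
  refine ⟨h0, ind, fun i hi k hk => by_contra fun e => ?_⟩
  push Not at e
  refine Y.prod S gen pl H J M hs mj h2 {i, k} i hi (by simp) k (by simp) hk (fun l hl l1 a ha => ?_)
    (edge_full Y hs pl hk (h1 i hi))
  refine ((h3 l hl a).resolve_left (by rintro rfl; exact l1 ha)).resolve_right ?_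
  rcases Finset.mem_insert.1 ha with rfl | ha
  · exact ind l hl a hi
  · rw [Finset.mem_singleton.1 ha]
    exact e l hl (by rintro rfl; simp at l1)

omit hs in
/-- A leaf `z` with neighbour `y` that lies in all minimal uncovered sets. -/
theorem leaf (hs : S.Setup H) (gen : S.Gen) (pl : S.Planes) {J : Finset (Fin n)} {M : Subgroup G}
    (mj : S.MinJ H J M) (h2 : ∀ i ∈ J, S.q i = 2) {z y i k : Fin n}
    (hz : ∀ J, ¬ S.Full H J → (∀ K, K ⊂ J → S.Full H K) → z ∈ J) (hy : y ∉ J)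
    (hl : ∀ a, a ≠ z → a ≠ y → S.m z a = 2) (hi : i ∈ J) (iz : i ≠ z) (kz : k ≠ z) (ky : k ≠ y)
    (hk : S.m i k = 3) : False := by
  refine Y.prod S gen pl H J M hs mj h2 ({z, y}ᶜ) i hi (by simpa [iz] using fun e : i = y => hy (e ▸ hi))
    k (by simp [kz, ky]) hk (fun l hl' l1 a ha => ?_) (by_contra fun e => ?_)
  · simp only [Finset.mem_compl, Finset.mem_insert, Finset.mem_singleton, not_not] at l1 ha
    rw [not_or] at ha
    rcases l1 with rfl | rfl
    · exact hl a ha.1 ha.2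
    · exact absurd hl' hy
  · obtain ⟨J', k1, k2, k3⟩ := exists_min e
    simpa using k1 (hz J' k2 k3)

omit hs in
theorem r3a : R3aStmt := by
  intro G _ _ _ p n _ S par ty gen hm pl _ _ H hH hs
  have h3 := three_le ty
  have h0 : 0 < n := by omega
  have hm' : S.m = tm n par 0 := funext fun a => funext (hm a)
  have hq := conn ty S.q fun a b h => q_edge Y pl (hm a b ▸ h)
  have hf := conn ty (fun i => S.Full H {i}) fun a b h => propext (full_iff Y hs pl (hm a b ▸ h))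
  by_cases f0 : S.Full H {⟨0, h0⟩}
  swap
  · have k : ∀ i, S.q i = 2 ∧ H ⊓ S.U ≤ S.Q {i} := fun i => by
      obtain ⟨j, hj⟩ := exists_nb ty i
      have := (edge Y hs pl (hm i j ▸ hj)).resolve_left fun e =>
        f0 ((hf i _).mp (mono Y hs (by simp) e))
      exact ⟨this.1, this.2.1⟩
    have hT : S.T ≤ H := T_le_two Y h0 fun i => (k i).1
    refine ⟨hT, .inl ⟨rfl, fun i => (k i).1, ?_⟩⟩
    rw [← index_mul Y hs hT, (Y.lad S H hs).2.2.2.2.2.2.2 hH h0 fun i => (k i).2, card_bot, mul_one]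
  have f1 : ∀ i, S.Full H {i} := fun i => (hf _ i).mp f0
  have hT := T_le Y hs h0 f1
  refine ⟨hT, ?_⟩
  have pair : ∀ J, ¬ S.Full H J → ∃ i ∈ J, ∃ j ∈ J, S.m i j = 2 := fun J hJ => by
    by_contra e
    push Not at e
    obtain ⟨i, hi, -⟩ := Finset.not_subset.1 fun k => hJ (mono Y hs k f0)
    obtain ⟨j, hj, ji⟩ := Finset.not_subset.1 fun k => hJ (mono Y hs k (f1 i))
    have ad : ∀ a ∈ J, ∀ b ∈ J, a ≠ b → tm n par 0 a b = 3 := fun a ha b hb ab =>
      ((tm_cases a b).resolve_left ab).resolve_left (hm a b ▸ e a ha b hb)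
    have ij := ad i hi j hj (by rintro rfl; simp at ji)
    obtain ⟨l, hl, l1⟩ := Finset.not_subset.1 fun k =>
      hJ (mono Y hs k (edge_full Y hs pl (hm i j ▸ ij) (f1 i)))
    exact no_tri ty ij (ad i hi l hl (by rintro rfl; simp at l1))
      (ad j hj l hl (by rintro rfl; simp at l1))
  obtain ⟨J, -, nf, mn⟩ := exists_min (not_full_univ Y hs h0 hH)
  obtain ⟨M, mj⟩ := Y.minj S gen H hT J nf mn
  obtain ⟨i, hi, j, hj, ij⟩ := pair J nf
  have tf := Y.tf S pl H J M mj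
  have hr : S.q i = 2 ∨ S.q i = 3 := by
    obtain ⟨k, hk⟩ := exists_nb ty i
    have := (tf i hi j hj).2.1 k (hm i k ▸ hk) ij
    have := two_le_q Y (S := S) i
    omega
  have c3 : S.q i = 3 → P3 (tm n par 0) i j := fun e => by
    have k : ∀ a ∈ J, ∀ b ∈ J, ∀ k, tm n par 0 a k = 3 → tm n par 0 b k = 3 := by
      intro a ha b hb k hk
      have e' : S.q a = 3 := (hq a i).trans e
      rcases tm_cases (par := par) b k with rfl | h | h
      · exact absurd e' ((tf a ha b hb).2.2.2.1 (hm a b ▸ hk))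
      · have := (tf a ha b hb).1 k (hm a k ▸ hk) (by rw [m_symm Y, hm, h])
        omega
      · exact h
    exact ⟨hm i j ▸ ij, fun c => ⟨k i hi j hj c, k j hj i hi c⟩⟩
  have c2 : S.q i = 2 → ∀ J, ¬ S.Full H J → (∀ K, K ⊂ J → S.Full H K) → P2 (tm n par 0) J := by
    intro e J nf mn
    obtain ⟨M, mj⟩ := Y.minj S gen H hT J nf mn
    obtain ⟨a, ha, -⟩ := pair J nf
    exact hm' ▸ p2 Y hs gen pl hT mj ⟨a, ha⟩ (fun i _ => f1 i) (fun a _ => (hq a i).trans e)
      fun a _ b => hm a b ▸ tm_cases a b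
  rcases ty with ⟨-, rfl⟩ | ⟨h4, rfl⟩ | ⟨h6, rfl⟩
  · rcases h3.eq_or_lt with rfl | h4
    · refine .inr (.inl ⟨rfl, rfl, _, hr, fun a => hq a i, ?_⟩)
      have e : S.m 0 1 = 3 := by rw [hm]; rfl
      rw [← index_mul Y hs hT, hq i 0]
      exact Nat.mul_le_mul_left _ (cube_le Y hs pl e (edge_full Y hs pl e (f1 0)))
    exfalso
    rcases hr with e | e
    swap
    · exact p3_A h4 (c3 e)
    obtain ⟨⟨a, ha, a0⟩, b, hb, b1⟩ := p2_A (c2 e J nf mn)
    refine leaf Y hs gen pl mj (fun a _ => (hq a i).trans e) (z := b) (y := ⟨n - 2, by omega⟩)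
      (i := a) (k := ⟨1, by omega⟩) (fun J nf mn => ?_) (fun k => (c2 e J nf mn).2.1 _ k b hb
        (tmA3.2 (.inl (by simp only; omega)))) (fun c c1 c2 => ?_) ha
      (fun k => by rw [k] at a0; omega) (fun k => by simp [← k] at b1; omega)
      (fun k => by simp at k; omega) (by rw [hm, tmA3]; exact .inl (by simp only; omega))
    · obtain ⟨-, b', hb', b2⟩ := p2_A (c2 e J nf mn)
      rwa [show b = b' from Fin.ext (by omega)]
    · rw [hm]
      refine ((tm_cases b c).resolve_left c1.symm).resolve_right ?_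
      rw [tmA3]
      rw [Ne, Fin.ext_iff] at c2
      simp only at c2
      omega
  · exact .inr (.inr (.inl ⟨h4, rfl, rfl, _, hr, fun a => hq a i⟩))
  · exfalso
    rcases h6 with rfl | rfl | rfl
    · exact hr.elim (fun e => e6.1 J (c2 e J nf mn)) fun e => e6.2 i j (c3 e)
    · refine hr.elim (fun e => ?_) fun e => e7.2 i j (c3 e)
      have k := e7.1 J (c2 e J nf mn)
      refine leaf Y hs gen pl mj (fun a _ => (hq a i).trans e) (z := 5) (y := 4) (i := 3) (k := 2)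
        (fun J nf mn => (e7.1 J (c2 e J nf mn)).1)
        (fun h => (c2 e J nf mn).2.1 _ h _ k.1 (by decide)) (fun a => ?_) k.2 (by decide)
        (by decide) (by decide) (by rw [hm]; decide)
      rw [hm]
      revert a
      decide
    · exact hr.elim (fun e => e8.1 J (c2 e J nf mn)) fun e => e8.2 i j (c3 e)

omit Y in
/-- **R3A** -/
theorem r3aStmt (bas1 : Bas1Stmt) (bas2 : Bas2Stmt) (tgen : TgenStmt) (faith : FaithStmt)
    (lad : LadStmt) (plf : PlfStmt) (torq : TorqStmt) (minj : MinjStmt) (tf : TfStmt)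
    (two : TwoStmt) (prod : ProdStmt) : R3aStmt :=
  r3a ⟨bas1, bas2, tgen, faith, lad, plf, torq, minj, tf, two, prod⟩

end Cfsg.Agent.H28.CksR3
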