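import Mathlib
import Cfsg.Agent.H50.DerDefs

/-! Index of the derangement subgroup: the combinatorics of the multiplicity table. -/

set_option autoImplicit false

namespace Cfsg.Agent.H28.DerCh2

open Cfsg.Agent.H50.Der Finset

universe u

variable {V E : Type u} [CommGroup V] [Group E] {act : E →* MulAut V}

theorem dual_dual (g h : E) (l : V →* ℂˣ) : dual act g (dual act h l) = dual act (h * g) l :=
  MonoidHom.ext fun z => by simp [dual]

theorem dual_one (l : V →* ℂˣ) : dual act 1 l = l := MonoidHom.ext fun z => by simp [dual]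

theorem dual_inj [Finite V] (hs : ∀ (g : E) (z : V), z ≠ 1 → act g z = z → g = 1) {l : V →* ℂˣ}
    (hl : l ≠ 1) : Function.Injective fun g => dual act g l := by
  have key : ∀ g, dual act g l = l → g = 1 := fun g h => by
    by_contra hg
    have hi : Function.Injective ((act g).toMonoidHom / MonoidHom.id V) :=
      (injective_iff_map_eq_one _).2 fun z hz => by
        by_contra h1
        exact hg (hs g z h1 (div_eq_one.1 hz))
    refine hl (MonoidHom.ext fun z => ?_)
    obtain ⟨y, rfl⟩ := Finite.surjective_of_injective hi z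
    exact (map_div l (act g y) y).trans (div_eq_one.2 (DFunLike.congr_fun h y))
  intro g h (e : dual act g l = dual act h l)
  refine mul_inv_eq_one.1 (key _ ?_)
  rw [← dual_dual, e, dual_dual, mul_inv_cancel, dual_one]

theorem ch2 : Ch2Stmt.{u} := by
  classical
  rintro V E _ _ _ _ _ act r hs ⟨T⟩ hr
  letI := T.fin
  have := Fintype.ofFinite E
  have h1 : ∀ l, ∃ i, T.c i * T.m i l = 1 ∧ ∀ j, j ≠ i → T.c j * T.m j l = 0 := fun l => by
    obtain ⟨i, -, hi⟩ := exists_ne_zero_of_sum_ne_zero ((T.reg l).trans_ne one_ne_zero)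
    have e := T.reg l
    rw [← add_sum_erase _ _ (mem_univ i)] at e
    exact ⟨i, by omega, fun j hj => sum_eq_zero_iff.1 (by omega : ∑ x ∈ univ.erase i, T.c x * T.m x l = 0)
      j (mem_erase.2 ⟨hj, mem_univ _⟩)⟩
  choose χ h1 h2 using h1
  have hc : ∀ l, T.c (χ l) = 1 := fun l => Nat.eq_one_of_mul_eq_one_right (h1 l)
  have hm : ∀ l, T.m (χ l) l = 1 := fun l => Nat.eq_one_of_mul_eq_one_left (h1 l)
  have hu : ∀ {i l}, T.c i ≠ 0 → T.m i l ≠ 0 → i = χ l := fun a b => by
    by_contra h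
    exact mul_ne_zero a b (h2 _ _ h)
  have h0 : ∀ {i l}, T.c i ≠ 0 → i ≠ χ l → T.m i l = 0 := fun a b => by
    by_contra h
    exact b (hu a h)
  have hc' : ∀ l, T.c (χ l) ≠ 0 := fun l => (hc l).trans_ne one_ne_zero
  have e1 : T.one = χ 1 := hu (T.c1.trans_ne one_ne_zero) (T.m11.trans_ne one_ne_zero)
  have n1 : ∀ {l}, l ≠ 1 → χ l ≠ χ 1 := fun {l} hl e => by
    have := hm l
    rw [e, ← e1, T.m1 l hl] at this
    exact zero_ne_one this
  have orb : ∀ g l, χ l = χ (dual act g l) := fun g l => hu (hc' l) (by rw [T.inv, hm]; exact one_ne_zero)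
  have hJ : r = #((univ.erase 1).image χ) + 1 := by
    rw [← card_insert_of_notMem (a := χ 1) (by
      simp only [mem_image, mem_erase, not_exists, not_and]
      exact fun l hl => n1 hl.1), ← image_insert, insert_erase (mem_univ _), card_eq_sum_ones]
    refine T.rk.symm.trans ((sum_subset (subset_univ _) fun i _ hi => ?_).symm.trans
      (sum_congr rfl fun i hi => ?_))
    · obtain ⟨l, hl⟩ := T.pos i
      by_contra h
      exact hi (mem_image.2 ⟨l, mem_univ _, (hu (fun e => h (by rw [e]; rfl)) hl.ne').symm⟩)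
    · obtain ⟨l, -, rfl⟩ := mem_image.1 hi
      rw [hc, one_pow]
  have d2 : ∀ {l k}, l ≠ 1 → k ≠ 1 → χ l ≠ χ k → ∀ i, T.c i = 0 → T.m i l = T.m i k := by
    intro l k hl hk h i hi
    have e := T.n2 l k hl hk fun g e => h (e ▸ orb g l)
    have a1 : i ≠ χ l := fun e => hc' l (e ▸ hi)
    have a2 : i ≠ χ k := fun e => hc' k (e ▸ hi)
    have := sum_le_sum_of_subset_of_nonneg (f := fun i => ((T.m i l : ℤ) - T.m i k) ^ 2)
      (subset_univ {i, χ l, χ k}) fun _ _ _ => sq_nonneg _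
    rw [e, sum_insert (by simp [a1, a2]), sum_pair h, hm, hm, h0 (hc' l) h, h0 (hc' k) h.symm] at this
    have : ((T.m i l : ℤ) - T.m i k) ^ 2 = 0 := le_antisymm (by push_cast at this; linarith) (sq_nonneg _)
    exact_mod_cast sub_eq_zero.1 (pow_eq_zero_iff two_ne_zero |>.1 this)
  have d0 : ∀ {l k}, l ≠ 1 → k ≠ 1 → ∀ i, T.c i = 0 → T.m i l = T.m i k := by
    intro l k hl hk i hi
    by_cases h : χ l = χ k
    · obtain ⟨j, hj, hj'⟩ := exists_mem_ne (s := (univ.erase 1).image χ) (by omega) (χ l)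
      obtain ⟨l', hl', rfl⟩ := mem_image.1 hj
      rw [← d2 (mem_erase.1 hl').1 hl hj' i hi, d2 (mem_erase.1 hl').1 hk (h ▸ hj') i hi]
    · exact d2 hl hk h i hi
  have fib : ∀ {l k}, l ≠ 1 → χ k = χ l → ∃ g, dual act g l = k := by
    intro l k hl h
    have hk : k ≠ 1 := fun e => n1 hl (by rw [← h, e])
    by_contra hg
    have e := T.n2 l k hl hk (not_exists.1 hg)
    rw [sum_eq_zero fun i _ => ?_] at e
    · exact absurd e (by norm_num)
    by_cases hi : T.c i = 0
    · rw [d0 hl hk i hi, sub_self, zero_pow two_ne_zero]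
    by_cases hi' : i = χ l
    · rw [hi', hm, ← h, hm, sub_self, zero_pow two_ne_zero]
    · rw [h0 hi hi', h0 hi (h ▸ hi'), sub_self, zero_pow two_ne_zero]
  refine ⟨?_, fun h2 l k hl hk => ?_⟩
  · have : NeZero ((Monoid.exponent V : ℕ) : ℂ) := ⟨Nat.cast_ne_zero.2 Monoid.exponent_ne_zero_of_finite⟩
    rw [← CommGroup.card_monoidHom_of_hasEnoughRootsOfUnity V ℂ, Nat.card_eq_fintype_card (α := V →* ℂˣ),
      ← card_univ, ← card_erase_add_one (mem_univ 1), card_eq_sum_card_image χ,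
      sum_const_nat (m := Nat.card E) fun i hi => ?_, Nat.sub_eq_of_eq_add hJ]
    obtain ⟨l, hl, rfl⟩ := mem_image.1 hi
    have hl := (mem_erase.1 hl).1
    rw [Nat.card_eq_fintype_card, ← card_univ, ← card_image_of_injective _ (dual_inj hs hl)]
    congr 1
    ext k
    simp only [mem_filter, mem_erase, mem_univ, and_true, mem_image, true_and]
    refine ⟨fun h => fib hl h.2, ?_⟩
    rintro ⟨g, rfl⟩
    exact ⟨fun e => n1 hl (by rw [orb g l, e]), (orb g l).symm⟩
  · obtain ⟨a, a1, ha⟩ := T.prod (χ l)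
    have := Finite.one_lt_card_iff_nontrivial.1 h2
    obtain ⟨g, hg⟩ := exists_ne (1 : E)
    have b1 := sum_le_sum_of_subset (f := fun l' => T.m (χ l) l' * T.m (χ l) (l' * 1⁻¹))
      (subset_univ {dual act g l, dual act 1 l})
    rw [sum_pair ((dual_inj hs hl).ne hg), ← ha, ← add_sum_erase _ _ (mem_univ T.one), a1, T.m11] at b1
    have m1 : ∀ l : V →* ℂˣ, l * 1⁻¹ = l := fun l => MonoidHom.ext fun z => by simp
    simp only [m1, T.inv, hm] at b1
    obtain ⟨j, hj, hj'⟩ := exists_ne_zero_of_sum_ne_zero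
      (by omega : ∑ x ∈ univ.erase T.one, a x * T.m x 1 ≠ 0)
    have hj := (mem_erase.1 hj).1
    have cj : T.c j = 0 := by
      by_contra h
      exact hj ((hu h (right_ne_zero_of_mul hj')).trans e1.symm)
    obtain ⟨l1, hl1, p1⟩ := T.ker j hj
    have b2 := single_le_sum (f := fun j => a j * T.m j k) (fun _ _ => Nat.zero_le _) (mem_univ j)
    have b3 : a j * T.m j k ≠ 0 := mul_ne_zero (left_ne_zero_of_mul hj') (d0 hl1 hk j cj ▸ p1.ne')
    rw [ha] at b2
    obtain ⟨l', -, hl'⟩ := exists_ne_zero_of_sum_ne_zero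
      (by omega : ∑ l', T.m (χ l) l' * T.m (χ l) (l' * k⁻¹) ≠ 0)
    obtain ⟨g₁, e₁⟩ := fib hl (hu (hc' l) (left_ne_zero_of_mul hl')).symm
    obtain ⟨g₂, e₂⟩ := fib hl (hu (hc' l) (right_ne_zero_of_mul hl')).symm
    exact ⟨g₁, g₂, by rw [e₁, e₂]; exact MonoidHom.ext fun z => by simp⟩

end Cfsg.Agent.H28.DerCh2
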