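import Mathlib
import Cfsg.Agent.H99.E72Defs
import Cfsg.Agent.H52.FStar

/-!
# The index of a centreless generalized Fitting subgroup divides the order of `Out`
-/

set_option autoImplicit false

namespace Cfsg.Agent.H28.E72Out

open Cfsg Subgroup

universe u

theorem index_dvd {H : Type*} [Group H] (E : Subgroup H) [E.Normal]
    (hc : centralizer (E : Set H) = ⊥) {L : Type*} [Group L] (e : E ≃* L) :
    E.index ∣ Nat.card (Out L) := by
  let f : H →* MulAut L := (MulAut.congr e).toMonoidHom.comp MulAut.conjNormal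
  have h1 : (Inn L).comap f ≤ E := by
    rintro g ⟨l, hl⟩
    obtain ⟨x, rfl⟩ := e.surjective l
    have h2 : g * (x : H)⁻¹ ∈ centralizer (E : Set H) := mem_centralizer_iff.2 fun y hy => by
      have h3 := congrArg (fun α : MulAut L => (e.symm (α (e (x⁻¹ * ⟨y, hy⟩ * x))) : H)) hl
      simp [f, mul_assoc] at h3
      rw [mul_assoc]
      nth_rewrite 1 [h3]
      group
    rw [hc, mem_bot, mul_inv_eq_one] at h2
    exact h2 ▸ x.2
  refine (index_dvd_of_le h1).trans ?_
  rw [index_comap]
  exact relIndex_dvd_index_of_normal _ _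

theorem out : Cfsg.Agent.H99.E72.OutStmt.{u} := by
  intro H _ _ L _ hL e
  haveI := H52.fstar_normal (G := H)
  refine index_dvd _ (eq_bot_iff.2 fun g hg => ?_) e
  have h1 : e ⟨g, H52.centralizer_fstar_le hg⟩ ∈ center L := by
    rw [mem_center_iff]
    intro l
    obtain ⟨y, rfl⟩ := e.surjective l
    rw [← map_mul, ← map_mul]
    exact congrArg e (Subtype.ext (mem_centralizer_iff.1 hg y.1 y.2))
  rw [hL, mem_bot, map_eq_one_iff e e.injective] at h1
  exact congrArg Subtype.val h1

end Cfsg.Agent.H28.E72Out
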