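import Mathlib
import Cfsg.Agent.H77.ElusSU
import Cfsg.Agent.H76.OSpec

/-! Jordan data of fixed-point-free isometries of odd prime order. -/

set_option autoImplicit false

namespace Cfsg.Agent.H28

open H76 H77

/-- block size -/
def cc (i : ℕ) : ℕ := if Even i then i else 2 * i

/-- type of a block -/
def ss (i : ℕ) : ℕ := if Even i then 1 else 0

/-- number of different self-dual blocks -/
def TT (r i : ℕ) : ℕ := if Even i then (r - 1) / i else 0

/-- the twisted Frobenius exponent -/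
def qq (q i : ℕ) : ℤ := if Even i then q else -q

theorem even_cc (i : ℕ) : Even (cc i) := by
  unfold cc; split_ifs with h
  · exact h
  · exact even_two_mul i

theorem cc_pos {i : ℕ} (h : 0 < i) : 0 < cc i := by unfold cc; split_ifs <;> omega

variable {L : Type*} [Field L] {r q i : ℕ} [hr : Fact r.Prime]

/-- Data of a fixed-point-free isometry of order `r`. -/
structure RD (r q k : ℕ) (s : Multiset (Lˣ × ℕ)) : Prop where
  adm : Adm (q : ℤ) k s
  dual : s.map (frob (-1)) = s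
  mem : ∀ x ∈ s, x.2 = 1 ∧ x.1 ^ r = 1 ∧ x.1 ≠ 1

/-- The dimensions of invariant totally singular subspaces. -/
def TD (q i b : ℕ) (s : Multiset (Lˣ × ℕ)) : Prop :=
  ∀ m, (∃ t, t + t.map (frob (-1)) ≤ s ∧ Adm (q : ℤ) m t) ↔ ∃ b' ≤ b, m = i * b'

theorem orderOf_qq (hr2 : r ≠ 2) (hi : orderOf (q : ZMod r) = i) :
    orderOf ((qq q i : ℤ) : ZMod r) = cc i := by
  unfold qq cc
  split_ifs with h
  · simpa using hi
  · rw [Int.cast_neg, Int.cast_natCast,
      orderOf_neg_of_odd (zmod_two_ne_zero hr2) (hi ▸ Nat.not_even_iff_odd.1 h), hi]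

theorem not_dvd_qq_sub (hr2 : r ≠ 2) (hi : orderOf (q : ZMod r) = i) :
    ¬ (r : ℤ) ∣ qq q i - 1 := fun h => by
  have := even_cc i
  rw [← orderOf_qq hr2 hi, dvd_sub_one_iff.1 h] at this
  exact Nat.not_even_one this

theorem not_dvd_qq (hi : orderOf (q : ZMod r) = i) (h0 : 0 < i) : ¬ (r : ℤ) ∣ qq q i := fun h => by
  have h1 : (q : ZMod r) = 0 := by
    rw [← Int.cast_natCast, ZMod.intCast_zmod_eq_zero_iff_dvd]
    unfold qq at h
    split_ifs at h
    · exact h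
    · exact dvd_neg.1 h
  rw [h1, orderOf_zero] at hi
  omega

theorem cc_le (hr2 : r ≠ 2) (hi : orderOf (q : ZMod r) = i) (h0 : 0 < i) : cc i ≤ r - 1 := by
  have h1 : ((qq q i : ℤ) : ZMod r) ≠ 0 := by
    rw [Ne, ZMod.intCast_zmod_eq_zero_iff_dvd]; exact not_dvd_qq hi h0
  rw [← orderOf_qq hr2 hi]
  exact Nat.le_of_dvd (by have := hr.out.two_le; omega) (ZMod.orderOf_dvd_card_sub_one h1)

variable {k : ℕ} {s t : Multiset (Lˣ × ℕ)}

omit hr in
theorem RD.sq_ne (hr : r.Prime) (hr2 : r ≠ 2) (h : RD r q k s) : ∀ x ∈ s, x.1 ^ 2 ≠ 1 :=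
  fun x hx h2 => (h.mem x hx).2.2 (eq_one_of_odd_pow h2 (hr.odd_of_ne_two hr2) (h.mem x hx).2.1)

theorem RD.unif (hr2 : r ≠ 2) (hi : orderOf (q : ZMod r) = i) (h : RD r q k s) :
    Unif (qq q i) (cc i) k s := by
  refine ⟨?_, fun x hx => (h.mem x hx).1, fun x hx => ?_⟩
  · unfold qq; split_ifs
    · exact h.adm
    · simpa using adm_mul h.adm h.dual
  · obtain ⟨-, h1, h2⟩ := h.mem x hx
    rw [← orderOf_qq hr2 hi]
    exact per_of_not_dvd hr.out (not_dvd_qq_sub hr2 hi) (by rw [h1, one_zpow])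
      fun h3 => h2 (eq_one_of_fixed hr.out (not_dvd_qq_sub hr2 hi) h1 h3)

theorem rd_of_adm (hr2 : r ≠ 2) (hi : orderOf (q : ZMod r) = i) (h0 : 0 < i)
    (h : Adm (qq q i) k t) (h' : ∀ x ∈ t, x.2 = 1 ∧ x.1 ^ r = 1 ∧ x.1 ≠ 1) : RD r q k t := by
  obtain ⟨b, hb⟩ := even_cc i
  have h1 : ((qq q i : ℤ) : ZMod r) ^ b = -1 :=
    pow_half_eq_neg_one (by have := cc_pos h0; omega) (by rw [orderOf_qq hr2 hi]; omega)
  have h2 : t.map (frob (-1)) = t := by
    rw [← map_frob_congr (Q := qq q i ^ b) fun x hx => zpow_eq_zpow_of_dvd_sub (h' x hx).2.1 (by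
      rw [← ZMod.intCast_zmod_eq_zero_iff_dvd]; push_cast; rw [h1]; ring), map_frob_pow h.stab]
  refine ⟨?_, h2, h'⟩
  unfold qq at h
  split_ifs at h
  · exact h
  · simpa using adm_mul h h2

theorem RD.exists_le (hr2 : r ≠ 2) (hi : orderOf (q : ZMod r) = i) (h0 : 0 < i) (h : RD r q k s)
    {a : ℕ} (ha : cc i * a ≤ k) : ∃ t ≤ s, RD r q (cc i * a) t := by
  obtain ⟨t, u, rfl, h1, -⟩ := (h.unif hr2 hi).exists_add ha
  exact ⟨t, Multiset.le_add_right _ _, rd_of_adm hr2 hi h0 h1.adm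
    fun x hx => h.mem x (Multiset.mem_add.2 (Or.inl hx))⟩

theorem td_even (hr2 : r ≠ 2) (hi : orderOf (q : ZMod r) = i) (h0 : 0 < i) (he : Even i)
    {o w : Multiset (Lˣ × ℕ)} (h : RD r q k (o + 2 • w)) (ho : o.Nodup) {b : ℕ}
    (hw : Unif (q : ℤ) i (i * b) w) : TD q i b (o + 2 • w) := fun m => by
  have hq : qq q i = q := if_pos he
  have hc : cc i = i := if_pos he
  have hu := h.unif hr2 hi
  rw [hq, hc] at hu
  have hd : ∀ {m t}, t ≤ o + 2 • w → Adm (q : ℤ) m t → t.map (frob (-1)) = t := fun h1 h2 =>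
    (rd_of_adm hr2 hi h0 (hq ▸ h2) fun x hx => h.mem x (Multiset.mem_of_le h1 hx)).dual
  constructor
  · rintro ⟨t, h1, h2⟩
    have h3 : t ≤ o + 2 • w := (Multiset.le_add_right _ _).trans h1
    rw [hd h3 h2] at h1
    obtain ⟨b', rfl⟩ := (hu.of_le h2 h3).dvd
    have := wt_le_of_le (le_of_add_self_le ho h1)
    rw [h2.wt_eq, hw.adm.wt_eq] at this
    exact ⟨b', Nat.le_of_mul_le_mul_left this h0, rfl⟩
  · rintro ⟨b', h1, rfl⟩
    obtain ⟨t, u, rfl, h2, -⟩ := hw.exists_add (Nat.mul_le_mul_left i h1)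
    have h3 : t + t ≤ o + 2 • (t + u) := by
      rw [show o + 2 • (t + u) = t + t + (o + 2 • u) by rw [two_nsmul, two_nsmul]; abel]
      exact Multiset.le_add_right _ _
    exact ⟨t, by rwa [hd ((Multiset.le_add_right _ _).trans h3) h2.adm], h2.adm⟩

theorem td_odd (hr2 : r ≠ 2) (hi : orderOf (q : ZMod r) = i) (h0 : 0 < i) (he : ¬ Even i)
    {b : ℕ} (h : RD r q (2 * i * b) s) : TD q i b s := fun m => by
  have hq : qq q i = -q := if_neg he
  have hc : cc i = 2 * i := if_neg he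
  have hu := h.unif hr2 hi
  rw [hq, hc] at hu
  constructor
  · rintro ⟨t, h1, h2⟩
    have h3 : t ≤ s := (Multiset.le_add_right _ _).trans h1
    have h4 : i ∣ m := by
      by_cases h5 : (r : ℤ) ∣ q - 1
      · have := dvd_sub_one_iff.1 h5
        rw [Int.cast_natCast, hi] at this
        exact this ▸ one_dvd m
      · refine Unif.dvd (Q := q) (s := t) ⟨h2, fun x hx => (h.mem x (Multiset.mem_of_le h3 hx)).1,
          fun x hx => ?_⟩
        obtain ⟨-, h6, h7⟩ := h.mem x (Multiset.mem_of_le h3 hx)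
        have := per_of_not_dvd hr.out h5 (α := x.1) (by rw [h6, one_zpow])
          fun h8 => h7 (eq_one_of_fixed hr.out h5 h6 h8)
        rwa [Int.cast_natCast, hi] at this
    obtain ⟨b', rfl⟩ := h4
    have := wt_le_of_le h1
    rw [wt_add, wt_map_frob, h2.wt_eq, h.adm.wt_eq] at this
    exact ⟨b', Nat.le_of_mul_le_mul_left (show i * b' ≤ i * b by nlinarith) h0, rfl⟩
  · rintro ⟨b', h1, rfl⟩
    obtain ⟨t, h2, h3⟩ := hu.exists_add_dual_le (Nat.mul_le_mul_left (2 * i) h1)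
    have h4 : Adm (q : ℤ) (i * b') t := by
      refine adm_of_sq (c := i) (by simpa using h3.adm) (Nat.not_even_iff_odd.1 he) fun x hx => ?_
      have h5 := (h.mem x (Multiset.mem_of_le ((Multiset.le_add_right _ _).trans h2) hx)).2.1
      rw [zpow_eq_zpow_of_dvd_sub (Q' := 1) h5, zpow_one]
      rw [← ZMod.intCast_zmod_eq_zero_iff_dvd]
      push_cast
      rw [← hi, pow_orderOf_eq_one, sub_self]
    refine ⟨t, ?_, h4⟩
    rwa [show (-(q : ℤ)) = q * -1 by ring, ← map_frob_map_frob, h4.stab] at h2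

theorem RD.exists_td (hr2 : r ≠ 2) (hi : orderOf (q : ZMod r) = i) (h0 : 0 < i)
    (h : RD r q k s) : ∃ o b, o ≤ TT r i ∧ k = i * (o + 2 * b) ∧ TD q i b s := by
  have hu := h.unif hr2 hi
  by_cases he : Even i
  · rw [show qq q i = q from if_pos he, show cc i = i from if_pos he] at hu
    obtain ⟨o, w, j, a, rfl, h1, h2, h3, h4⟩ := hu.exists_odd_part
    refine ⟨j, a, ?_, by rw [h4]; ring, td_even hr2 hi h0 he h h1 h3⟩
    rw [TT, if_pos he, Nat.le_div_iff_mul_le h0, mul_comm]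
    have h5 := not_dvd_qq_sub hr2 hi
    rw [show qq q i = q from if_pos he] at h5
    refine card_le_of_unif_nodup hr.out h5 (fun h6 => by rw [h6] at he; exact Nat.not_even_one he)
      h1 h2 fun x hx y hy => ?_
    rw [(h.mem x (Multiset.mem_add.2 (Or.inl hx))).2.1,
      (h.mem y (Multiset.mem_add.2 (Or.inl hy))).2.1]
  · obtain ⟨b, rfl⟩ := hu.dvd
    rw [show cc i = 2 * i from if_neg he] at h ⊢
    exact ⟨0, b, Nat.zero_le _, by ring, td_odd hr2 hi h0 he h⟩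

variable [IsAlgClosed L] {p : ℕ} [Fact p.Prime] [CharP L p]

theorem exists_rd_td (hr2 : r ≠ 2) (hrp : r ≠ p) (hi : orderOf (q : ZMod r) = i) (h0 : 0 < i)
    {o : ℕ} (ho : o ≤ TT r i) (b : ℕ) :
    ∃ s : Multiset (Lˣ × ℕ), RD r q (i * (o + 2 * b)) s ∧ TD q i b s := by
  have key : ∀ j, cc i * j ≤ r - 1 → ∃ u : Multiset (Lˣ × ℕ), u.Nodup ∧
      Unif (qq q i) (cc i) (cc i * j) u ∧ ∀ x ∈ u, x.1 ^ r = 1 ∧ x.1 ≠ 1 := fun j hj => by
    have := exists_nodup_unif (L := L) hr.out hrp (not_dvd_qq hi h0) (not_dvd_qq_sub hr2 hi) (j := j)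
      (by rwa [orderOf_qq hr2 hi])
    rwa [orderOf_qq hr2 hi] at this
  obtain ⟨w, -, h1, h2⟩ := key 1 (by simpa using cc_le hr2 hi h0)
  by_cases he : Even i
  · rw [TT, if_pos he, Nat.le_div_iff_mul_le h0, mul_comm] at ho
    have hc : cc i = i := if_pos he
    obtain ⟨u, h3, h4, h5⟩ := key o (by rwa [hc])
    have h6 := h4.add ((h1.nsmul b).nsmul 2)
    have h7 : RD r q (i * (o + 2 * b)) (u + 2 • b • w) :=
      rd_of_adm hr2 hi h0 (h6.adm.cast (by rw [hc]; ring)) fun x hx => ⟨h6.one x hx, by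
        rcases Multiset.mem_add.1 hx with hx | hx
        · exact h5 x hx
        · exact h2 x (Multiset.mem_of_mem_nsmul (Multiset.mem_of_mem_nsmul hx))⟩
    refine ⟨_, h7, td_even hr2 hi h0 he h7 h3 ?_⟩
    have := h1.nsmul b
    rw [show qq q i = q from if_pos he, hc] at this
    exact this.cast (by ring)
  · rw [TT, if_neg he, Nat.le_zero] at ho
    subst ho
    have hc : cc i = 2 * i := if_neg he
    have h6 := h1.nsmul b
    have h7 : RD r q (2 * i * b) (b • w) :=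
      rd_of_adm hr2 hi h0 (h6.adm.cast (by rw [hc]; ring)) fun x hx =>
        ⟨h6.one x hx, h2 x (Multiset.mem_of_mem_nsmul hx)⟩
    exact ⟨_, by rwa [show i * (0 + 2 * b) = 2 * i * b by ring], td_odd hr2 hi h0 he h7⟩

theorem one_le_TT (hr2 : r ≠ 2) (hi : orderOf (q : ZMod r) = i) (h0 : 0 < i) (he : Even i) :
    1 ≤ TT r i := by
  have := cc_le hr2 hi h0
  rw [cc, if_pos he] at this
  rw [TT, if_pos he, Nat.le_div_iff_mul_le h0]
  omega

theorem exists_rd (hr2 : r ≠ 2) (hrp : r ≠ p) (hi : orderOf (q : ZMod r) = i) (h0 : 0 < i)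
    (a : ℕ) : ∃ s : Multiset (Lˣ × ℕ), RD r q (cc i * a) s := by
  by_cases he : Even i
  · obtain ⟨s, h, -⟩ := exists_rd_td (L := L) hr2 hrp hi h0 (o := a % 2)
      ((show a % 2 ≤ 1 by omega).trans (one_le_TT hr2 hi h0 he)) (a / 2)
    exact ⟨s, by rwa [cc, if_pos he, ← Nat.mod_add_div a 2]⟩
  · obtain ⟨s, h, -⟩ := exists_rd_td (L := L) hr2 hrp hi h0 (o := 0) (Nat.zero_le _) a
    exact ⟨s, by rwa [cc, if_neg he, show 2 * i * a = i * (0 + 2 * a) by ring]⟩

end Cfsg.Agent.H28
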