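import Mathlib
import Cfsg.Agent.H30.OrthCount
import Cfsg.Agent.H79.OmegaCrit
import Cfsg.Agent.H79.Invol

/-! The type of a quadratic space over a finite field, through Gauss sums. -/

set_option autoImplicit false

namespace Cfsg.Agent.H28

open H30 QuadraticMap Module

section Whole

variable {F V V' : Type*} [Field F] [Fintype F] [AddCommGroup V] [Module F V]
  [AddCommGroup V'] [Module F V']

variable (F) in
/-- A primitive additive character. -/
noncomputable def psi : AddChar F ℂ := AddChar.FiniteField.primitiveChar_to_Complex F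

variable (F) in
theorem psi_prim : (psi F).IsPrimitive :=
  AddChar.FiniteField.primitiveChar_to_Complex_isPrimitive F

variable (F) in
theorem sum_psi : ∑ c, psi F c = 0 := by
  classical
  simpa using AddChar.sum_mulShift (1 : F) (psi_prim F)

/-- The Gauss sum of a quadratic form. -/
noncomputable def gau (Q : V → F) : ℂ := ∑ᶠ v, psi F (Q v)

theorem gau_congr {Q : V → F} {Q' : V' → F} (h : H79.Iso (F := F) Q Q') : gau Q = gau Q' := by
  obtain ⟨e, he⟩ := h
  exact finsum_eq_of_bijective e e.bijective fun v => by rw [he]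

theorem gau_eq_sum [Fintype V] (Q : V → F) : gau Q = ∑ v, psi F (Q v) :=
  finsum_eq_sum_of_fintype _

variable [FiniteDimensional F V] [FiniteDimensional F V']

theorem gau_prod (Q : QuadraticForm F V) (Q' : QuadraticForm F V') :
    gau (Q.prod Q') = gau Q * gau Q' := by
  have : Finite V := Module.finite_of_finite F
  have : Finite V' := Module.finite_of_finite F
  have := Fintype.ofFinite V
  have := Fintype.ofFinite V'
  rw [gau_eq_sum, gau_eq_sum, gau_eq_sum, Fintype.sum_prod_type, Finset.sum_mul_sum]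
  simp [AddChar.map_add_eq_mul]

theorem gau_eq_nc (Q : QuadraticForm F V) : gau Q = ∑ c, (nc Q c : ℂ) * psi F c := by
  classical
  have : Finite V := Module.finite_of_finite F
  have := Fintype.ofFinite V
  rw [gau_eq_sum, ← Finset.sum_fiberwise Finset.univ Q]
  refine Finset.sum_congr rfl fun c _ => ?_
  rw [Finset.sum_congr rfl (g := fun _ => psi F c) fun v hv => by
    rw [(Finset.mem_filter.1 hv).2], Finset.sum_const, nsmul_eq_mul, nc,
    Nat.card_eq_fintype_card, Fintype.card_subtype]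

theorem gau_of_nc (Q : QuadraticForm F V) {k A B : ℤ}
    (h : ∀ c, k * nc Q c = A + open Classical in if c = 0 then B else 0) : k * gau Q = B := by
  classical
  have h1 : ∀ c, (k : ℂ) * nc Q c = A + if c = 0 then (B : ℂ) else 0 := fun c => by
    have := congrArg (Int.cast : ℤ → ℂ) (h c)
    split_ifs at this ⊢ <;> simpa using this
  rw [gau_eq_nc, Finset.mul_sum]
  simp only [← mul_assoc, h1, add_mul, Finset.sum_add_distrib, ← Finset.mul_sum, sum_psi]
  simp

variable {Q : QuadraticForm F V}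

theorem card_ne_zero_complex : (Fintype.card F : ℂ) ≠ 0 := by
  exact_mod_cast Fintype.card_ne_zero

theorem gau_plus (hQ : (polarBilin Q).Nondegenerate) {m : ℕ} (hV : finrank F V = 2 * m)
    (hp : H79.IsPlus (F := F) Q) : gau Q = (Fintype.card F : ℂ) ^ m := by
  have := gau_of_nc Q (nc_plus_int hQ hV hp)
  rw [Nat.card_eq_fintype_card] at this
  push_cast at this
  exact mul_left_cancel₀ card_ne_zero_complex (this.trans (pow_succ' _ _))

theorem gau_minus (hQ : (polarBilin Q).Nondegenerate) {m : ℕ} (hV : finrank F V = 2 * m)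
    (hp : ¬ H79.IsPlus (F := F) Q) : gau Q = -(Fintype.card F : ℂ) ^ m := by
  obtain _ | m := m
  · exact (hp ⟨⊥, by simp [hV], by simp⟩).elim
  have := gau_of_nc Q (k := 1) (A := (Nat.card F : ℤ) ^ (2 * m + 1) + (Nat.card F : ℤ) ^ m)
    (B := -(Nat.card F : ℤ) ^ (m + 1)) fun c => by
      rw [one_mul, nc_minus_int hQ hV hp c]; split_ifs <;> ring
  rw [Nat.card_eq_fintype_card] at this
  simpa using this

/-- The form `c x²` on `F`. -/
def qOne (c : F) : QuadraticForm F F := c • QuadraticMap.sq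

omit [Fintype F] in
theorem qOne_apply (c x : F) : qOne c x = c * x ^ 2 := by simp [qOne, _root_.sq]

variable (F) in
/-- The classical Gauss sum. -/
noncomputable def gOne : ℂ := gau (qOne (1 : F))

omit [Fintype F] in
theorem ringChar_ne_two (h2 : (2 : F) ≠ 0) : ringChar F ≠ 2 := fun h => h2 (by
  have := ringChar.charP F
  rw [h] at this
  exact CharP.cast_eq_zero F 2)

open Classical in
theorem gau_qOne_eq (h2 : (2 : F) ≠ 0) {c : F} (hc : c ≠ 0) : gau (qOne c) =
    gaussSum ((quadraticChar F).ringHomComp (Int.castRingHom ℂ)) ((psi F).mulShift c) := by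
  rw [gau_eq_sum, ← Finset.sum_fiberwise Finset.univ (fun x : F => x ^ 2)]
  have h1 : ∀ u : F, ∑ x ∈ Finset.univ.filter (fun x : F => x ^ 2 = u), psi F (qOne c x) =
      ((quadraticChar F u : ℤ) : ℂ) * psi F (c * u) + psi F (u * c) := fun u => by
    rw [Finset.sum_congr rfl (g := fun _ => psi F (c * u)) fun v hv => by
      rw [qOne_apply, (Finset.mem_filter.1 hv).2], Finset.sum_const, nsmul_eq_mul]
    have := congrArg (Int.cast : ℤ → ℂ) (quadraticChar_card_sqrts (ringChar_ne_two h2) u)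
    simp only [Set.toFinset_ofPred] at this
    push_cast at this
    rw [this, mul_comm u c]; ring
  simp only [h1, Finset.sum_add_distrib, AddChar.sum_mulShift c (psi_prim F), if_neg hc]
  simp [gaussSum]

open Classical in
theorem gau_qOne (h2 : (2 : F) ≠ 0) {c : F} (hc : c ≠ 0) :
    gau (qOne c) = if IsSquare c then gOne F else -gOne F := by
  have h := gaussSum_mulShift ((quadraticChar F).ringHomComp (Int.castRingHom ℂ)) (psi F)
    (Units.mk0 c hc)
  rw [gOne, gau_qOne_eq h2 hc, gau_qOne_eq h2 one_ne_zero, AddChar.mulShift_one, ← h]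
  split_ifs with hs
  · simp [(quadraticChar_one_iff_isSquare hc).2 hs]
  · simp [quadraticChar_neg_one_iff_not_isSquare.2 hs]

variable (F) in
/-- `1` if `-1` is not a square, else `0`. -/
def hh : ℕ := if Fintype.card F % 4 = 3 then 1 else 0

theorem gOne_sq (h2 : (2 : F) ≠ 0) : gOne F ^ 2 = (-1) ^ hh F * Fintype.card F := by
  classical
  have hc := ringChar_ne_two h2
  rw [gOne, gau_qOne_eq h2 one_ne_zero, AddChar.mulShift_one, gaussSum_sq
    ((MulChar.ringHomComp_ne_one_iff (RingHom.injective_int _)).2 (quadraticChar_ne_one hc))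
    ((quadraticChar_isQuadratic F).comp _) (psi_prim F)]
  congr 1
  have h1 := FiniteField.isSquare_neg_one_iff (F := F)
  unfold hh
  split_ifs with h
  · simp [quadraticChar_neg_one_iff_not_isSquare.2 (fun k => h1.1 k h)]
  · simp [(quadraticChar_one_iff_isSquare (neg_ne_zero.2 one_ne_zero)).2 (h1.2 h)]

theorem gOne_ne_zero (h2 : (2 : F) ≠ 0) : gOne F ≠ 0 := fun h => by
  have := gOne_sq h2
  rw [h] at this
  exact mul_ne_zero (pow_ne_zero _ (by norm_num)) card_ne_zero_complex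
    (this.symm.trans (by norm_num))

omit [Fintype F] in
theorem iso_oddC_prod (m : ℕ) (c : F) :
    H79.Iso (F := F) (H79.qOddC m F c) ((qOne c).prod (qPlus F m)) :=
  ⟨(LinearEquiv.sumArrowLequivProdArrow _ _ F F).trans
    ((LinearEquiv.funUnique Unit F F).prodCongr (LinearEquiv.refl F _)), fun v => by
      simp [H79.qOddC_apply, qOne_apply, qPlus_apply]⟩

theorem gau_oddC (m : ℕ) (c : F) :
    gau (H79.qOddC m F c) = gau (qOne c) * (Fintype.card F : ℂ) ^ m := by
  rw [gau_congr (iso_oddC_prod m c), gau_prod,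
    gau_plus (m := m) (qPlus_nondegenerate m) (by simp [two_mul]) (H79.isPlus_plus m)]

open Classical in
/-- The type of a quadratic space: `0` or `1`. -/
noncomputable def tpw (Q : QuadraticForm F V) : ℕ :=
  if gau Q = (Fintype.card F : ℂ) ^ (finrank F V / 2) * gOne F ^ (finrank F V % 2) then 0 else 1

omit [FiniteDimensional F V] in
theorem tpw_lt (Q : QuadraticForm F V) : tpw Q < 2 := by unfold tpw; split_ifs <;> omega

omit [FiniteDimensional F V] [FiniteDimensional F V'] in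
theorem tpw_congr {Q' : QuadraticForm F V'} (h : H79.Iso (F := F) Q Q') : tpw Q = tpw Q' := by
  have h1 := gau_congr h
  obtain ⟨e, -⟩ := h
  rw [tpw, tpw, h1, e.finrank_eq]

theorem two_ne_zero_of_odd (hQ : (polarBilin Q).Nondegenerate) (h : Odd (finrank F V)) :
    (2 : F) ≠ 0 := by
  obtain ⟨m, hm⟩ := h
  exact (H79.iso_odd hm Q ((H79.nd_iff Q).1 hQ)).1

theorem ne_neg_self_complex {a : ℂ} (ha : a ≠ 0) : -a ≠ a := fun h =>
  ha (by linear_combination (-1 / 2 : ℂ) * h)

theorem tpw_eq_zero_iff (hQ : (polarBilin Q).Nondegenerate) (h : Even (finrank F V)) :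
    tpw Q = 0 ↔ H79.IsPlus (F := F) Q := by
  obtain ⟨m, hm⟩ := h
  have hm' : finrank F V = 2 * m := by omega
  have h1 : finrank F V / 2 = m := by omega
  have h2 : finrank F V % 2 = 0 := by omega
  rw [tpw, h1, h2, pow_zero, mul_one]
  by_cases hp : H79.IsPlus (F := F) Q
  · simp [hp, gau_plus hQ hm' hp]
  · rw [gau_minus hQ hm' hp, if_neg (ne_neg_self_complex (pow_ne_zero _ card_ne_zero_complex))]
    simp [hp]

theorem tpw_oddC (h2 : (2 : F) ≠ 0) (m : ℕ) {c : F} (hc : c ≠ 0) :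
    tpw (H79.qOddC m F c) = 0 ↔ IsSquare c := by
  have h0 : finrank F (Unit ⊕ (Fin m ⊕ Fin m) → F) = 2 * m + 1 := by simp; omega
  have h1 : (2 * m + 1) / 2 = m := by omega
  have h3 : (2 * m + 1) % 2 = 1 := by omega
  rw [tpw, h0, h1, h3, pow_one, gau_oddC, gau_qOne h2 hc, mul_comm]
  by_cases hs : IsSquare c
  · simp [hs]
  · rw [if_neg hs, mul_neg, if_neg (ne_neg_self_complex
      (mul_ne_zero (pow_ne_zero _ card_ne_zero_complex) (gOne_ne_zero h2)))]
    simp [hs]

theorem gau_eq_tpw (hQ : (polarBilin Q).Nondegenerate) : gau Q = (-1) ^ tpw Q *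
    ((Fintype.card F : ℂ) ^ (finrank F V / 2) * gOne F ^ (finrank F V % 2)) := by
  suffices h : gau Q = (Fintype.card F : ℂ) ^ (finrank F V / 2) * gOne F ^ (finrank F V % 2) ∨
      gau Q = -((Fintype.card F : ℂ) ^ (finrank F V / 2) * gOne F ^ (finrank F V % 2)) by
    unfold tpw
    split_ifs with h1
    · simpa using h1
    · simpa using h.resolve_left h1
  obtain ⟨m, hm | hm⟩ := Nat.even_or_odd' (finrank F V)
  · have h1 : finrank F V / 2 = m := by omega
    have h2 : finrank F V % 2 = 0 := by omega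
    rw [h1, h2, pow_zero, mul_one]
    by_cases hp : H79.IsPlus (F := F) Q
    · exact Or.inl (gau_plus hQ hm hp)
    · exact Or.inr (gau_minus hQ hm hp)
  · have h1 : finrank F V / 2 = m := by omega
    have h2 : finrank F V % 2 = 1 := by omega
    obtain ⟨h3, c, hc, h⟩ := H79.iso_odd hm Q ((H79.nd_iff Q).1 hQ)
    rw [h1, h2, pow_one, gau_congr h, gau_oddC, gau_qOne h3 hc, mul_comm]
    split_ifs <;> simp

theorem mod_two_eq_of_neg_one_pow {a b : ℕ} (h : (-1 : ℂ) ^ a = (-1) ^ b) : a % 2 = b % 2 := by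
  rw [neg_one_pow_eq_pow_mod_two, neg_one_pow_eq_pow_mod_two (n := b)] at h
  rcases Nat.mod_two_eq_zero_or_one a with h1 | h1 <;>
    rcases Nat.mod_two_eq_zero_or_one b with h2 | h2 <;> rw [h1, h2] at h ⊢ <;> norm_num at h

omit [Fintype F] [FiniteDimensional F V] [FiniteDimensional F V'] in
theorem nondeg_prod {Q' : QuadraticForm F V'} (hQ : (polarBilin Q).Nondegenerate)
    (hQ' : (polarBilin Q').Nondegenerate) : (polarBilin (Q.prod Q')).Nondegenerate :=
  nondegenerate_of_forall fun x hx => Prod.ext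
    (eq_zero_of_polar hQ fun y => by simpa [polar_prod] using hx (y, 0))
    (eq_zero_of_polar hQ' fun y => by simpa [polar_prod] using hx (0, y))

theorem tpw_prod {Q' : QuadraticForm F V'} (hQ : (polarBilin Q).Nondegenerate)
    (hQ' : (polarBilin Q').Nondegenerate) : tpw (Q.prod Q') % 2 =
      (tpw Q + tpw Q' + hh F * (finrank F V % 2 * (finrank F V' % 2))) % 2 := by
  have h := gau_prod Q Q'
  rw [gau_eq_tpw (nondeg_prod hQ hQ'), gau_eq_tpw hQ, gau_eq_tpw hQ', finrank_prod] at h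
  apply mod_two_eq_of_neg_one_pow
  have hq : (Fintype.card F : ℂ) ≠ 0 := card_ne_zero_complex
  obtain ⟨m, hm | hm⟩ := Nat.even_or_odd' (finrank F V) <;>
    obtain ⟨k, hk | hk⟩ := Nat.even_or_odd' (finrank F V')
  · rw [hm, hk, show (2 * m + 2 * k) / 2 = m + k by omega, show (2 * m + 2 * k) % 2 = 0 by omega,
      show 2 * m / 2 = m by omega, show 2 * k / 2 = k by omega, show 2 * m % 2 = 0 by omega,
      show 2 * k % 2 = 0 by omega] at h
    rw [hm, hk, show 2 * m % 2 = 0 by omega]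
    apply mul_right_cancel₀ (pow_ne_zero (m + k) hq)
    linear_combination h
  · have hg := gOne_ne_zero (two_ne_zero_of_odd hQ' ⟨k, hk⟩)
    rw [hm, hk, show (2 * m + (2 * k + 1)) / 2 = m + k by omega,
      show (2 * m + (2 * k + 1)) % 2 = 1 by omega,
      show 2 * m / 2 = m by omega, show (2 * k + 1) / 2 = k by omega, show 2 * m % 2 = 0 by omega,
      show (2 * k + 1) % 2 = 1 by omega] at h
    rw [hm, hk, show 2 * m % 2 = 0 by omega]
    apply mul_right_cancel₀ (mul_ne_zero (pow_ne_zero (m + k) hq) hg)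
    linear_combination h
  · have hg := gOne_ne_zero (two_ne_zero_of_odd hQ ⟨m, hm⟩)
    rw [hm, hk, show (2 * m + 1 + 2 * k) / 2 = m + k by omega,
      show (2 * m + 1 + 2 * k) % 2 = 1 by omega,
      show (2 * m + 1) / 2 = m by omega, show 2 * k / 2 = k by omega,
      show (2 * m + 1) % 2 = 1 by omega, show 2 * k % 2 = 0 by omega] at h
    rw [hm, hk, show 2 * k % 2 = 0 by omega]
    apply mul_right_cancel₀ (mul_ne_zero (pow_ne_zero (m + k) hq) hg)
    linear_combination h
  · have hg := gOne_sq (two_ne_zero_of_odd hQ ⟨m, hm⟩)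
    rw [hm, hk, show (2 * m + 1 + (2 * k + 1)) / 2 = m + k + 1 by omega,
      show (2 * m + 1 + (2 * k + 1)) % 2 = 0 by omega,
      show (2 * m + 1) / 2 = m by omega, show (2 * k + 1) / 2 = k by omega,
      show (2 * m + 1) % 2 = 1 by omega, show (2 * k + 1) % 2 = 1 by omega] at h
    rw [hm, hk, show (2 * m + 1) % 2 = 1 by omega, show (2 * k + 1) % 2 = 1 by omega]
    apply mul_right_cancel₀ (pow_ne_zero (m + k + 1) hq)
    linear_combination h + (-1 : ℂ) ^ (tpw Q + tpw Q') * (Fintype.card F : ℂ) ^ (m + k) * hg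

theorem iso_of_tpw {Q' : QuadraticForm F V'} (hQ : (polarBilin Q).Nondegenerate)
    (hQ' : (polarBilin Q').Nondegenerate) (hd : finrank F V = finrank F V')
    (h : tpw Q % 2 = tpw Q' % 2) : H79.Iso (F := F) Q Q' := by
  have h0 : tpw Q = 0 ↔ tpw Q' = 0 := by
    have := tpw_lt Q; have := tpw_lt Q'; omega
  obtain ⟨m, hm | hm⟩ := Nat.even_or_odd' (finrank F V)
  · refine H79.iso_of_isPlus_iff hm (hd ▸ hm) Q ((H79.nd_iff Q).1 hQ) Q' ((H79.nd_iff Q').1 hQ') ?_
    rwa [← tpw_eq_zero_iff hQ ⟨m, by omega⟩, ← tpw_eq_zero_iff hQ' ⟨m, by omega⟩]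
  · obtain ⟨h2, c, hc, h3⟩ := H79.iso_odd hm Q ((H79.nd_iff Q).1 hQ)
    obtain ⟨-, c', hc', h4⟩ := H79.iso_odd (hd ▸ hm) Q' ((H79.nd_iff Q').1 hQ')
    rw [tpw_congr h3, tpw_congr h4, tpw_oddC h2 m hc, tpw_oddC h2 m hc'] at h0
    exact (h3.trans (H79.iso_oddC ((H79.isSquare_mul_iff hc hc').2 h0) hc hc')).trans h4.symm

theorem exists_fin_of_iso (hQ : (polarBilin Q).Nondegenerate) {n : ℕ} (hn : finrank F V = n) :
    ∃ Q' : QuadraticForm F (Fin n → F), (polarBilin Q').Nondegenerate ∧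
      H79.Iso (F := F) Q' Q := by
  let e : (Fin n → F) ≃ₗ[F] V := LinearEquiv.ofFinrankEq _ _ (by simp [hn])
  exact ⟨Q.comp e.toLinearMap, (H79.nd_iff _).2
    (((H79.nd_iff Q).1 hQ).of_equiv e.symm fun v => by simp), e, fun _ => rfl⟩

/-- Existence of a space of given dimension and type. -/
theorem exists_model (n δ : ℕ) (h0 : n = 0 → δ % 2 = 0) (h2 : (2 : F) = 0 → Even n) :
    ∃ Q : QuadraticForm F (Fin n → F), (polarBilin Q).Nondegenerate ∧ tpw Q % 2 = δ % 2 := by
  suffices h : ∃ (ι : Type) (_ : Fintype ι) (Q : QuadraticForm F (ι → F)),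
      (polarBilin Q).Nondegenerate ∧ Fintype.card ι = n ∧ tpw Q % 2 = δ % 2 by
    obtain ⟨ι, _, Q, hQ, hn, h⟩ := h
    obtain ⟨Q', hQ', h'⟩ := exists_fin_of_iso hQ (n := n) (by simpa using hn)
    exact ⟨Q', hQ', tpw_congr h' ▸ h⟩
  obtain ⟨m, rfl | rfl⟩ := Nat.even_or_odd' n
  · rcases Nat.mod_two_eq_zero_or_one δ with h | h
    · refine ⟨_, inferInstance, qPlus F m, qPlus_nondegenerate m, by simp [two_mul], ?_⟩
      rw [(tpw_eq_zero_iff (qPlus_nondegenerate m) (by simp)).2 (H79.isPlus_plus m), h]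
    · obtain ⟨ζ, hζ⟩ := H79.exists_aniso F
      have hQ := qMinus_nondegenerate (m - 1) hζ
      refine ⟨_, inferInstance, qMinus F (m - 1) 1 ζ, hQ, by simp; omega, ?_⟩
      have h3 := (tpw_eq_zero_iff hQ (by simp [Nat.even_add])).not.2
        (H79.not_isPlus_minus (m - 1) hζ)
      have := tpw_lt (qMinus F (m - 1) 1 ζ)
      omega
  · have h3 : (2 : F) ≠ 0 := fun h => by have := h2 h; simp [Nat.even_add] at this
    obtain ⟨c, hc, h4⟩ : ∃ c : F, c ≠ 0 ∧ (IsSquare c ↔ δ % 2 = 0) := by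
      rcases Nat.mod_two_eq_zero_or_one δ with h | h
      · exact ⟨1, one_ne_zero, by simp [h]⟩
      · obtain ⟨c, hc⟩ := FiniteField.exists_nonsquare (ringChar_ne_two h3)
        exact ⟨c, fun h0 => hc (h0 ▸ IsSquare.zero), by simp [h, hc]⟩
    refine ⟨_, inferInstance, H79.qOddC m F c, (H79.nd_iff _).2 (H79.nd_qOddC m h3 hc),
      by simp; omega, ?_⟩
    have h5 := tpw_oddC h3 m hc
    have := tpw_lt (H79.qOddC m F c)
    rw [h4] at h5
    omega

end Whole

section Sub

variable {F V V' : Type*} [Field F] [AddCommGroup V] [Module F V]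
  [AddCommGroup V'] [Module F V'] {Q : QuadraticForm F V} {Q' : QuadraticForm F V'}
  {U W C : Submodule F V}

theorem polar_of_map {e : V' →ₗ[F] V} (he : ∀ v, Q (e v) = Q' v) (x y : V') :
    polar Q (e x) (e y) = polar Q' x y := H79.polar_of_isometry e he x y

theorem ndOn_map {e : V' →ₗ[F] V} (he : ∀ v, Q (e v) = Q' v) {W' : Submodule F V'}
    (h : NondegOn Q' W') : NondegOn Q (W'.map e) := by
  rintro _ ⟨x, hx, rfl⟩ hx'
  rw [h x hx fun y hy => (polar_of_map he x y).symm.trans (hx' _ ⟨y, hy, rfl⟩), map_zero]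

theorem ndOn_bot : NondegOn Q ⊥ := fun _ hx _ => hx

theorem ndOn_disjoint (hU : NondegOn Q U) (h : W ≤ perp Q U) : Disjoint U W :=
  Submodule.disjoint_def.2 fun x hx hx' => hU x hx (mem_perp'.1 (h hx'))

theorem ndOn_sup (hU : NondegOn Q U) (hW : NondegOn Q W) (h : W ≤ perp Q U) :
    NondegOn Q (U ⊔ W) := fun x hx hx' => by
  obtain ⟨u, hu, w, hw, rfl⟩ := Submodule.mem_sup.1 hx
  rw [hU u hu fun y hy => by
      simpa [polar_add_left, mem_perp'.1 (h hw) y hy] using hx' y (Submodule.mem_sup_left hy),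
    hW w hw fun y hy => by
      simpa [polar_add_left, mem_perp.1 (h hy) u hu] using hx' y (Submodule.mem_sup_right hy),
    add_zero]

theorem ndOn_of_sup (hX : NondegOn Q (U ⊔ W)) (h : W ≤ perp Q U) : NondegOn Q U :=
  fun x hx hx' => hX x (Submodule.mem_sup_left hx) fun y hy => by
    obtain ⟨u, hu, w, hw, rfl⟩ := Submodule.mem_sup.1 hy
    rw [polar_add_right, hx' u hu, mem_perp.1 (h hw) x hx, add_zero]

theorem ndOn_of_sup' (hX : NondegOn Q (U ⊔ W)) (h : W ≤ perp Q U) : NondegOn Q W :=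
  ndOn_of_sup (sup_comm U W ▸ hX) (le_perp_comm.1 h)

theorem iso_map {e : V' →ₗ[F] V} (hi : Function.Injective e) (he : ∀ v, Q (e v) = Q' v)
    (W' : Submodule F V') : H79.Iso (F := F) (Q'.restrict W') (Q.restrict (W'.map e)) :=
  ⟨Submodule.equivMapOfInjective e hi W', fun v => he v⟩

theorem iso_sup (hd : Disjoint U W) (h : W ≤ perp Q U) :
    H79.Iso (F := F) ((Q.restrict U).prod (Q.restrict W)) (Q.restrict (U ⊔ W)) := by
  have hi : Function.Injective (U.subtype.coprod W.subtype) :=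
    LinearMap.ker_eq_bot.1 (by
      rw [LinearMap.ker_coprod_of_disjoint_range _ _ (by simpa using hd)]; simp)
  refine ⟨(LinearEquiv.ofInjective _ hi).trans (LinearEquiv.ofEq _ _ (by
    rw [LinearMap.range_coprod]; simp)), fun v => ?_⟩
  change Q (v.1 + v.2) = Q v.1 + Q v.2
  rw [Q_add, mem_perp.1 (h v.2.2) _ v.1.2, add_zero]

variable [FiniteDimensional F V]

theorem finrank_sup_of_disjoint (hd : Disjoint U W) :
    finrank F ↥(U ⊔ W) = finrank F U + finrank F W := by
  rw [← Submodule.finrank_sup_add_finrank_inf_eq, hd.eq_bot, finrank_bot, add_zero]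

theorem finrank_sup_perp (hU : NondegOn Q U) (h : W ≤ perp Q U) :
    finrank F ↥(U ⊔ W) = finrank F U + finrank F W :=
  finrank_sup_of_disjoint (ndOn_disjoint hU h)

theorem sup_inf_perp (hU : NondegOn Q U) (h : U ≤ W) : U ⊔ W ⊓ perp Q U = W := by
  rw [inf_comm, ← sup_inf_assoc_of_le _ h, hU.isCompl.sup_eq_top, top_inf_eq]

theorem ndOn_inf_perp (hU : NondegOn Q U) (hW : NondegOn Q W) (h : U ≤ W) :
    NondegOn Q (W ⊓ perp Q U) :=
  ndOn_of_sup' ((sup_inf_perp hU h).symm ▸ hW) inf_le_right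

theorem even_finrank_of_two (h2 : (2 : F) = 0) [Fintype F] (hW : NondegOn Q W) :
    Even (finrank F W) :=
  Nat.not_odd_iff_even.1 fun h => two_ne_zero_of_odd hW.restrict h h2

theorem two_mul_le_of_ts (hW : NondegOn Q W) (h : U ≤ W) (hU : ∀ u ∈ U, Q u = 0) :
    2 * finrank F U ≤ finrank F W := by
  have h1 := finrank_add_finrank_perp hW.restrict (U.comap W.subtype)
  have h2 := Submodule.finrank_mono (H79.le_perp_of_sing (Q := Q.restrict W) (U := U.comap W.subtype)
    fun u hu => hU u hu)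
  rw [(Submodule.comapSubtypeEquivOfLe h).finrank_eq] at h1 h2
  omega

variable [Fintype F]

/-- The type of a subspace. -/
noncomputable def tp (Q : QuadraticForm F V) (W : Submodule F V) : ℕ := tpw (Q.restrict W)

omit [FiniteDimensional F V] in
theorem tp_lt (Q : QuadraticForm F V) (W : Submodule F V) : tp Q W < 2 := tpw_lt _

omit [FiniteDimensional F V] in
theorem tp_top : tp Q ⊤ = tpw Q := tpw_congr ⟨Submodule.topEquiv, fun _ => rfl⟩

omit [FiniteDimensional F V] in
theorem tp_map {e : V' →ₗ[F] V} (hi : Function.Injective e) (he : ∀ v, Q (e v) = Q' v)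
    (W' : Submodule F V') : tp Q (W'.map e) = tp Q' W' := (tpw_congr (iso_map hi he W')).symm

omit [FiniteDimensional F V] in
theorem tp_range {e : V' →ₗ[F] V} (hi : Function.Injective e) (he : ∀ v, Q (e v) = Q' v) :
    tp Q (LinearMap.range e) = tpw Q' := by
  rw [LinearMap.range_eq_map, tp_map hi he, tp_top]

theorem tp_sup (hU : NondegOn Q U) (hW : NondegOn Q W) (h : W ≤ perp Q U) :
    tp Q (U ⊔ W) % 2 = (tp Q U + tp Q W + hh F * (finrank F U % 2 * (finrank F W % 2))) % 2 := by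
  rw [tp, ← tpw_congr (iso_sup (ndOn_disjoint hU h) h), tpw_prod hU.restrict hW.restrict]
  rfl

theorem tp_sup_even (hU : NondegOn Q U) (hW : NondegOn Q W) (h : W ≤ perp Q U)
    (he : Even (finrank F U) ∨ Even (finrank F W)) :
    tp Q (U ⊔ W) % 2 = (tp Q U + tp Q W) % 2 := by
  rw [tp_sup hU hW h]
  rcases he with he | he <;> simp [Nat.even_iff.1 he]

theorem tp_perp (hU : NondegOn Q U) (hW : NondegOn Q W) (h : U ≤ W) :
    tp Q W % 2 = (tp Q U + tp Q (W ⊓ perp Q U) +
      hh F * (finrank F U % 2 * (finrank F ↥(W ⊓ perp Q U) % 2))) % 2 ∧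
    finrank F W = finrank F U + finrank F ↥(W ⊓ perp Q U) := by
  rw [← tp_sup hU (ndOn_inf_perp hU hW h) inf_le_right,
    ← finrank_sup_perp hU inf_le_right, sup_inf_perp hU h]
  exact ⟨rfl, rfl⟩

omit [Fintype F] in
theorem isPlus_restrict_iff : H79.IsPlus (F := F) (Q.restrict W) ↔
    ∃ U ≤ W, (∀ u ∈ U, Q u = 0) ∧ 2 * finrank F U = finrank F W := by
  constructor
  · rintro ⟨U, h1, h2⟩
    refine ⟨U.map W.subtype, Submodule.map_subtype_le _ _, ?_, ?_⟩
    · rintro _ ⟨u, hu, rfl⟩; exact h2 u hu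
    · rwa [Submodule.finrank_map_subtype_eq]
  · rintro ⟨U, h1, h2, h3⟩
    exact ⟨U.comap W.subtype, by rwa [(Submodule.comapSubtypeEquivOfLe h1).finrank_eq],
      fun u hu => h2 u hu⟩

theorem tp_eq_zero_iff (hW : NondegOn Q W) (h : Even (finrank F W)) :
    tp Q W = 0 ↔ ∃ U ≤ W, (∀ u ∈ U, Q u = 0) ∧ 2 * finrank F U = finrank F W :=
  (tpw_eq_zero_iff hW.restrict h).trans isPlus_restrict_iff

theorem tp_eq_zero_of_ts (hW : NondegOn Q W) (h : U ≤ W) (hU : ∀ u ∈ U, Q u = 0)
    (hd : finrank F W ≤ 2 * finrank F U) : tp Q W = 0 := by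
  have := two_mul_le_of_ts hW h hU
  exact (tp_eq_zero_iff hW ⟨finrank F U, by omega⟩).2 ⟨U, h, hU, by omega⟩

theorem tp_eq_zero_of_finrank (h : finrank F W = 0) : tp Q W = 0 := by
  obtain rfl := Submodule.finrank_eq_zero.1 h
  exact tp_eq_zero_of_ts ndOn_bot le_rfl (by simp) (by simp)

theorem iso_of_tp [FiniteDimensional F V'] {W' : Submodule F V'} (hW : NondegOn Q W)
    (hW' : NondegOn Q' W') (hd : finrank F W = finrank F W') (h : tp Q W % 2 = tp Q' W' % 2) :
    ∃ e : W ≃ₗ[F] W', ∀ w : W, Q' (e w) = Q w := iso_of_tpw hW.restrict hW'.restrict hd h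

omit [FiniteDimensional F V] in
theorem tp_eq_of_iso {W' : Submodule F V'} (e : W ≃ₗ[F] W') (he : ∀ w : W, Q' (e w) = Q w) :
    tp Q W = tp Q' W' := tpw_congr (Q := Q.restrict W) (Q' := Q'.restrict W') ⟨e, he⟩

theorem exists_embed [FiniteDimensional F V'] (hW : NondegOn Q W)
    (hQ' : (polarBilin Q').Nondegenerate) (hd : finrank F V' = finrank F W)
    (h : tpw Q' % 2 = tp Q W % 2) : ∃ e : V' →ₗ[F] V, Function.Injective e ∧
      LinearMap.range e = W ∧ ∀ v, Q (e v) = Q' v := by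
  obtain ⟨e, he⟩ := iso_of_tpw hQ' hW.restrict hd h
  exact ⟨W.subtype ∘ₗ e.toLinearMap, W.injective_subtype.comp e.injective, by
    rw [LinearMap.range_comp, LinearEquiv.range, Submodule.map_top, Submodule.range_subtype], he⟩

theorem exists_O_map_of_tp (hQ : (polarBilin Q).Nondegenerate) (hU : NondegOn Q U)
    (hW : NondegOn Q W) (hd : finrank F U = finrank F W) (h : tp Q U % 2 = tp Q W % 2) :
    ∃ g : O Q, U.map (g.1 : V →ₗ[F] V) = W := by
  obtain ⟨e, he⟩ := iso_of_tp hU hW hd h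
  exact H79.exists_O_map_eq hQ e he

/-- A space of dimension `n`, type `ε` has a nondegenerate subspace of dimension `m`, type `δ`. -/
def Subx (n ε m δ : ℕ) : Prop := m ≤ n ∧ (m = 0 → δ % 2 = 0) ∧ (m = n → δ % 2 = ε % 2)

/-- A space of dimension `n`, type `ε` has a totally singular subspace of dimension `m`. -/
def TSx (n ε m : ℕ) : Prop := 2 * m ≤ n ∧ (2 * m = n → ε % 2 = 0)

theorem exists_sub_iff (hC : NondegOn Q C) {m δ : ℕ} (h2 : (2 : F) = 0 → Even m) :
    (∃ W ≤ C, NondegOn Q W ∧ finrank F W = m ∧ tp Q W % 2 = δ % 2) ↔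
      Subx (finrank F C) (tp Q C) m δ := by
  constructor
  · rintro ⟨W, h1, -, rfl, h3⟩
    refine ⟨Submodule.finrank_mono h1, fun h => ?_, fun h => ?_⟩
    · rw [← h3, tp_eq_zero_of_finrank h]
    · rw [← h3, Submodule.eq_of_le_of_finrank_eq h1 h]
  · rintro ⟨h1, h3, h4⟩
    obtain ⟨Q₁, hQ₁, h5⟩ := exists_model (F := F) m δ h3 h2
    obtain ⟨Q₂, hQ₂, h6⟩ := exists_model (F := F) (finrank F C - m)
      (tp Q C + δ + hh F * (m % 2 * ((finrank F C - m) % 2)))
      (fun h => by have := h4 (by omega); rw [h]; simp; omega)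
      (fun h => (Nat.even_sub h1).2 (iff_of_true (even_finrank_of_two h hC) (h2 h)))
    obtain ⟨e, he, hr, hQ⟩ := exists_embed hC (nondeg_prod hQ₁ hQ₂) (by simp; omega) (by
      rw [tpw_prod hQ₁ hQ₂]
      simp only [finrank_fin_fun]
      omega)
    have hi : Function.Injective (e ∘ₗ LinearMap.inl F _ _) := he.comp LinearMap.inl_injective
    have hQ' : ∀ v, Q ((e ∘ₗ LinearMap.inl F _ _) v) = Q₁ v := fun v => by simp [hQ]
    refine ⟨LinearMap.range (e ∘ₗ LinearMap.inl F _ _),
      (LinearMap.range_comp_le_range _ _).trans hr.le, ?_, ?_, ?_⟩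
    · rw [LinearMap.range_eq_map]; exact ndOn_map hQ' (nondegOn_top hQ₁)
    · rw [LinearMap.finrank_range_of_inj hi, finrank_fin_fun]
    · rw [tp_range hi hQ', h5]

theorem exists_ts_iff (hC : NondegOn Q C) {m : ℕ} :
    (∃ U ≤ C, finrank F U = m ∧ ∀ u ∈ U, Q u = 0) ↔ TSx (finrank F C) (tp Q C) m := by
  constructor
  · rintro ⟨U, h1, rfl, h2⟩
    exact ⟨two_mul_le_of_ts hC h1 h2, fun h => by rw [tp_eq_zero_of_ts hC h1 h2 h.ge]⟩
  · rintro ⟨h1, h2⟩
    rcases h1.lt_or_eq with h | h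
    · obtain ⟨U, h3, h4⟩ := H79.exists_sing_finrank hC.restrict h
      refine ⟨U.map C.subtype, Submodule.map_subtype_le _ _,
        by rwa [Submodule.finrank_map_subtype_eq], ?_⟩
      rintro _ ⟨u, hu, rfl⟩; exact h4 u hu
    · have := tp_lt Q C
      obtain ⟨U, h3, h4, h5⟩ := (tp_eq_zero_iff hC ⟨m, by omega⟩).1 (by have := h2 h; omega)
      exact ⟨U, h3, by omega, h4⟩

end Sub

end Cfsg.Agent.H28
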