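import Mathlib
import Cfsg.Agent.H28.EloG
import Cfsg.Agent.H28.EloData

/-! Invariant subspaces of isometries of odd prime order prime to the characteristic. -/

set_option autoImplicit false

namespace Cfsg.Agent.H28

open H30 QuadraticMap Module
open H76 (IsEForm Pres isEForm_polar Adm frob)
open H77 (HasJ HasJOn fixS comS)

variable {F V V' : Type*} [Field F] [AddCommGroup V] [Module F V]
  [AddCommGroup V'] [Module F V'] {Q : QuadraticForm F V} {Q' : QuadraticForm F V'}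
  {U W C M : Submodule F V}

/-- `W` is invariant under `g`. -/
def Inv (g : O Q) (W : Submodule F V) : Prop := ∀ v ∈ W, g.1 v ∈ W

theorem pres_O (g : O Q) : Pres (polarBilin Q) (g.1 : V →ₗ[F] V) := fun v w => O_polar g v w

theorem perp31 (W : Submodule F V) : H31.perp (polarBilin Q) W = perp Q W :=
  Submodule.ext fun _ => H31.mem_perp.trans mem_perp.symm

theorem Inv.inf {g : O Q} (hU : Inv g U) (hW : Inv g W) : Inv g (U ⊓ W) :=
  fun v hv => ⟨hU v hv.1, hW v hv.2⟩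

theorem Inv.sup {g : O Q} (hU : Inv g U) (hW : Inv g W) : Inv g (U ⊔ W) := fun v hv => by
  obtain ⟨u, hu, w, hw, rfl⟩ := Submodule.mem_sup.1 hv
  rw [map_add]
  exact Submodule.add_mem_sup (hU u hu) (hW w hw)

theorem inv_of_le_fixSp {g : O Q} (h : W ≤ fixSp g) : Inv g W := fun v hv => by
  rwa [mem_fixSp.1 (h hv)]

theorem inv_movSp (g : O Q) : Inv g (movSp g) := by
  rintro _ ⟨u, rfl⟩
  exact ⟨g.1 u, by simp⟩

theorem Inv.pow {g : O Q} (h : Inv g W) (k : ℕ) : Inv (g ^ k) W := by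
  induction k with
  | zero => exact fun v hv => hv
  | succ k ih => exact fun v hv => by rw [pow_succ]; exact ih _ (h v hv)

theorem inv_negOne_mul {g : O Q} : Inv (negOne Q * g) W ↔ Inv g W :=
  forall₂_congr fun _ _ => neg_mem_iff

theorem coe_O_pow (g : O Q) (k : ℕ) :
    ((g ^ k).1 : V →ₗ[F] V) = (g.1 : V →ₗ[F] V) ^ k := by
  induction k with
  | zero => rfl
  | succ k ih => rw [pow_succ, pow_succ, ← ih]; rfl

theorem disjoint_fix_mov {g : O Q} {r : ℕ} (hr : (r : F) ≠ 0) (h : g ^ r = 1) :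
    Disjoint (fixSp g) (movSp g) := Submodule.disjoint_def.2 fun v hv hv' => by
  obtain ⟨u, hu⟩ := mem_movSp.1 hv'
  have h1 : ∀ k : ℕ, (g ^ k).1 u = u + (k : F) • v := fun k => by
    induction k with
    | zero => simp
    | succ k ih =>
      rw [pow_succ', O_mul_apply, ih, map_add, map_smul, mem_fixSp.1 hv, Nat.cast_succ,
        add_smul, one_smul, ← hu]
      abel
  have h2 := h1 r
  rw [h, O_one_apply, left_eq_add] at h2
  exact (smul_eq_zero.1 h2).resolve_left hr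

theorem mem_kerDS_of_odd [FiniteDimensional F V] (hQ : (polarBilin Q).Nondegenerate) {g : O Q}
    {r : ℕ} (hr : Odd r) (h : g ^ r = 1) : g ∈ kerDS hQ :=
  ⟨H76.eq_one_of_odd_pow (Int.units_sq _) hr (by rw [← map_pow, h, map_one]),
    H76.eq_one_of_odd_pow (by rw [_root_.sq, sqCl_mul_self]) hr (by rw [← map_pow, h, map_one])⟩

variable [FiniteDimensional F V]

theorem Inv.perp {g : O Q} (h : Inv g W) : Inv g (perp Q W) := perp_mem_of_forall_mem g W h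

theorem ndOn_fix_mov (hQ : (polarBilin Q).Nondegenerate) {g : O Q}
    (h : Disjoint (fixSp g) (movSp g)) : NondegOn Q (fixSp g) ∧ NondegOn Q (movSp g) := by
  have h1 : NondegOn Q (fixSp g) := fun x hx hx' => Submodule.disjoint_def.1 h x hx
    (perp_fixSp hQ g ▸ mem_perp'.2 hx')
  exact ⟨h1, perp_fixSp hQ g ▸ h1.perp hQ⟩

theorem Inv.split {g : O Q} (h : Disjoint (fixSp g) (movSp g)) (hW : Inv g W) :
    W ⊓ fixSp g ⊔ W ⊓ movSp g = W := by
  refine Submodule.eq_of_le_of_finrank_le (sup_le inf_le_left inf_le_left) ?_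
  rw [finrank_sup_of_disjoint (h.mono inf_le_right inf_le_right)]
  let N : W →ₗ[F] V := ((g.1 : V →ₗ[F] V) - LinearMap.id) ∘ₗ W.subtype
  have h1 := N.finrank_range_add_finrank_ker
  have h2 : LinearMap.range N ≤ W ⊓ movSp g := by
    rintro _ ⟨w, rfl⟩
    exact ⟨W.sub_mem (hW w w.2) w.2, ⟨w, rfl⟩⟩
  have h3 : (LinearMap.ker N).map W.subtype ≤ W ⊓ fixSp g := by
    rintro _ ⟨w, hw, rfl⟩
    exact ⟨w.2, hw⟩
  have h4 := Submodule.finrank_mono h2
  have h5 := Submodule.finrank_mono h3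
  rw [Submodule.finrank_map_subtype_eq] at h5
  omega

theorem finrank_movSp_pos {g : O Q} (h : g ≠ 1) : 0 < finrank F (movSp g) :=
  Nat.pos_of_ne_zero fun h0 => h (O_ext fun v => sub_eq_zero.1
    ((Submodule.finrank_eq_zero.1 h0).le (mem_movSp.2 ⟨v, rfl⟩)))

theorem ts_of_totIso {g : O Q} (hU : Inv g U) (h : Disjoint (fixSp g) U)
    (h' : H31.TotIso (polarBilin Q) U) : ∀ u ∈ U, Q u = 0 := fun u hu => by
  let N : U →ₗ[F] U := ((g.1 : V →ₗ[F] V) - LinearMap.id).restrict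
    fun v hv => U.sub_mem (hU v hv) hv
  have h1 : Function.Injective N := (injective_iff_map_eq_zero _).2 fun v hv =>
    Subtype.ext (Submodule.disjoint_def.1 h v (congrArg Subtype.val hv) v.2)
  obtain ⟨v, hv⟩ := LinearMap.injective_iff_surjective.1 h1 ⟨u, hu⟩
  obtain rfl : g.1 v - v = u := congrArg Subtype.val hv
  rw [← neg_sub, QuadraticMap.map_neg, ← H76.polar_sub_self]
  exact h' _ v.2 _ (U.sub_mem v.2 (hU v v.2))

theorem ts_split_iff (hQ : (polarBilin Q).Nondegenerate) {g : O Q}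
    (h : Disjoint (fixSp g) (movSp g)) (m : ℕ) :
    (∃ W : Submodule F V, finrank F W = m ∧ (∀ w ∈ W, Q w = 0) ∧ Inv g W) ↔
      ∃ m₁ m₂, m₁ + m₂ = m ∧ (∃ U ≤ fixSp g, finrank F U = m₁ ∧ ∀ w ∈ U, Q w = 0) ∧
        ∃ U ≤ movSp g, finrank F U = m₂ ∧ (∀ w ∈ U, Q w = 0) ∧ Inv g U := by
  constructor
  · rintro ⟨W, rfl, h1, h2⟩
    refine ⟨_, _, ?_, ⟨W ⊓ fixSp g, inf_le_right, rfl, fun w hw => h1 w hw.1⟩,
      W ⊓ movSp g, inf_le_right, rfl, fun w hw => h1 w hw.1, h2.inf (inv_movSp g)⟩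
    rw [← finrank_sup_of_disjoint (h.mono inf_le_right inf_le_right), h2.split h]
  · rintro ⟨_, _, rfl, ⟨U, h1, rfl, h2⟩, W, h3, rfl, h4, h5⟩
    refine ⟨U ⊔ W, finrank_sup_of_disjoint (h.mono h1 h3), fun x hx => ?_,
      (inv_of_le_fixSp h1).sup h5⟩
    obtain ⟨u, hu, w, hw, rfl⟩ := Submodule.mem_sup.1 hx
    rw [Q_add, h2 u hu, h4 w hw, mem_perp.1 (perp_fixSp hQ g ▸ h3 hw) u (h1 hu)]
    simp

variable [Fintype F]

/-- `W` is nondegenerate of dimension `m` and type `δ`. -/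
def NDT (Q : QuadraticForm F V) (m δ : ℕ) (W : Submodule F V) : Prop :=
  NondegOn Q W ∧ finrank F W = m ∧ tp Q W % 2 = δ % 2

theorem exists_ndt_iff (hC : NondegOn Q C) {m δ : ℕ} (h2 : (2 : F) = 0 → Even m) :
    (∃ W ≤ C, NDT Q m δ W) ↔ Subx (finrank F C) (tp Q C) m δ := exists_sub_iff hC h2

theorem nd_split_iff (hQ : (polarBilin Q).Nondegenerate) {g : O Q}
    (h : Disjoint (fixSp g) (movSp g)) (m δ : ℕ) :
    (∃ W, NDT Q m δ W ∧ Inv g W) ↔
      ∃ m₁ δ₁ m₂ δ₂, m₁ + m₂ = m ∧ (δ₁ + δ₂ + hh F * (m₁ % 2 * (m₂ % 2))) % 2 = δ % 2 ∧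
        (∃ U ≤ fixSp g, NDT Q m₁ δ₁ U) ∧ ∃ U ≤ movSp g, NDT Q m₂ δ₂ U ∧ Inv g U := by
  have h0 : ∀ {U W : Submodule F V}, U ≤ fixSp g → W ≤ movSp g → W ≤ perp Q U := fun h1 h2 =>
    h2.trans (perp_fixSp hQ g ▸ perp_anti h1)
  constructor
  · rintro ⟨W, ⟨h1, rfl, h3⟩, h2⟩
    have h4 := h0 (inf_le_right (a := W)) (inf_le_right (a := W))
    have h5 := ndOn_of_sup ((h2.split h).symm ▸ h1) h4
    have h6 := ndOn_of_sup' ((h2.split h).symm ▸ h1) h4
    refine ⟨_, _, _, _, ?_, ?_, ⟨W ⊓ fixSp g, inf_le_right, h5, rfl, rfl⟩,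
      W ⊓ movSp g, inf_le_right, ⟨h6, rfl, rfl⟩, h2.inf (inv_movSp g)⟩
    · rw [← finrank_sup_perp h5 h4, h2.split h]
    · rw [← tp_sup h5 h6 h4, h2.split h, h3]
  · rintro ⟨_, δ₁, _, δ₂, rfl, h6, ⟨U, h1, h2, rfl, h7⟩, W, h3, ⟨h4, rfl, h8⟩, h5⟩
    refine ⟨U ⊔ W, ⟨ndOn_sup h2 h4 (h0 h1 h3), finrank_sup_perp h2 (h0 h1 h3), ?_⟩,
      (inv_of_le_fixSp h1).sup h5⟩
    rw [tp_sup h2 h4 (h0 h1 h3)]
    omega

theorem tpw_eq_of_perp (hQ : (polarBilin Q).Nondegenerate) (hU : NondegOn Q U) :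
    tpw Q % 2 = (tp Q U + tp Q (perp Q U) +
      hh F * (finrank F U % 2 * (finrank F (perp Q U) % 2))) % 2 := by
  rw [← tp_sup hU (hU.perp hQ) le_rfl, hU.isCompl.sup_eq_top, tp_top]

/-- Extension of an isometry of a model by the identity. -/
theorem exists_ext [FiniteDimensional F V'] (hQ : (polarBilin Q).Nondegenerate)
    (hQ' : (polarBilin Q').Nondegenerate) (g' : O Q') (hM : NDT Q (finrank F V') (tpw Q') M) :
    ∃ (g : O Q) (e : V' →ₗ[F] V), Function.Injective e ∧ LinearMap.range e = M ∧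
      (∀ v, Q (e v) = Q' v) ∧ (∀ v, g.1 (e v) = e (g'.1 v)) ∧ (∀ w ∈ perp Q M, g.1 w = w) ∧
      dickson hQ g = dickson hQ' g' ∧ spinorNorm hQ g = spinorNorm hQ' g' := by
  obtain ⟨e, he⟩ := iso_of_tpw hQ' hM.1.restrict hM.2.1.symm hM.2.2.symm
  let E : Q'.IsometryEquiv (Q.restrict M) := ⟨e, he⟩
  refine ⟨orthSum hM.1.orthDec (OCongr E g', 1), M.subtype ∘ₗ e.toLinearMap,
    M.injective_subtype.comp e.injective, by
      rw [LinearMap.range_comp, LinearEquiv.range, Submodule.map_top, Submodule.range_subtype], he,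
    fun v => ?_, fun w hw => orthSum_apply_right hM.1.orthDec _ ⟨w, hw⟩, ?_, ?_⟩
  · exact (orthSum_apply_left hM.1.orthDec _ (e v)).trans
      (congrArg Subtype.val (OCongr_apply' E g' v))
  · rw [dickson_orthSum _ hQ, map_one, mul_one, dickson_OCongr E hQ']
  · rw [spinorNorm_orthSum _ hQ, map_one, mul_one, spinorNorm_OCongr E hQ']

omit [Fintype F] in
theorem ext_pow_eq_one {g : O Q} {g' : O Q'} {e : V' →ₗ[F] V} (hM : NondegOn Q (LinearMap.range e))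
    (h1 : ∀ v, g.1 (e v) = e (g'.1 v)) (h2 : ∀ w ∈ perp Q (LinearMap.range e), g.1 w = w) {k : ℕ}
    (h : g' ^ k = 1) : g ^ k = 1 := by
  have h3 : ∀ k : ℕ, ∀ v, (g ^ k).1 (e v) = e ((g' ^ k).1 v) := fun k => by
    induction k with
    | zero => exact fun _ => rfl
    | succ k ih => exact fun v => by rw [pow_succ, pow_succ, O_mul_apply, O_mul_apply, h1, ih]
  have h4 : ∀ k : ℕ, ∀ w ∈ perp Q (LinearMap.range e), (g ^ k).1 w = w := fun k w hw => by
    induction k with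
    | zero => rfl
    | succ k ih => rw [pow_succ, O_mul_apply, h2 w hw, ih]
  refine O_ext_orthDec hM.orthDec ?_ (h4 k)
  rintro _ ⟨v, rfl⟩
  rw [h3, h]; rfl

omit [Fintype F] in
theorem ext_fixSp (hQ : (polarBilin Q).Nondegenerate) {g : O Q} (hM : NondegOn Q M) (h1 : Inv g M)
    (h2 : ∀ w ∈ perp Q M, g.1 w = w) (h3 : ∀ v ∈ M, g.1 v = v → v = 0) :
    fixSp g = perp Q M ∧ movSp g = M := by
  have h4 : fixSp g = perp Q M := le_antisymm (fun x hx => by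
    obtain ⟨u, hu, w, hw, rfl⟩ := hM.orthDec.exists_add x
    have h5 := mem_fixSp.1 hx
    rw [map_add, h2 w hw, add_left_inj] at h5
    rwa [h3 u hu h5, zero_add]) fun w hw => mem_fixSp.2 (h2 w hw)
  exact ⟨h4, by rw [← perp_fixSp hQ, h4, perp_perp hQ]⟩

theorem exists_nc_odd (hQ : (polarBilin Q).Nondegenerate) {k : ℕ} (hV : finrank F V = 2 * k + 1) :
    ∃ c c' : F, c ≠ 0 ∧ c' ≠ 0 ∧
      (nc Q c : ℤ) = (Fintype.card F : ℤ) ^ (2 * k) + (Fintype.card F : ℤ) ^ k ∧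
      (nc Q c' : ℤ) = (Fintype.card F : ℤ) ^ (2 * k) - (Fintype.card F : ℤ) ^ k := by
  induction k generalizing V with
  | zero =>
    have h2 := two_ne_zero_of_odd hQ ⟨0, hV⟩
    obtain ⟨x, hx, hx'⟩ := finrank_eq_one_iff'.1 hV
    have h3 : Q x ≠ 0 := fun h => hx (anisotropic_of_finrank_one hQ hV x h)
    obtain ⟨ν, hν⟩ := exists_not_isSquare h2
    have hν0 : ν ≠ 0 := fun h => hν (h ▸ IsSquare.zero)
    refine ⟨Q x, ν * Q x, h3, mul_ne_zero hν0 h3, ?_, ?_⟩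
    · have : nc Q (Q x) = 2 := by
        refine Nat.card_eq_two_iff.2 ⟨⟨x, rfl⟩, ⟨-x, QuadraticMap.map_neg Q x⟩, fun h => hx ?_, ?_⟩
        · have h4 : x = -x := congrArg Subtype.val h
          exact (smul_eq_zero.1 (show (2 : F) • x = 0 by
            rw [two_smul]; exact eq_neg_iff_add_eq_zero.1 h4)).resolve_left h2
        · refine Set.eq_univ_of_forall fun ⟨v, hv⟩ => ?_
          obtain ⟨a, rfl⟩ := hx' v
          rw [Q_smul] at hv
          rcases mul_self_eq_one_iff.1 (mul_right_cancel₀ h3 (hv.trans (one_mul _).symm)) with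
            rfl | rfl <;> simp
      rw [this]; norm_num
    · have : IsEmpty {v : V // Q v = ν * Q x} := ⟨fun ⟨v, hv⟩ => by
        obtain ⟨a, rfl⟩ := hx' v
        rw [Q_smul] at hv
        exact hν ⟨a, (mul_right_cancel₀ h3 hv).symm⟩⟩
      simp [nc]
  | succ k ih =>
    obtain ⟨e, f, h⟩ := exists_isHyp_of_three_le hQ (by omega)
    have hd : finrank F (hperp Q e f) = 2 * k + 1 := by have := h.finrank_hperp; omega
    obtain ⟨c, c', h1, h2, h3, h4⟩ := ih (h.nondegOn_hperp hQ).restrict hd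
    have h5 : 1 < Fintype.card F := Fintype.one_lt_card
    refine ⟨c, c', h1, h2, ?_, ?_⟩ <;> rw [h.nc_eq, hd, Nat.card_eq_fintype_card] <;>
      push_cast [Nat.cast_sub h5.le]
    · rw [h3]; ring
    · rw [h4]; ring

omit [Fintype F] [FiniteDimensional F V] in
theorem nc_restrict (c : F) : nc (Q.restrict M) c = Nat.card {v // v ∈ M ∧ Q v = c} :=
  Nat.card_congr (Equiv.subtypeSubtypeEquivSubtypeInter (· ∈ M) fun v => Q v = c)

variable {r i : ℕ} [hr : Fact r.Prime]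

theorem free_type (hr2 : r ≠ 2) (hi : orderOf (Fintype.card F : ZMod r) = i) (h0 : 0 < i)
    {P : Subgroup (V ≃ₗ[F] V)} (hP : IsPGroup r P) (hPQ : P ≤ O Q) (hM : NondegOn Q M)
    (h1 : ∀ g ∈ P, ∀ v ∈ M, g v ∈ M) (h2 : ∀ v ∈ M, v ∈ fixS P → v = 0) :
    ∃ a, finrank F M = cc i * a ∧ tp Q M % 2 = (ss i * a) % 2 := by
  have : Finite V := Module.finite_of_finite F
  have h3 : ∀ c : F, c ≠ 0 → ((nc (Q.restrict M) c : ℤ) : ZMod r) = 0 := fun c hc => by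
    rw [Int.cast_natCast, ZMod.natCast_eq_zero_iff, nc_restrict]
    exact H77.dvd_card_of_disjoint_fixS hP _
      (fun g hg v hv => ⟨h1 g hg v hv.1, (hPQ hg v).trans hv.2⟩) fun v hv hv' => hc (by
        rw [← hv.2, h2 v hv.1 hv', map_zero])
  have hq : (Fintype.card F : ZMod r) ≠ 0 := fun h => by
    rw [h, orderOf_zero] at hi; omega
  have h4 := H77.zmod_two_ne_zero hr2
  obtain ⟨k, hk | hk⟩ := Nat.even_or_odd' (finrank F M)
  swap
  · obtain ⟨c, c', h5, h6, h7, h8⟩ := exists_nc_odd hM.restrict hk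
    have h9 := h3 c h5
    have h10 := h3 c' h6
    rw [h7] at h9
    rw [h8] at h10
    push_cast at h9 h10
    exact (mul_ne_zero h4 (pow_ne_zero k hq) (by linear_combination h9 - h10)).elim
  obtain _ | k := k
  · exact ⟨0, by simpa using hk, by simp [tp_eq_zero_of_finrank hk]⟩
  have h5 : (Fintype.card F : ZMod r) ^ (k + 1) = (-1) ^ tp Q M := by
    have h6 := h3 1 one_ne_zero
    have h7 := tpw_eq_zero_iff hM.restrict ⟨k + 1, by omega⟩
    apply mul_left_cancel₀ (pow_ne_zero k hq)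
    by_cases hp : H79.IsPlus (F := F) (Q.restrict M)
    · rw [nc_plus_ne_zero_int hM.restrict hk hp one_ne_zero, Nat.card_eq_fintype_card] at h6
      push_cast at h6
      rw [show tp Q M = 0 from h7.2 hp]
      linear_combination h6
    · rw [nc_minus_int hM.restrict hk hp, if_neg one_ne_zero, Nat.card_eq_fintype_card] at h6
      push_cast at h6
      rw [show tp Q M = 1 by have := tp_lt Q M; have := h7.not.2 hp; unfold tp at *; omega]
      linear_combination h6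
  have h6 : i ∣ 2 * (k + 1) := by
    rw [← hi, orderOf_dvd_iff_pow_eq_one, pow_mul', h5, ← pow_mul, mul_comm, pow_mul]
    simp
  have h7 : ∀ a b : ℕ, (-1 : ZMod r) ^ a = (-1) ^ b → a % 2 = b % 2 := fun a b h => by
    rw [neg_one_pow_eq_pow_mod_two, neg_one_pow_eq_pow_mod_two (n := b)] at h
    rcases Nat.mod_two_eq_zero_or_one a with h1 | h1 <;>
      rcases Nat.mod_two_eq_zero_or_one b with h2 | h2 <;> rw [h1, h2] at h ⊢
    · exact (h4 (by linear_combination h)).elim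
    · exact (h4 (by linear_combination -h)).elim
  unfold cc ss
  split_ifs with he
  · obtain ⟨b, rfl⟩ := he
    obtain ⟨a, ha⟩ := h6
    have h8 : k + 1 = b * a := by nlinarith
    refine ⟨a, hk.trans ha, ?_⟩
    rw [h8, pow_mul, H77.pow_half_eq_neg_one (by omega) (hi.trans (two_mul b).symm)] at h5
    rw [one_mul, h7 _ _ h5]
  · obtain ⟨a, ha⟩ := (Nat.not_even_iff_odd.1 he).coprime_two_right.dvd_of_dvd_mul_left h6
    refine ⟨a, by rw [hk, ha, mul_assoc], ?_⟩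
    rw [ha, pow_mul, ← hi, pow_orderOf_eq_one, one_pow] at h5
    rw [zero_mul, ← h7 0 _ (by simpa using h5)]

theorem free_type_elt (hr2 : r ≠ 2) (hi : orderOf (Fintype.card F : ZMod r) = i) (h0 : 0 < i)
    {g : O Q} (hg : g ^ r = 1) (hM : NondegOn Q M) (h1 : Inv g M) (h2 : Disjoint (fixSp g) M) :
    ∃ a, finrank F M = cc i * a ∧ tp Q M % 2 = (ss i * a) % 2 := by
  have h3 : g.1 ^ r = 1 := congrArg Subtype.val hg
  refine free_type hr2 hi h0 (P := Subgroup.zpowers g.1) (fun x => ⟨1, ?_⟩)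
    ((Subgroup.zpowers_le).2 g.2) hM (fun x hx v hv => ?_) fun v hv hv' =>
      Submodule.disjoint_def.1 h2 v (mem_fixSp.2 (hv' _ (Subgroup.mem_zpowers _))) hv
  · obtain ⟨x, k, rfl⟩ := x
    refine Subtype.ext ?_
    change (g.1 ^ k) ^ r ^ 1 = 1
    rw [pow_one, ← zpow_natCast, ← zpow_mul, mul_comm, zpow_mul, zpow_natCast, h3, one_zpow]
  · obtain ⟨k, rfl⟩ := (isOfFinOrder_iff_pow_eq_one.2
      ⟨r, hr.out.pos, h3⟩).mem_powers_iff_mem_zpowers.2 hx
    exact h1.pow k v hv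

section Data

variable {L : Type*} [Field L] [Algebra F L] [IsAlgClosed L] [Algebra.IsAlgebraic F L]
  {s t : Multiset (Lˣ × ℕ)}

omit [Fintype F] [Algebra.IsAlgebraic F L] in
theorem exists_hasJOn_O (hQ : (polarBilin Q).Nondegenerate) {g : O Q} (h : Inv g W) :
    ∃ s : Multiset (Lˣ × ℕ), HasJOn L (g.1 : V →ₗ[F] V) W s :=
  H77.exists_hasJOn ((isEForm_polar hQ).sep.isUnit_of_pres (pres_O g)) h

omit [Algebra.IsAlgebraic F L] in
theorem hasJOn_ne_one_iff {g : O Q} (h : HasJOn L (g.1 : V →ₗ[F] V) W s) :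
    (∀ x ∈ s, x.1 ≠ 1) ↔ Disjoint (fixSp g) W := by
  classical
  have h1 := h.2.finrank_ker h.2.pos 1
  have h2 : (∀ x ∈ s, x.1 ≠ 1) ↔ finrank F (LinearMap.ker
      (((g.1 : V →ₗ[F] V).restrict h.1 : End F W) - (1 : F) • 1)) = 0 := by
    rw [h1, Multiset.card_eq_zero, Multiset.filter_eq_nil]; simp
  rw [h2, Submodule.finrank_eq_zero, LinearMap.ker_eq_bot', Submodule.disjoint_def]
  constructor
  · intro h3 v hv hv'
    exact congrArg Subtype.val (h3 ⟨v, hv'⟩ (Subtype.ext (by simpa [sub_eq_zero] using mem_fixSp.1 hv)))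
  · intro h3 v hv
    exact Subtype.ext (h3 v (mem_fixSp.2 (by simpa [sub_eq_zero] using congrArg Subtype.val hv)) v.2)

theorem exists_nd_of_data (hQ : (polarBilin Q).Nondegenerate) {g : O Q}
    (h : HasJOn L (g.1 : V →ₗ[F] V) M s) (hM : NondegOn Q M) (hs : ∀ x ∈ s, x.1 ^ 2 ≠ 1) {m : ℕ}
    (ht : Adm (Fintype.card F : ℤ) m t) (hd : t.map (frob (-1)) = t) (hle : t ≤ s) :
    ∃ U ≤ M, NondegOn Q U ∧ finrank F U = m ∧ Inv g U := by
  obtain ⟨U, h1, h2, h3⟩ := h.exists_nondeg (H77.dualLaw_id L) (isEForm_polar hQ) (pres_O g) hM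
    (Or.inr hs) ht hd hle
  exact ⟨U, h1, h2, h3.wt_eq.symm.trans ht.wt_eq, h3.inv⟩

theorem exists_ts_iff_data (hQ : (polarBilin Q).Nondegenerate) {g : O Q}
    (hss : Module.End.IsSemisimple (g.1 : V →ₗ[F] V)) (h : HasJOn L (g.1 : V →ₗ[F] V) M s)
    (hM : NondegOn Q M) (hs : ∀ x ∈ s, x.1 ^ 2 ≠ 1) (m : ℕ) :
    (∃ U ≤ M, finrank F U = m ∧ (∀ w ∈ U, Q w = 0) ∧ Inv g U) ↔
      ∃ t, t + t.map (frob (-1)) ≤ s ∧ Adm (Fintype.card F : ℤ) m t := by
  constructor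
  · rintro ⟨U, h1, rfl, h2, h3⟩
    obtain ⟨t, ht⟩ := exists_hasJOn_O (L := L) hQ h3
    exact ⟨t, ht.add_dual_le (H77.dualLaw_id L) (isEForm_polar hQ) (pres_O g) hss h
      (fun x hx y hy => mem_perp.1 (H79.le_perp_of_sing h2 hy) x hx) hM h1, ht.adm⟩
  · rintro ⟨t, h1, h2⟩
    obtain ⟨U, h3, h4, h5⟩ := h.exists_totIso (H77.dualLaw_id L) (isEForm_polar hQ) (pres_O g) hM
      (Or.inr hs) h2 h1
    exact ⟨U, h3, h5.wt_eq.symm.trans h2.wt_eq, ts_of_totIso h5.inv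
      ((hasJOn_ne_one_iff h).1 (fun x hx h6 => hs x hx (by rw [h6, one_pow])) |>.mono_right h3) h4,
      h5.inv⟩

theorem exists_free_model {k : ℕ} (ht : Adm (Fintype.card F : ℤ) k t)
    (hd : t.map (frob (-1)) = t) (hs : ∀ x ∈ t, x.1 ^ 2 ≠ 1) :
    ∃ (Q' : QuadraticForm F (Fin k → F)) (g : O Q'), (polarBilin Q').Nondegenerate ∧
      HasJ L (g.1 : (Fin k → F) →ₗ[F] (Fin k → F)) t := by
  obtain ⟨B, f, h1, h2, h3⟩ := H77.exists_model (ε := (1 : F)) (H77.dualLaw_id L) (fun _ => rfl)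
    (by simp) ht hd (Or.inr hs)
  obtain ⟨u, hu⟩ := h3.isUnit_sub_smul (c := 1) fun x hx h => hs x hx (by
    rw [map_one, Units.val_eq_one] at h; rw [h, one_pow])
  obtain ⟨f', rfl⟩ := h3.isUnit
  have h4 : ∀ v w, B v w = B w v := fun v w => by simpa using h1.symm w v
  let Q' : QuadraticForm F (Fin k → F) :=
    LinearMap.BilinMap.toQuadraticMap (B.comp (-(u⁻¹ : (End F (Fin k → F))ˣ).1))
  have h5 : ∀ v, Q' (u.1 v) = -B v (u.1 v) := fun v => by
    have : (u⁻¹ : (End F (Fin k → F))ˣ).1 (u.1 v) = v := by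
      rw [← Module.End.mul_apply, Units.inv_mul, Module.End.one_apply]
    simp [Q', this]
  have h6 : ∀ v, u.1 v = f'.1 v - v := fun v => by simp [hu]
  have h7 : Function.Surjective u.1 := ((Module.End.isUnit_iff _).1 u.isUnit).2
  have h8 : ∀ v w, polar Q' v w = B v w := fun v w => by
    obtain ⟨v, rfl⟩ := h7 v
    obtain ⟨w, rfl⟩ := h7 w
    rw [polar, ← map_add, h5, h5, h5, h6, h6, h6]
    simp only [map_add, map_sub, LinearMap.add_apply, LinearMap.sub_apply, h2 v w]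
    rw [h4 w (f'.1 v), h4 w v]
    ring
  refine ⟨Q', ⟨LinearMap.GeneralLinearGroup.toLinearEquiv f', fun v => ?_⟩,
    nondegenerate_of_forall fun v hv => h1.sepL v fun w => (h8 v w).symm.trans (hv w), h3⟩
  obtain ⟨v, rfl⟩ := h7 v
  have h9 : f'.1 (u.1 v) = u.1 (f'.1 v) := by rw [h6, h6, map_sub]
  change Q' (f'.1 (u.1 v)) = _
  rw [h9, h5, h5, ← h9, h2]

variable {p : ℕ} [Fact p.Prime] [CharP F p]

omit [Fintype F] in
theorem cast_ne_zero_of_ne (hrp : r ≠ p) : (r : F) ≠ 0 := fun h =>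
  hrp ((Nat.prime_dvd_prime_iff_eq Fact.out hr.out).1 ((CharP.cast_eq_zero_iff F p r).1 h)).symm

theorem rd_of_pow (hQ : (polarBilin Q).Nondegenerate) (hrp : r ≠ p) {g : O Q} (hg : g ^ r = 1)
    (h : HasJOn L (g.1 : V →ₗ[F] V) M s) (hM : NondegOn Q M) (hd : Disjoint (fixSp g) M) :
    RD r (Fintype.card F) (finrank F M) s := by
  have h1 := (h.pow_eq_smul_iff p r 1).1 fun v _ => by rw [← coe_O_pow, hg]; simp
  have h2 : ∀ x ∈ s, x.1 ^ r = 1 := fun x hx => Units.ext (by simpa using (h1 x hx).1)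
  exact ⟨h.adm, h.dual_eq (H77.dualLaw_id L) (isEForm_polar hQ) (pres_O g) hM, fun x hx =>
    ⟨H77.snd_eq_one_of_pk Fact.out hr.out hrp h.2.pos
      ⟨fun x hx y hy => by rw [h2 x hx, h2 y hy], fun x hx => (h1 x hx).2⟩ x hx, h2 x hx,
      (hasJOn_ne_one_iff h).2 hd x hx⟩⟩

omit hr in
theorem pow_eq_one_of_rd {g : O Q} {q k : ℕ} (h : HasJ L (g.1 : V →ₗ[F] V) s)
    (hs : RD r q k s) : g ^ r = 1 := by
  obtain ⟨p, _⟩ := CharP.exists F
  have := Fact.mk (CharP.char_is_prime F p)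
  have h1 := (h.pow_eq_smul_iff p r 1).2 fun x hx => ⟨by
    rw [← Units.val_pow_eq_pow_val, (hs.mem x hx).2.1]; simp, by simp [(hs.mem x hx).1]⟩
  rw [← coe_O_pow] at h1
  exact O_ext fun v => by simpa using LinearMap.congr_fun h1 v

theorem exists_elt_of_rd (hQ : (polarBilin Q).Nondegenerate) (hr2 : r ≠ 2)
    (hi : orderOf (Fintype.card F : ZMod r) = i) (h0 : 0 < i) {a : ℕ}
    (hs : RD r (Fintype.card F) (cc i * a) s) (h1 : cc i * a ≤ finrank F V)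
    (h2 : cc i * a = finrank F V → (tpw Q + ss i * a) % 2 = 0) :
    ∃ g : O Q, g ^ r = 1 ∧ finrank F (movSp g) = cc i * a ∧
      HasJOn L (g.1 : V →ₗ[F] V) (movSp g) s := by
  obtain ⟨Q', g', hQ', h3⟩ := exists_free_model hs.adm hs.dual (hs.sq_ne hr.out hr2)
  have h4 := pow_eq_one_of_rd h3 hs
  obtain ⟨a', h5, h6⟩ := free_type_elt hr2 hi h0 h4 (nondegOn_top hQ') (fun _ _ => trivial)
    ((hasJOn_ne_one_iff (H77.hasJOn_top.2 h3)).1 fun x hx => (hs.mem x hx).2.2)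
  rw [finrank_top, finrank_fin_fun] at h5
  obtain rfl := Nat.eq_of_mul_eq_mul_left (cc_pos h0) h5
  rw [tp_top] at h6
  obtain ⟨M, -, hM⟩ := (exists_ndt_iff (nondegOn_top hQ) (m := cc i * a) (δ := tpw Q')
    fun _ => (even_cc i).mul_right a).2 (by
      rw [finrank_top, tp_top]
      refine ⟨h1, fun h => ?_, fun h => by have := h2 h; omega⟩
      rw [h6, (mul_eq_zero.1 h).resolve_left (cc_pos h0).ne']; simp)
  obtain ⟨g, e, h7, rfl, -, h8, h9, -⟩ := exists_ext hQ hQ' g' (M := M) (by rwa [finrank_fin_fun])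
  have h10 := H77.hasJOn_range e h7 (f := (g.1 : V →ₗ[F] V)) (fun v => (h8 v).symm) h3
  have h11 := (ext_fixSp hQ hM.1 h10.inv h9 fun v hv hv' => Submodule.disjoint_def.1
    ((hasJOn_ne_one_iff h10).1 fun x hx => (hs.mem x hx).2.2) v (mem_fixSp.2 hv') hv).2
  exact ⟨g, ext_pow_eq_one hM.1 h8 h9 h4, by rw [h11, hM.2.1], by rwa [h11]⟩

end Data

/-- Every element of order `r` fixes a nondegenerate subspace of dimension `m`, type `δ`. -/
def AN (c s n ε m δ : ℕ) : Prop := ∀ a, 0 < a → c * a ≤ n → (c * a = n → (ε + s * a) % 2 = 0) →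
  ∃ a' ≤ a, c * a' ≤ m ∧ Subx (n - c * a) (ε + s * a) (m - c * a') (δ + s * a')

/-- Every element of order `r` fixes a totally singular subspace of dimension `m`. -/
def AT (i T n ε m : ℕ) : Prop := ∀ o b, o ≤ T → 0 < o + 2 * b → i * (o + 2 * b) ≤ n →
  (i * (o + 2 * b) = n → (ε + o) % 2 = 0) →
  ∃ b' ≤ b, i * b' ≤ m ∧ TSx (n - i * (o + 2 * b)) (ε + o) (m - i * b')

theorem Subx.congr {n ε m δ ε' δ' : ℕ} (h : Subx n ε m δ) (h1 : ε % 2 = ε' % 2)
    (h2 : δ % 2 = δ' % 2) : Subx n ε' m δ' := by unfold Subx at *; omega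

theorem TSx.congr {n ε m ε' : ℕ} (h : TSx n ε m) (h1 : ε % 2 = ε' % 2) : TSx n ε' m := by
  unfold TSx at *; omega

theorem fix_of_mov (hQ : (polarBilin Q).Nondegenerate) (hM : NondegOn Q M) {k τ : ℕ}
    (h1 : finrank F M = k) (h2 : tp Q M % 2 = τ % 2) (he : Even k) :
    finrank F (perp Q M) = finrank F V - k ∧ k ≤ finrank F V ∧
      tp Q (perp Q M) % 2 = (tpw Q + τ) % 2 ∧ (k = finrank F V → (tpw Q + τ) % 2 = 0) := by
  have h3 := finrank_add_finrank_perp hQ M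
  have h4 := tpw_eq_of_perp hQ hM
  rw [h1, Nat.even_iff.1 he, zero_mul, mul_zero] at h4
  refine ⟨by omega, by omega, by omega, fun h => ?_⟩
  have := tp_eq_zero_of_finrank (Q := Q) (W := perp Q M) (by omega)
  omega

variable {p : ℕ} [Fact p.Prime] [CharP F p]

theorem orderOf_card_pos (hrp : r ≠ p) : 0 < orderOf (Fintype.card F : ZMod r) :=
  H77.orderOf_zmod_pos (H77.natCast_card_ne_zero' hrp)

theorem odd_nd (hQ : (polarBilin Q).Nondegenerate) (hr2 : r ≠ 2) (hrp : r ≠ p)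
    (hi : orderOf (Fintype.card F : ZMod r) = i) {m δ : ℕ} (h2 : (2 : F) = 0 → Even m) :
    (∀ g : O Q, g ^ r = 1 → g ≠ 1 → ∃ W, NDT Q m δ W ∧ Inv g W) ↔
      AN (cc i) (ss i) (finrank F V) (tpw Q) m δ := by
  have h0 : 0 < i := hi ▸ orderOf_card_pos (F := F) hrp
  have := CharP.of_ringHom_of_ne_zero (algebraMap F (AlgebraicClosure F)) p (Fact.out : p.Prime).ne_zero
  have key : ∀ {g : O Q} {a : ℕ}, g ^ r = 1 → finrank F (movSp g) = cc i * a →
      ((∃ W, NDT Q m δ W ∧ Inv g W) ↔ ∃ a' ≤ a, cc i * a' ≤ m ∧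
        Subx (finrank F V - cc i * a) (tpw Q + ss i * a) (m - cc i * a') (δ + ss i * a')) := by
    intro g a hg ha
    have hd := disjoint_fix_mov (cast_ne_zero_of_ne hrp) hg
    obtain ⟨hC, hM⟩ := ndOn_fix_mov hQ hd
    obtain ⟨a₀, h3, h4⟩ := free_type_elt hr2 hi h0 hg hM (inv_movSp g) hd
    obtain rfl := Nat.eq_of_mul_eq_mul_left (cc_pos h0) (h3.symm.trans ha)
    obtain ⟨h5, -, h6, -⟩ := fix_of_mov hQ hM ha h4 ((even_cc i).mul_right _)
    rw [perp_movSp hQ] at h5 h6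
    have h7 : ∀ a', cc i * a' % 2 = 0 := fun a' => Nat.even_iff.1 ((even_cc i).mul_right _)
    rw [nd_split_iff hQ hd]
    constructor
    · rintro ⟨m₁, δ₁, m₂, δ₂, rfl, h8, h9, U, h10, ⟨h11, rfl, h12⟩, h13⟩
      obtain ⟨a', h14, h15⟩ := free_type_elt hr2 hi h0 hg h11 h13 (hd.mono_right h10)
      have h16 := Submodule.finrank_mono h10
      rw [h14, h7, mul_zero, mul_zero] at h8
      rw [h14, ha] at h16
      rw [h14] at h2 ⊢
      rw [exists_ndt_iff hC fun h => (Nat.even_add.1 (h2 h)).2 ((even_cc i).mul_right _), h5] at h9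
      refine ⟨a', Nat.le_of_mul_le_mul_left h16 (cc_pos h0), by omega, ?_⟩
      rw [Nat.add_sub_cancel]
      exact h9.congr h6 (by omega)
    · rintro ⟨a', h8, h9, h10⟩
      obtain ⟨s, hs⟩ := exists_hasJOn_O (L := AlgebraicClosure F) hQ (inv_movSp g)
      have h11 := rd_of_pow hQ hrp hg hs hM hd
      obtain ⟨t, h12, h13⟩ := h11.exists_le hr2 hi h0 (ha ▸ Nat.mul_le_mul_left _ h8)
      obtain ⟨U, h14, h15, h16, h17⟩ := exists_nd_of_data hQ hs hM (h11.sq_ne hr.out hr2)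
        h13.adm h13.dual h12
      obtain ⟨a'', h18, h19⟩ := free_type_elt hr2 hi h0 hg h15 h17 (hd.mono_right h14)
      obtain rfl := Nat.eq_of_mul_eq_mul_left (cc_pos h0) (h16.symm.trans h18)
      refine ⟨m - cc i * a', δ + ss i * a', cc i * a', ss i * a', by omega, ?_, ?_,
        U, h14, ⟨h15, h16, h19⟩, h17⟩
      · rw [h7, mul_zero, mul_zero]; omega
      · rw [exists_ndt_iff hC fun h => (Nat.even_sub h9).2
          (iff_of_true (h2 h) ((even_cc i).mul_right _)), h5]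
        exact h10.congr h6.symm rfl
  constructor
  · intro h a h3 h4 h5
    obtain ⟨s, hs⟩ := exists_rd (L := AlgebraicClosure F) hr2 hrp hi h0 a
    obtain ⟨g, h6, h7, -⟩ := exists_elt_of_rd hQ hr2 hi h0 hs h4 h5
    refine (key h6 h7).1 (h g h6 ?_)
    rintro rfl
    have := Nat.mul_pos (cc_pos h0) h3
    rw [← h7, show movSp (1 : O Q) = ⊥ from eq_bot_iff.2 (by rintro _ ⟨v, rfl⟩; simp)] at this
    simp at this
  · intro h g hg hg1
    have hd := disjoint_fix_mov (cast_ne_zero_of_ne hrp) hg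
    obtain ⟨-, hM⟩ := ndOn_fix_mov hQ hd
    obtain ⟨a, h3, h4⟩ := free_type_elt hr2 hi h0 hg hM (inv_movSp g) hd
    obtain ⟨-, h5, -, h6⟩ := fix_of_mov hQ hM h3 h4 ((even_cc i).mul_right _)
    have h7 := finrank_movSp_pos hg1
    exact (key hg h3).2 (h a (Nat.pos_of_mul_pos_left (h3 ▸ h7)) h5 h6)

omit hr in
theorem cc_mul_of_le_TT {o : ℕ} (ho : o ≤ TT r i) (b : ℕ) :
    ∃ a, i * (o + 2 * b) = cc i * a ∧ (ss i * a) % 2 = o % 2 := by
  unfold TT cc ss at *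
  split_ifs at ho ⊢
  · exact ⟨o + 2 * b, rfl, by omega⟩
  · exact ⟨b, by rw [Nat.le_zero.1 ho]; ring, by omega⟩

theorem odd_ts (hQ : (polarBilin Q).Nondegenerate) (hr2 : r ≠ 2) (hrp : r ≠ p)
    (hi : orderOf (Fintype.card F : ZMod r) = i) {m : ℕ} :
    (∀ g : O Q, g ^ r = 1 → g ≠ 1 →
      ∃ W : Submodule F V, finrank F W = m ∧ (∀ w ∈ W, Q w = 0) ∧ Inv g W) ↔
      AT i (TT r i) (finrank F V) (tpw Q) m := by
  have h0 : 0 < i := hi ▸ orderOf_card_pos (F := F) hrp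
  have := CharP.of_ringHom_of_ne_zero (algebraMap F (AlgebraicClosure F)) p (Fact.out : p.Prime).ne_zero
  have key : ∀ {g : O Q} {o b : ℕ} {s : Multiset ((AlgebraicClosure F)ˣ × ℕ)}, g ^ r = 1 →
      o ≤ TT r i → finrank F (movSp g) = i * (o + 2 * b) →
      HasJOn _ (g.1 : V →ₗ[F] V) (movSp g) s → TD (Fintype.card F) i b s →
      (i * (o + 2 * b) ≤ finrank F V ∧ (i * (o + 2 * b) = finrank F V → (tpw Q + o) % 2 = 0)) ∧
      ((∃ W : Submodule F V, finrank F W = m ∧ (∀ w ∈ W, Q w = 0) ∧ Inv g W) ↔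
        ∃ b' ≤ b, i * b' ≤ m ∧ TSx (finrank F V - i * (o + 2 * b)) (tpw Q + o) (m - i * b')) := by
    intro g o b s hg ho ha hs ht
    have hd := disjoint_fix_mov (cast_ne_zero_of_ne hrp) hg
    obtain ⟨hC, hM⟩ := ndOn_fix_mov hQ hd
    obtain ⟨a₀, h3, h4⟩ := free_type_elt hr2 hi h0 hg hM (inv_movSp g) hd
    obtain ⟨a, h1, h2⟩ := cc_mul_of_le_TT ho b
    obtain rfl := Nat.eq_of_mul_eq_mul_left (cc_pos h0) (h3.symm.trans (ha.trans h1))
    obtain ⟨h5, h6, h7, h8⟩ := fix_of_mov hQ hM ha (h4.trans h2) (h1 ▸ (even_cc i).mul_right _)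
    rw [perp_movSp hQ] at h5 h7
    refine ⟨⟨h6, h8⟩, ?_⟩
    have hss : Module.End.IsSemisimple (g.1 : V →ₗ[F] V) :=
      H77.isSemisimple_of_pow_eq_smul (cast_ne_zero_of_ne hrp) one_ne_zero (by
        rw [← coe_O_pow, hg, one_smul]; rfl)
    rw [ts_split_iff hQ hd]
    simp only [exists_ts_iff hC, h5, exists_ts_iff_data hQ hss hs hM
      ((rd_of_pow hQ hrp hg hs hM hd).sq_ne hr.out hr2), ht _]
    constructor
    · rintro ⟨m₁, _, rfl, h9, b', h10, rfl⟩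
      exact ⟨b', h10, by omega, by rw [Nat.add_sub_cancel]; exact h9.congr h7⟩
    · rintro ⟨b', h9, h10, h11⟩
      exact ⟨_, _, Nat.sub_add_cancel h10, h11.congr h7.symm, b', h9, rfl⟩
  constructor
  · intro h o b h3 h4 h5 h6
    obtain ⟨s, hs, ht⟩ := exists_rd_td (L := AlgebraicClosure F) hr2 hrp hi h0 h3 b
    obtain ⟨a, h1, h2⟩ := cc_mul_of_le_TT h3 b
    obtain ⟨g, h7, h8, h9⟩ := exists_elt_of_rd hQ hr2 hi h0 (h1 ▸ hs) (h1 ▸ h5)
      fun h => by have := h6 (h1 ▸ h); omega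
    refine (key h7 h3 (h8.trans h1.symm) h9 ht).2.1 (h g h7 ?_)
    rintro rfl
    have := Nat.mul_pos h0 h4
    rw [h1, ← h8, show movSp (1 : O Q) = ⊥ from eq_bot_iff.2 (by rintro _ ⟨v, rfl⟩; simp)] at this
    simp at this
  · intro h g hg hg1
    have hd := disjoint_fix_mov (cast_ne_zero_of_ne hrp) hg
    obtain ⟨-, hM⟩ := ndOn_fix_mov hQ hd
    obtain ⟨s, hs⟩ := exists_hasJOn_O (L := AlgebraicClosure F) hQ (inv_movSp g)
    obtain ⟨o, b, h1, h2, h3⟩ := (rd_of_pow hQ hrp hg hs hM hd).exists_td hr2 hi h0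
    obtain ⟨⟨h4, h5⟩, h6⟩ := key hg h1 h2 hs h3
    exact h6.2 (h o b h1 (Nat.pos_of_mul_pos_left (h2 ▸ finrank_movSp_pos hg1)) h4 h5)

/-! ### Consequences of `r ∣ |Ω|` -/

omit hr in
theorem exists_pgroup_O (r : ℕ) [Fact r.Prime] (S : Submodule F V → Prop)
    (h1 : ∀ g : O Q, ∀ W, S W → S (W.map (g.1 : V →ₗ[F] V)))
    (h2 : ∀ U W, S U → S W → ∃ g : O Q, U.map (g.1 : V →ₗ[F] V) = W)
    (h : r ∣ Nat.card {W // S W}) : ∃ P : Subgroup (V ≃ₗ[F] V), P ≤ O Q ∧ IsPGroup r P ∧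
      ∀ W, S W → ¬ ∀ g ∈ P, ∀ v ∈ W, g v ∈ W := by
  have := H77.finite_linearEquiv' (F := F) (V := V)
  exact H77.exists_pgroup_sub (O Q) S (fun g hg => h1 ⟨g, hg⟩) (fun U W hU hW =>
    (h2 U W hU hW).elim fun g hg => ⟨g.1, g.2, hg⟩) h

theorem fixS_type (hQ : (polarBilin Q).Nondegenerate) (hr2 : r ≠ 2) (hrp : r ≠ p)
    (hi : orderOf (Fintype.card F : ZMod r) = i) {P : Subgroup (V ≃ₗ[F] V)} (hP : IsPGroup r P)
    (hPQ : P ≤ O Q) : NondegOn Q (fixS P) ∧ ∃ a, finrank F (fixS P) = finrank F V - cc i * a ∧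
      cc i * a ≤ finrank F V ∧ tp Q (fixS P) % 2 = (tpw Q + ss i * a) % 2 ∧
      (cc i * a = finrank F V → (tpw Q + ss i * a) % 2 = 0) := by
  have := H77.finite_linearEquiv' (F := F) (V := V)
  have h0 : 0 < i := hi ▸ orderOf_card_pos (F := F) hrp
  have hC : NondegOn Q (fixS P) := (H77.ef_nondegOn_fixS (isEForm_polar hQ)
    (fun g hg => O_polar ⟨g, hPQ hg⟩) (H77.natCast_card_ne_zero hP hrp)).1
  obtain ⟨a, h1, h2⟩ := free_type hr2 hi h0 hP hPQ (hC.perp hQ)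
    (fun g hg => Inv.perp (g := ⟨g, hPQ hg⟩) (H77.inv_of_le_fixS le_rfl g hg))
    fun v hv hv' => hC v hv' (mem_perp'.1 hv)
  have := fix_of_mov hQ (hC.perp hQ) h1 h2 ((even_cc i).mul_right _)
  rw [perp_perp hQ] at this
  exact ⟨hC, a, this⟩

omit [FiniteDimensional F V] in
theorem NDT.map {m δ : ℕ} (h : NDT Q m δ W) (g : O Q) : NDT Q m δ (W.map (g.1 : V →ₗ[F] V)) :=
  ⟨ndOn_map g.2 h.1, by rw [LinearEquiv.finrank_map_eq, h.2.1],
    by rw [tp_map g.1.injective g.2, h.2.2]⟩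

omit hr in
theorem exists_pgroup_ndt (hQ : (polarBilin Q).Nondegenerate) (r : ℕ) [Fact r.Prime] {m δ : ℕ}
    (h : r ∣ Nat.card {W // NDT Q m δ W}) : ∃ P : Subgroup (V ≃ₗ[F] V), P ≤ O Q ∧ IsPGroup r P ∧
      ∀ W, NDT Q m δ W → ¬ ∀ g ∈ P, ∀ v ∈ W, g v ∈ W :=
  exists_pgroup_O r _ (fun g _ h => h.map g) (fun _ _ hU hW => exists_O_map_of_tp hQ hU.1 hW.1
    (hU.2.1.trans hW.2.1.symm) (hU.2.2.trans hW.2.2.symm)) h

/-- The condition coming from a Sylow subgroup. -/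
def HN (c s n ε m δ : ℕ) : Prop :=
  ∃ a, c * a ≤ n ∧ (c * a = n → (ε + s * a) % 2 = 0) ∧ ¬ Subx (n - c * a) (ε + s * a) m δ

/-- The condition coming from a Sylow subgroup. -/
def HT (c s n ε m : ℕ) : Prop :=
  ∃ a, c * a ≤ n ∧ (c * a = n → (ε + s * a) % 2 = 0) ∧ ¬ TSx (n - c * a) (ε + s * a) m

theorem hn_of_dvd (hQ : (polarBilin Q).Nondegenerate) (hr2 : r ≠ 2) (hrp : r ≠ p)
    (hi : orderOf (Fintype.card F : ZMod r) = i) {m δ : ℕ} (h2 : (2 : F) = 0 → Even m)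
    (h : r ∣ Nat.card {W // NDT Q m δ W}) : HN (cc i) (ss i) (finrank F V) (tpw Q) m δ := by
  obtain ⟨P, h1, hP, h3⟩ := exists_pgroup_ndt hQ r h
  obtain ⟨hC, a, h4, h5, h6, h7⟩ := fixS_type hQ hr2 hrp hi hP h1
  refine ⟨a, h5, h7, fun h8 => ?_⟩
  obtain ⟨W, h9, h10⟩ := (exists_ndt_iff hC h2).2 (h4 ▸ h8.congr h6.symm rfl)
  exact h3 W h10 (H77.inv_of_le_fixS h9)

omit hr in
theorem exists_inv_ts (hQ : (polarBilin Q).Nondegenerate) {P : Subgroup (V ≃ₗ[F] V)}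
    (hP : IsPGroup p P) (hPQ : P ≤ O Q) {m : ℕ} (hm : 2 * m < finrank F V) :
    ∃ W : Submodule F V, (∀ w ∈ W, Q w = 0) ∧ (∀ g ∈ P, ∀ v ∈ W, g v ∈ W) ∧ finrank F W = m := by
  refine H77.exists_inv_of_step hP (fun W => ∀ w ∈ W, Q w = 0)
    (fun W h1 h2 h3 => ⟨{v | v ∈ perp Q W ∧ Q v = 0},
    fun g hg v hv => ⟨Inv.perp (g := ⟨g, hPQ hg⟩) (h2 g hg) v hv.1, (hPQ hg v).trans hv.2⟩,
    by simp, ?_, fun v hv x hx => ?_⟩) (W₀ := ⊥) (by simp) (by simp) (by simp)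
  · obtain ⟨U, h4, h5, h6, h7⟩ := H77.ef_exists_nondeg_compl (isEForm_polar hQ) (W := W)
      fun x hx y hy => mem_perp.1 (H79.le_perp_of_sing h1 hy) x hx
    rw [perp31] at h6
    have h4 : NondegOn Q U := h4
    rw [H77.card_image_mkQ W U h5 (T := {v | v ∈ perp Q W ∧ Q v = 0}) (fun v => Q v = 0)
      (fun u hu hu' => ⟨h6 ▸ Submodule.mem_sup_right hu, hu'⟩) fun v hv => ?_, ← nc_restrict]
    · obtain ⟨e, f, h8⟩ := exists_isHyp_of_three_le h4.restrict (by omega)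
      have h9 := h8.finrank_hperp
      have h10 := H77.char_dvd_natCard F p
      rw [h8.nc_eq]
      exact dvd_add ((h10.trans (dvd_pow_self _ (by omega))).mul_left _) (h10.mul_right _)
    · obtain ⟨w, hw, u, hu, rfl⟩ := Submodule.mem_sup.mp (h6 ▸ hv.1 : v ∈ W ⊔ U)
      have h8 : u ∈ perp Q W := h6 ▸ Submodule.mem_sup_right hu
      refine ⟨u, hu, ?_, by simpa using hw⟩
      have := hv.2
      rwa [Q_add, h1 w hw, mem_perp.1 h8 w hw, zero_add, add_zero] at this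
  · obtain ⟨w, hw, u, hu, rfl⟩ := Submodule.mem_sup.mp hx
    obtain ⟨a, rfl⟩ := Submodule.mem_span_singleton.1 hu
    rw [Q_add, h1 w hw, Q_smul, hv.2, polar_smul_right', mem_perp.1 hv.1 w hw]
    simp

theorem ht_of_dvd (hQ : (polarBilin Q).Nondegenerate)
    (hi : orderOf (Fintype.card F : ZMod r) = i) {m : ℕ} (hm : 2 * m < finrank F V)
    (h : r ∣ Nat.card {W : Submodule F V // finrank F W = m ∧ ∀ w ∈ W, Q w = 0}) :
    r ≠ p ∧ (r ≠ 2 → HT (cc i) (ss i) (finrank F V) (tpw Q) m) := by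
  obtain ⟨P, h1, hP, h3⟩ := exists_pgroup_O (Q := Q) r _ (fun g W h => ⟨by
      rw [LinearEquiv.finrank_map_eq, h.1], by
      rintro _ ⟨w, hw, rfl⟩; exact (g.2 w).trans (h.2 w hw)⟩)
    (fun U W hU hW => H79.exists_O_map_eq_of_sing hQ hU.2 hW.2 (hU.1.trans hW.1.symm)) h
  have hrp : r ≠ p := by
    rintro rfl
    obtain ⟨W, h4, h5, h6⟩ := exists_inv_ts hQ hP h1 hm
    exact h3 W ⟨h6, h4⟩ h5
  refine ⟨hrp, fun hr2 => ?_⟩
  obtain ⟨hC, a, h4, h5, h6, h7⟩ := fixS_type hQ hr2 hrp hi hP h1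
  refine ⟨a, h5, h7, fun h8 => ?_⟩
  obtain ⟨W, h9, h10⟩ := (exists_ts_iff hC).2 (h4 ▸ h8.congr h6.symm)
  exact h3 W h10 (H77.inv_of_le_fixS h9)

end Cfsg.Agent.H28
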