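import Mathlib
import Cfsg.Agent.H37.FkKit
import Cfsg.Agent.H98.GroupSimple

/-!
# S5161, piece RED3: the fusion system of a component is quasisimple when that of its central
quotient is simple.
-/

set_option autoImplicit false

namespace Cfsg.Agent.H28.FkRed3

open Cfsg Subgroup Cfsg.Agent.H96 Cfsg.Agent.H97 Cfsg.Agent.H98 Cfsg.Agent.H37.FK

universe u

variable {p : ℕ} [Fact p.Prime]

theorem res_top {K : Type u} [Group K] [Finite K] [Group.IsPerfect K] : pResidual p K = ⊤ := by
  haveI := H8.pResidual_normal (G := K) p
  have hp : IsPGroup p (K ⧸ pResidual p K) := fun x => by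
    obtain ⟨g, rfl⟩ := QuotientGroup.mk_surjective x
    have h0 := (orderOf_pos g).ne'
    refine ⟨(orderOf g).factorization p, ?_⟩
    rw [← QuotientGroup.mk_pow, QuotientGroup.eq_one_iff]
    refine subset_closure ?_
    show Nat.Coprime (orderOf _) p
    rw [orderOf_pow' _ (pow_pos (Fact.out : p.Prime).pos _).ne',
      Nat.gcd_eq_right (Nat.ordProj_dvd _ _)]
    exact (Nat.coprime_ordCompl Fact.out h0).symm
  haveI := hp.isNilpotent
  rw [← QuotientGroup.subsingleton_iff, ← not_nontrivial_iff_subsingleton]
  exact fun h => Group.IsPerfect.not_isNilpotent (G := K ⧸ pResidual p K) inferInstance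

theorem syl_sub {G : Type u} [Group G] [Finite G] (S : Sylow p G) {H : Subgroup G}
    (hH : H.IsSubnormal) : SylIn p ((S : Subgroup G) ⊓ H) H := by
  induction hH with
  | top => rw [inf_top_eq]; exact sylIn_top S
  | step H K hle _ hN ih =>
    have := ih.inf_of_normal hle ((normal_subgroupOf_iff_le_normalizer hle).1 hN)
    rwa [inf_assoc, inf_eq_right.2 hle] at this

theorem group_quasisimple {K : Type u} [Group K] [Finite K] [Group.IsPerfect K] (T : Sylow p K)
    (h : ∀ R : Sylow p (K ⧸ center K),
      (groupFusionSystem (R : Subgroup (K ⧸ center K))).IsSimple p) :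
    (groupFusionSystem (T : Subgroup K)).Quasisimple p := by
  have hE := S5135.result p T (center K)
  have hs := h (T.mapSurjective (QuotientGroup.mk'_surjective (center K)))
  rw [Sylow.coe_mapSurjective] at hs
  have hz := group_isCentral_inf_center (T : Subgroup K)
  have hc := stronglyClosed_of_isNormal (isNormal_of_isCentral hz)
  have hy := group_hyp_eq_top T res_top
  have hsat := group_isSaturated T
  have h0 := simple_core_eq_bot (factor_isPGroup T.isPGroup' hE) hs (by
    rw [factor_hyp T.isPGroup' hsat hE hc, hy, factor_img_top hE]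
    exact hs.2.1)
  have e : (groupFusionSystem (T : Subgroup K)).center = (T : Subgroup K) ⊓ center K := by
    refine le_antisymm ((factor_img_eq_bot_iff hE (isCentral_center _).1).1 ?_) (le_center hz)
    exact eq_bot_iff.2 (h0 ▸ le_core (factor_isNormal_img hE hc
      (isNormal_of_isCentral (isCentral_center _))))
  refine ⟨hsat, hy, fun D hD => ?_⟩
  obtain ⟨η, η', k, -⟩ := fsIso_factor (FsIso.refl _) hE hD ((img_id _).trans e.symm)
  exact fsIso_isSimple k hs

theorem red3 : Red3Stmt.{u} := by
  intro G _ _ _ S K hK h
  have hS := syl_sub S hK.1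
  obtain ⟨R, hR⟩ := hS.exists_sylow
  haveI := hK.2.1
  have := group_quasisimple R h
  rw [hR] at this
  exact fsIso_quasisimple (fsIso_subgroupOf hS.le) this

end Cfsg.Agent.H28.FkRed3
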