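import Mathlib
import Cfsg.Agent.H42.HtDefs

/-!
# Transport of a frame along a bijection of the points
-/

set_option autoImplicit false

namespace Cfsg.Agent.H28.HtTR

open Cfsg Cfsg.Agent.H63 Cfsg.Agent.H63.SL Cfsg.Agent.H63.AN Subgroup
open Cfsg.Agent.H7.AA
open Cfsg.Agent.H78 (c3 altOn symOn)
open Equiv (swap Perm)
open Equiv.Perm (sign)

universe u

variable {G : Type u} [Group G] {α β : Type} [Fintype α] [DecidableEq α] [Fintype β]
  [DecidableEq β] (e : β ≃ α) {ψ : alternatingGroup α →* G} {t : G}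

/-- The transported frame. -/
def tp (e : β ≃ α) (ψ : alternatingGroup α →* G) : alternatingGroup β →* G :=
  ψ.comp e.altCongrHom.toMonoidHom

theorem eqns : True := by
  have := @tp.eq_1.{0}
  trivial

theorem sign_pc (σ : Perm β) : sign (e.permCongrHom σ) = sign σ :=
  Equiv.Perm.sign_permCongr e σ

omit [Fintype α] [DecidableEq α] [Fintype β] [DecidableEq β] in
theorem pc_apply (σ : Perm β) (x : β) : e.permCongrHom σ (e x) = e (σ x) := by
  simp [Equiv.permCongr_apply]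

omit [Fintype α] [Fintype β] in
theorem pc_swap (a b : β) : e.permCongrHom (swap a b) = swap (e a) (e b) := by
  refine Equiv.ext fun x => ?_
  obtain ⟨y, rfl⟩ := e.surjective x
  rw [pc_apply, e.injective.swap_apply]

theorem card_pc (σ : Perm β) : (e.permCongrHom σ).support.card = σ.support.card := by
  rw [← Finset.card_map e.toEmbedding]
  congr 1
  ext x
  obtain ⟨y, rfl⟩ := e.surjective x
  rw [Equiv.Perm.mem_support, pc_apply, Finset.mem_map_equiv, Equiv.symm_apply_apply,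
    Equiv.Perm.mem_support, e.injective.ne_iff]

theorem ev_tp (σ : Perm β) : ev (tp e ψ) σ = ev ψ (e.permCongrHom σ) := by
  by_cases h : sign σ = 1
  · rw [ev_of h, ev_of ((sign_pc e σ).trans h)]
    rfl
  · have h' : ¬ sign (e.permCongrHom σ) = 1 := by rwa [sign_pc]
    simp only [ev, dif_neg h, dif_neg h']

theorem range_tp : (tp e ψ).range = ψ.range := by
  ext x
  constructor
  · rintro ⟨σ, rfl⟩
    exact ⟨_, rfl⟩
  · rintro ⟨σ, rfl⟩
    obtain ⟨τ, rfl⟩ := e.altCongrHom.surjective σ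
    exact ⟨τ, rfl⟩

theorem KA_tp : KA (tp e ψ) = KA ψ := by rw [KA, KA, range_tp]

theorem NA_tp : NA (tp e ψ) = NA ψ := by rw [NA, NA, range_tp]

theorem acts_tp {g : G} {ρ : Perm β} : Acts (tp e ψ) g ρ ↔ Acts ψ g (e.permCongrHom ρ) := by
  constructor
  · intro h σ hσ
    obtain ⟨τ, rfl⟩ := e.permCongrHom.surjective σ
    have := h τ ((sign_pc e τ).symm.trans hσ)
    rwa [ev_tp, ev_tp, map_mul, map_mul, map_inv] at this
  · intro h σ hσ
    rw [ev_tp, ev_tp, map_mul, map_mul, map_inv]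
    exact h _ ((sign_pc e σ).trans hσ)

theorem bs_tp (h : Bs ψ t) : Bs (tp e ψ) t where
  nine := by rw [Fintype.card_congr e]; exact h.nine
  inj := h.inj.comp e.altCongrHom.injective
  t2 := h.t2
  t1 := h.t1
  tK := by rw [KA_tp]; exact h.tK
  cN := by rw [NA_tp]; exact h.cN
  r2 := by rw [KA_tp]; exact h.r2

theorem kit_tp (h : Kit ψ t) : Kit (tp e ψ) t where
  act g hg := by
    obtain ⟨ρ, hρ⟩ := h.act g hg
    obtain ⟨τ, rfl⟩ := e.permCongrHom.surjective ρ
    exact ⟨τ, (acts_tp e).2 hρ⟩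
  hom := by
    obtain ⟨π, hπ⟩ := h.hom
    refine ⟨e.permCongrHom.symm.toMonoidHom.comp π, fun g => (acts_tp e).2 ?_⟩
    change Acts ψ g.1 (e.permCongrHom (e.permCongrHom.symm (π g)))
    rw [MulEquiv.apply_symm_apply]
    exact hπ g
  tn σ := by rw [ev_tp]; exact h.tn _
  ev2 g ρ h1 h2 h3 h4 := by
    rw [ev_tp]
    exact h.ev2 g _ h1 h2 ((acts_tp e).1 h3) ((sign_pc e ρ).trans h4)
  der := by rw [range_tp]; exact h.der
  nl σ := by rw [ev_tp]; exact h.nl _
  odd := by rw [KA_tp]; exact h.odd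
  cls d ρ h1 h2 a ha := by
    rw [ev_tp, ev_tp, map_mul, map_mul, map_mul, map_inv, map_inv]
    exact h.cls d _ h1 ((acts_tp e).1 h2) _ ((sign_pc e a).trans ha)
  typ p q hp hq hc := by
    obtain ⟨a, ha, h1⟩ := h.typ (e.permCongrHom p) (e.permCongrHom q)
      (by rw [← map_mul, hp, map_one]) (by rw [← map_mul, hq, map_one])
      (by rw [card_pc, card_pc, hc])
    obtain ⟨b, rfl⟩ := e.permCongrHom.surjective a
    refine ⟨b, (sign_pc e b).symm.trans ha, e.permCongrHom.injective ?_⟩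
    rw [map_mul, map_mul, map_inv, h1]

theorem gl_tp {X : Subgroup G} (h : Gl X ψ t) : Gl X (tp e ψ) t :=
  ⟨h.nrm, h.simple, h.cX, h.gen, by rw [range_tp]; exact h.le, h.sB⟩

theorem te_tp {k : ℕ} : TE (tp e ψ) t k ↔ TE ψ t k := by
  constructor
  · rintro ⟨p, h1, h2, h3, h4⟩
    rw [ev_tp] at h4
    exact ⟨_, by rw [← map_mul, h1, map_one], (sign_pc e p).trans h2, (card_pc e p).trans h3, h4⟩
  · rintro ⟨p, h1, h2, h3, h4⟩
    obtain ⟨q, rfl⟩ := e.permCongrHom.surjective p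
    refine ⟨q, e.permCongrHom.injective (by rw [map_mul, h1, map_one]),
      (sign_pc e q).symm.trans h2, (card_pc e q).symm.trans h3, ?_⟩
    rw [ev_tp]
    exact h4

theorem alt_pc {S : Finset β} {T : Finset α} (h : ∀ x, x ∈ S ↔ e x ∈ T) (σ : Perm β) :
    e.permCongrHom σ ∈ altOn T ↔ σ ∈ altOn S := by
  rw [H78.mem_altOn, H78.mem_altOn, sign_pc]
  refine and_congr_left' ⟨fun k x hx => e.injective ?_, fun k x hx => ?_⟩
  · rw [← pc_apply]
    exact k _ fun h' => hx ((h x).2 h')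
  · obtain ⟨y, rfl⟩ := e.surjective x
    rw [pc_apply, k y fun h' => hx ((h y).1 h')]

omit [DecidableEq α] in
theorem exists_equiv (h : Fintype.card α = 10) {ι : Type} [Finite ι] (f : ι → Fin 10) (g : ι → α)
    (hf : Function.Injective f) (hg : Function.Injective g) :
    ∃ e : Fin 10 ≃ α, ∀ i, e (f i) = g i := by
  let e0 : Fin 10 ≃ α := (Fintype.equivFinOfCardEq h).symm
  obtain ⟨σ, hσ⟩ := Equiv.Perm.exists_extending_pair (e0 ∘ f) g (e0.injective.comp hf) hg
  exact ⟨e0.trans σ, hσ⟩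

theorem tr : H42.HT.TrStmt.{u} := by
  intro ten G _ _ α _ _ ψ t b k a X g c x
  have key : ∀ e : Fin 10 ≃ α, ((∃ g, H42.HT.Sx (tp e ψ) t g) ∨
      ((∃ τ, D1 (tp e ψ) t τ (swap 0 1)) ∧ TE (tp e ψ) t 4 ∧ ¬ TE (tp e ψ) t 2)) →
      Spor.IsoHN X := fun e =>
    ten (tp e ψ) t (bs_tp e b) (kit_tp e k)
      (fun g => ⟨bs_tp e (a g).1, kit_tp e (a g).2⟩) X (gl_tp e g)
  rcases x with ⟨-, y, p, q, r, s, hs, hB⟩ | ⟨⟨d, p, q, hpq, hd⟩, h4, h2⟩
  · obtain ⟨e, he⟩ := exists_equiv c ![0, 1, 2, 3] ![p, q, r, s] (by decide)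
      (List.nodup_ofFn.1 (by simpa using hs.nd))
    have e0 : e 0 = p := he 0
    have e1 : e 1 = q := he 1
    have e2 : e 2 = r := he 2
    have e3 : e 3 = s := he 3
    have hw : e.permCongrHom H42.HT.w = d2 p q r s := by
      rw [H42.HT.w, d2, d2, map_mul, pc_swap, pc_swap, e0, e1, e2, e3]
    have hS : ∀ x : Fin 10, x ∈ ({0, 1, 2, 3}ᶜ : Finset (Fin 10)) ↔
        e x ∈ ({p, q, r, s}ᶜ : Finset α) := fun x => by
      rw [← e0, ← e1, ← e2, ← e3]
      simp only [Finset.mem_compl, Finset.mem_insert, Finset.mem_singleton, e.injective.eq_iff]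
    refine key e (Or.inl ⟨y, ?_, ?_, fun σ hσ => ?_⟩)
    · rw [ev_tp, hw]; exact hs.gt
    · rw [ev_tp, hw]; exact hs.gw
    · obtain ⟨τ, h1, h2, h3⟩ := hB _ ((alt_pc e hS σ).2 hσ)
      obtain ⟨τ', rfl⟩ := e.permCongrHom.surjective τ
      refine ⟨τ', (alt_pc e hS τ').1 h1, by rw [ev_tp, ev_tp, h2], fun h => ?_⟩
      rw [← card_pc e]
      exact h3 (card_support_eq_three_iff.1 ((card_pc e σ).trans h.card_support))
  · obtain ⟨e, he⟩ := exists_equiv c ![0, 1] ![p, q] (by decide)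
      (List.nodup_ofFn.1 (by simpa using hpq))
    have e0 : e 0 = p := he 0
    have e1 : e 1 = q := he 1
    refine key e (Or.inr ⟨⟨d, hd.cj, hd.cm, hd.ne, (acts_tp e).2 ?_⟩, (te_tp e).2 h4,
      fun h => h2 ((te_tp e).1 h)⟩)
    rw [pc_swap, e0, e1]
    exact hd.ac

end Cfsg.Agent.H28.HtTR
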