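import Mathlib
import Cfsg.Agent.H93.LT4Defs
import Cfsg.Agent.H10.LTBr1
import Cfsg.Agent.H52.Quasisimple

/-! The frame for a standard subgroup with Sylow subgroup `D₈` (project LT4, piece St). -/

set_option autoImplicit false
set_option linter.unusedSectionVars false

namespace Cfsg.Agent.H28.LtS

open Subgroup Cfsg.Agent.H85 Cfsg.Agent.H93.LT Cfsg.Agent.H10.LT
open scoped commutatorElement

universe u

variable {G : Type u} [Group G]

local notation "C[" A "]" => Subgroup.centralizer (SetLike.coe A)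
local notation "N[" A "]" => Subgroup.normalizer (SetLike.coe A)
local notation "C1[" x "]" => Subgroup.centralizer (Singleton.singleton x : Set _)

theorem cen_of_perfect {A : Subgroup G} (hp : Group.IsPerfect A) {c : G}
    (h : ∀ k ∈ A, c * k * c⁻¹ * k⁻¹ ∈ A ⊓ C[A]) : c ∈ C[A] := by
  have h1 : ⁅A, A⁆ ≤ C1[c] := commutator_le.2 fun k hk l hl => c1.2 (by
    obtain ⟨x, hx, e1⟩ : ∃ x ∈ C[A], c * k * c⁻¹ = x * k := ⟨_, (h k hk).2, by group⟩
    obtain ⟨y, hy, e2⟩ : ∃ y ∈ A ⊓ C[A], c * l * c⁻¹ = y * l := ⟨_, h l hl, by group⟩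
    have e3 : c * ⁅k, l⁆ * c⁻¹ = ⁅k, l⁆ := by
      rw [conjugate_commutatorElement, e1, e2]
      have a1 := hx _ (A.mul_mem (A.mul_mem hk (A.mul_mem hy.1 hl)) (A.inv_mem hk))
      have a2 := hy.2 _ (A.mul_mem (A.mul_mem (A.mul_mem hl (A.inv_mem hk)) (A.inv_mem hl))
        (A.one_mem))
      calc _ = (x * (k * (y * l) * k⁻¹)) * x⁻¹ * (y * l)⁻¹ := by
            rw [commutatorElement_def]; group
        _ = k * (y * (l * k⁻¹ * l⁻¹ * 1)) * y⁻¹ := by rw [← a1]; group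
        _ = _ := by rw [← a2, commutatorElement_def]; group
    rw [← mul_inv_eq_iff_eq_mul.1 e3])
  rw [commutator_eq_self] at h1
  exact fun k hk => c1.1 (h1 hk)

/-- the setting -/
structure Cy (A T D : Subgroup G) (a b z : G) : Prop where
  d8 : D8 D a b z
  sD : IsSyl 2 D A
  hT : IsPGroup 2 T
  DT : D ≤ T
  TK : T ≤ N[A]
  qs : IsQuasisimple A

namespace Cy

variable {A T D C C' : Subgroup G} {a b z r s : G} (x : Cy A T D a b z)
include x

theorem symm : Cy A T D b a z := ⟨x.d8.symm, x.sD, x.hT, x.DT, x.TK, x.qs⟩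

theorem TD : T ⊓ A = D := x.sD.eq_of_le x.hT.to_inf_left (le_inf x.DT x.sD.le) inf_le_right

theorem TN : T ≤ N[D] := x.TD ▸ le_normalizer_inf le_normalizer x.TK

theorem zC : z ∈ T ⊓ C[D] := ⟨x.DT x.d8.zD, fun _ hd => (x.d8.zc hd).symm⟩

theorem cz {c : G} (hc : c ∈ T ⊓ C[D]) : z * c = c * z := hc.2 z x.d8.zD

variable [Finite G]

theorem hK (N : Subgroup A) : N.index ≠ 2 := fun hN => by
  have := normal_of_index_eq_two hN
  have := x.qs.1
  have : Fact (Nat.Prime 2) := ⟨Nat.prime_two⟩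
  have : IsCyclic (A ⧸ N) := isCyclic_of_prime_card hN
  have : Nat.card (A ⧸ N) = 1 := Nat.card_unique
  exact absurd (this.symm.trans hN) (by decide)

theorem side : ∃ r, Sd A (T ⊓ C[D]) a z r := x.d8.side x.sD x.hK x.hT x.DT x.TK

theorem azr (hr : Sd A C a z r) : cn (a * z) r = z := by
  rw [cn_mul, hr.zr, hr.ar, mul_assoc, x.d8.zc x.d8.aD, ← mul_assoc, x.d8.rel.1, one_mul]

/-- `c` is not conjugate to `c z` -/
theorem nz {c k : G} (hc : c ∈ T ⊓ C[D]) (hk : k ∈ A) : cn c k ≠ c * z := fun e => by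
  have hA : zpowers c ≤ T := zpowers_le.2 hc.1
  have sS := syl_sup x.sD (hA.trans x.TK) (x.hT.to_le (sup_le x.DT hA))
  have c1' : D ⊔ zpowers c ≤ C1[c] := sup_le (fun d hd => c1.2 (hc.2 d hd)) (zpowers_le.2 (c1.2 rfl))
  have c2 : D ⊔ zpowers c ≤ C1[c * z] := sup_le
    (fun d hd => c1.2 ((mul_mem hc x.zC).2 d hd)) (zpowers_le.2 (c1.2 (by rw [mul_assoc, x.cz hc])))
  have kY : k⁻¹ ∈ A ⊔ zpowers c := mem_sup_left (inv_mem hk)
  obtain ⟨m, hm, e1⟩ := ((sS.cj_of_mem kY).of_le (K := (A ⊔ zpowers c) ⊓ C1[c * z])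
    (le_inf (cj_le_of_mem sS.le kY) fun y hy => c1.2 (by
      have := c1.1 (c1' (mem_cj.1 hy))
      rw [← e]
      calc _ = k⁻¹ * (k⁻¹⁻¹ * y * k⁻¹ * c) * k := by simp only [cn]; group
        _ = _ := by rw [this]; simp only [cn]; group)) inf_le_left).exists_cj_eq
    (sS.of_le (le_inf sS.le c2) inf_le_left)
  rw [← cj_mul, cj_eq_iff_mem_normalizer] at e1
  have nY := Subgroup.inv_mem _ (Subgroup.mul_mem _ hm.1 kY)
  have nS := inv_mem e1
  have e2 : cn c (m * k⁻¹)⁻¹ = c * z := by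
    rw [mul_inv_rev, inv_inv, cn_cn, e, cn_of (c1.1 (Subgroup.inv_mem _ hm.2)).symm]
  generalize (m * k⁻¹)⁻¹ = n at nY nS e2
  have nD : n ∈ N[D] := by
    rw [← show (D ⊔ zpowers c) ⊓ A = D from le_antisymm
      ((inf_le_inf_right _ (sup_le x.DT hA)).trans x.TD.le) (le_inf le_sup_left x.sD.le)]
    exact inf_normalizer_le_normalizer_inf ⟨nS, sup_le le_normalizer (hA.trans x.TK) nY⟩
  have := odd_trick sS nY nS c1' (c1.2 (of_cn (by
    rw [cn_cn, e2, cn_mul, e2, (x.d8.adj nD).1, mul_assoc, x.d8.rel.2.1, mul_one])).symm)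
  exact x.d8.rel.2.2.1 (mul_eq_left.1 (e2.symm.trans (cn_of (c1.1 this).symm)))

theorem iso0 (hr : Sd A C a z r) (hs : Sd A C' b z s) {c : G} (hc : c ∈ T ⊓ C[D])
    (h1 : r * c = c * r) (h2 : s * c = c * s) (h3 : c * c ∈ C[A]) : c ∈ C[A] := by
  by_contra H
  have hA : zpowers c ≤ T := zpowers_le.2 hc.1
  have AK := hA.trans x.TK
  have ST := sup_le x.DT hA
  have sS := syl_sup x.sD AK (x.hT.to_le ST)
  have YH : A ⊔ zpowers c ≤ C1[c * c] := sup_le (fun k hk => c1.2 (h3 k hk))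
    (zpowers_le.2 (c1.2 (mul_assoc c c c).symm))
  have cY : c ∈ A ⊔ zpowers c := mem_sup_right (mem_zpowers c)
  have AC : zpowers c ≤ C1[c] := zpowers_le.2 (c1.2 rfl)
  have ZK : zpowers (c * c) ≤ C[A] := zpowers_le.2 h3
  set Y := A ⊔ zpowers c with hY
  have : ((zpowers (c * c)).subgroupOf Y).Normal :=
    normal_subgroupOf_of_le_normalizer fun y hy => zp_n (c1.1 (YH hy))
  obtain ⟨N, n1, ⟨m, hm, n2⟩, n3⟩ := zq sS.toSylow ((zpowers (c * c)).subgroupOf Y)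
    (fun y hy => mem_sup_right (zpowers_le.2 (mul_mem (mem_zpowers c) (mem_zpowers c)) hy))
    (c := ⟨c, cY⟩) (mem_sup_right (mem_zpowers c)) (fun h => H (ZK h)) (mem_zpowers (c * c))
    fun ⟨g, hg⟩ hh => Subtype.ext (by
      obtain ⟨k, hk, v, hv, rfl⟩ := (mem_sup_of_le_normalizer AK).1 hg
      have e : k * v * c * (k * v)⁻¹ = cn c k⁻¹ := by
        rw [mul_assoc k, c1.1 (AC hv)]; simp only [cn]; group
      change k * v * c * (k * v)⁻¹ ∈ D ⊔ _ at hh
      change k * v * c * (k * v)⁻¹ = c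
      rw [e] at hh ⊢
      have hd : c⁻¹ * cn c k⁻¹ ∈ D := x.TD.le ⟨T.mul_mem (T.inv_mem hc.1) (ST hh), show _ ∈ A by
        rw [← mul_assoc, ← mul_assoc]
        exact mul_mem (cn_mem (x.TK hc.1) (inv_mem (inv_mem hk))) (inv_mem hk)⟩
      have k1 := inv_mem hk
      obtain ⟨d, e'⟩ : ∃ d, cn c k⁻¹ = c * d := ⟨_, (mul_inv_cancel_left _ _).symm⟩
      rw [e', inv_mul_cancel_left] at hd
      have d2 : d * d = 1 := by
        have := cn_of (h3 _ k1).symm
        rw [cn_mul, e', mul_assoc, ← mul_assoc d, hc.2 d hd, mul_assoc, ← mul_assoc] at this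
        exact mul_eq_left.1 this
      have f : ∀ w ∈ A, c * w = w * c → cn d w ≠ z := fun w hw cw dw =>
        x.nz hc (mul_mem k1 hw) (by rw [cn_cn, e', cn_mul, cn_of cw, dw])
      have rr : ∀ r, r * c = c * r → c * (r * r) = r * r * c := fun r e => by
        rw [← mul_assoc, ← e, mul_assoc, ← e, mul_assoc]
      rcases x.d8.inv hd d2 with rfl | rfl | rfl | rfl | rfl | rfl
      · rw [e', mul_one]
      · exact absurd e' (x.nz hc k1)
      · exact absurd (by rw [cn_cn, hr.ar, x.azr hr]) (f _ (mul_mem hr.mem hr.mem) (rr r h1))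
      · exact absurd (x.azr hr) (f _ hr.mem h1.symm)
      · exact absurd (by rw [cn_cn, hs.ar, x.symm.azr hs]) (f _ (mul_mem hs.mem hs.mem) (rr s h2))
      · exact absurd (x.symm.azr hs) (f _ hs.mem h2.symm))
  have nN : A ≤ N[N.map Y.subtype] := fun k hk =>
    le_normalizer_map Y.subtype ⟨⟨k, mem_sup_left hk⟩, (normalizer_eq_top N).ge trivial, rfl⟩
  have : ((N.map Y.subtype).subgroupOf A).Normal := normal_subgroupOf_of_le_normalizer nN
  rcases H52.IsQuasisimple.normal_eq_top_or_le_center x.qs ((N.map Y.subtype).subgroupOf A)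
    with e | e
  · obtain ⟨n, hn, e'⟩ : a ∈ N.map Y.subtype := e.ge (mem_top (⟨a, x.sD.le x.d8.aD⟩ : A))
    have a1 : a ∈ C[A] := mem_of_odd hm (ZK (e' ▸ n2 n hn)) (x.d8.rel.1 ▸ one_mem _)
    exact x.d8.rel.2.2.2.2.2.2.2 (a1 b (x.sD.le x.d8.symm.aD)).symm
  · refine H (cen_of_perfect x.qs.1 fun k hk => ?_)
    have m1 : c * k * c⁻¹ * k⁻¹ ∈ A :=
      mul_mem ((mem_normalizer_iff.1 (x.TK hc.1) k).1 hk) (inv_mem hk)
    exact ⟨m1, fun l hl => congrArg Subtype.val (mem_center_iff.1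
      (e (x := ⟨_, m1⟩) ⟨_, n3 ⟨k, mem_sup_left hk⟩, rfl⟩) ⟨l, hl⟩)⟩

theorem iso (hr : Sd A C a z r) (hs : Sd A C' b z s) {c : G} (hc : c ∈ T ⊓ C[D])
    (h1 : r * c = c * r) (h2 : s * c = c * s) : c ∈ C[A] := by
  obtain ⟨n, hn⟩ := x.hT ⟨c, hc.1⟩
  have : c ^ 2 ^ n ∈ C[A] := by
    rw [show c ^ 2 ^ n = 1 from congrArg Subtype.val hn]; exact one_mem _
  clear hn
  induction n with
  | zero => simpa using this
  | succ n ih =>
    exact ih (x.iso0 hr hs (pow_mem hc _) ((show Commute r c from h1).pow_right _).eq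
      ((show Commute s c from h2).pow_right _).eq (by rwa [pow_succ, pow_mul, pow_two] at this))

theorem out (hr : Sd A (T ⊓ C[D]) a z r) {v : G} (hv : v ∈ T) (h0 : v ∉ D ⊔ T ⊓ C[D]) {c : G}
    (hc : c ∈ T ⊓ C[D]) (cv : Commute c v) : c ∈ C[A] ∨ c * z ∈ C[A] := by
  obtain ⟨e0, d, hd, e | e⟩ := x.d8.adj (x.TN hv)
  · refine absurd ?_ h0
    rw [← mul_inv_cancel_right v d]
    exact mul_mem (mem_sup_right ⟨mul_mem hv (x.DT hd),
      x.d8.cen (of_cn e.1).symm (of_cn e.2).symm⟩) (mem_sup_left (inv_mem hd))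
  have e1 : cn z (v * d) = z := by rw [cn_cn, e0, cn_of (x.d8.zc hd)]
  have e2 : cn c (v * d) = c := by rw [cn_cn, cn_of cv.eq, cn_of (hc.2 d hd).symm]
  have wT := mul_mem hv (x.DT hd)
  generalize v * d = w at e e1 e2 wT
  have k : ∀ y, cn (cn y w) (cn r w) = cn (cn y r) w := fun y => by simp only [cn]; group
  have hs : Sd A ⊥ b z (cn r w) := ⟨cn_mem (x.TK wT) hr.mem,
    by rw [show orderOf (cn r w) = orderOf r from by
      simpa [cn] using (MulAut.conj w⁻¹).orderOf_eq r]; exact hr.odd,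
    by rw [← e1, k, hr.zr, e.1], by rw [← e.1, k, hr.ar, cn_mul, e1],
    fun y hy => .inl (by rw [mem_bot.1 hy, mul_one, one_mul])⟩
  have key : ∀ y ∈ T ⊓ C[D], cn y w = y → r * y = y * r → y ∈ C[A] := fun y hy y1 y2 =>
    x.iso hr hs hy y2 (by rw [← y1, ← cn_mul, ← cn_mul, y2])
  rcases hr.fix c hc with h | h
  · exact .inl (key c hc e2 h)
  · exact .inr (key _ (mul_mem hc x.zC) (by rw [cn_mul, e1, e2]) h)

end Cy

theorem stStmt : StStmt.{u} := by
  intro G _ _ A hA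
  have : Fact (Nat.Prime 2) := ⟨Nat.prime_two⟩
  obtain ⟨T, sT⟩ := exists_isSyl 2 (N[A])
  have sD : IsSyl 2 (T ⊓ A) A := sT.inf_of_le_normalizer le_normalizer le_rfl
  obtain ⟨e⟩ := hA.2.2 sD.toSylow
  obtain ⟨a, b, z, d8⟩ := exists_D8 (D := T ⊓ A) ((subgroupOfEquivOfLe sD.le).symm.trans e)
  have x : Cy A T (T ⊓ A) a b z := ⟨d8, sD, sT.isPGroup, inf_le_left, sT.le, hA.1.1⟩
  obtain ⟨r, hr⟩ := x.side
  obtain ⟨s, hs⟩ := x.symm.side
  have sR : IsSyl 2 (T ⊓ C[A]) C[A] := sT.inf_of_le_normalizer (centralizer_le_normalizer _)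
    (normalizer_le_normalizer_centralizer A)
  refine ⟨⟨A, T, T ⊓ A, a, b, z, r, s, hA, sT, rfl, sD, d8, hr, hs, fun u g u2 u1 hu hg => ?_,
    fun c hc h1 h2 => x.iso hr hs hc h1 h2, fun v hv h0 c hc cv => x.out hr hv h0 hc cv,
    fun h4 => ?_, fun h1 u hu v hv u2 v2 u1 v1 => ?_⟩, rfl⟩
  · by_contra h
    rw [hA.1.2.2.2] at h
    have h1 := (hA.1.2.1.2 g h).of_dvd_nat (orderOf_dvd_natCard _
      (⟨hu, cn u g, hg, cn_inv rfl⟩ : u ∈ C[A] ⊓ (C[A]).map (MulAut.conj g).toMonoidHom))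
    rw [orderOf_eq_prime (by rw [pow_two, u2]) u1] at h1
    exact absurd h1 (by decide)
  · exact Nat.le_of_dvd Nat.card_pos (Nat.card_congr (subgroupOfEquivOfLe sR.le).toEquiv ▸
      sR.toSylow.pow_dvd_card_of_pow_dvd_card (n := 2) h4)
  · obtain ⟨t, t1, t2, t3, t4⟩ := H81.exists_fixed_of_normalized sR.isPGroup sR.isPGroup
      le_normalizer fun e => u1 (mem_bot.1 (e ▸ hu))
    have key : ∀ w ∈ T ⊓ C[A], w * w = 1 → w ≠ 1 → w = t := fun w hw w2 w1 => by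
      by_contra ne
      refine H81.not_pRankLE_iff.2 ⟨zpowers w ⊔ zpowers t,
        sup_le (zpowers_le.2 hw.2) (zpowers_le.2 t1.2), H81.isEA_sup_zpowers ⟨inferInstance,
          fun y hy => ?_⟩ t4 fun y hy => t2 y (zpowers_le.2 hw hy), ?_⟩ h1
      · rcases mem_zp w2 hy with rfl | rfl
        · simp
        · rw [pow_two, w2]
      · rw [H81.card_sup_zpowers t4 (fun h => (mem_zp w2 h).elim t3 (Ne.symm ne))
          (zp_n (t2 w hw).symm), Nat.card_zpowers, orderOf_eq_prime (by rw [pow_two, w2]) w1]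
        rfl
    rw [key u hu u2 u1, key v hv v2 v1]

end Cfsg.Agent.H28.LtS
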