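import Mathlib
import Cfsg.Agent.H48.M2Defs

/-! Maximal 2-local subgroups of the Monster: two singular subspaces of opposite kind. -/

set_option autoImplicit false

namespace Cfsg.Agent.H48.M2

open Cfsg Subgroup Cfsg.Agent.H48 Cfsg.Agent.H48.Rec Cfsg.Agent.H49 Cfsg.Agent.H95.Par
open Cfsg.Agent.H97.Gr (DD ZZ)
open Cfsg.Agent.H97.Yt (M)

namespace TR5

theorem z2_eq : ∀ x y : ZMod 2, (x = 0 ↔ y = 0) → x = y := by decide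

theorem z2_pol : ∀ x y z : ZMod 2, x + y + z = x - y - z := by decide

theorem key {A : Subgroup M} {w : M} {α β γ : M → V8} {t : V8 → V8 → V8} {q1 q3 : V8 → ZMod 2}
    (hF : ∃ ν q, Frm A ν q) (m : Md A w α β γ t q1 q3) {u c : M} (hu : u ∈ A ⊓ Qz w)
    (hz : u ∈ ZZ) (hc : c ∈ A ⊓ Qz w) : c ∈ Qz u ↔ B3 q3 (α u) (α c) = 0 := by
  obtain ⟨ν, q, f⟩ := hF
  have n0 : ν 0 = 1 := by simpa using f.add 0 0
  have e : ∀ a, ν a ∈ A ⊓ Qz w → q3 (α (ν a)) = q a := fun a ha => z2_eq _ _ (by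
    rw [m.a_q _ ha, f.sing, ← n0, f.inj.eq_iff])
  obtain ⟨a, rfl⟩ := (f.mem u).1 hu.1
  obtain ⟨b, rfl⟩ := (f.mem c).1 hc.1
  have h := mul_mem hu hc
  rw [f.perp a hz, B3, ← m.a_add _ hu _ hc, ← f.add] at *
  rw [e _ h, e _ hu, e _ hc, z2_pol, QuadraticMap.polar]

theorem cen {A : Subgroup M} {a x : M} (ha : a ∈ A) (hx : x ∈ CP A) : a * x = x * a := hx a ha

theorem dec {A : Subgroup M} (P : PFa A) {u p : M} (hu : u ∈ A) (hz : u ∈ ZZ)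
    (hp : p ∈ Qz u ⊔ A) (hc : p ∈ CP A) : ∃ p₁ ∈ Qz u ⊓ CP A, ∃ a ∈ A, p = p₁ * a := by
  rw [sup_comm, mem_sup_of_le_normalizer' fun a ha => n_Qz hz (P.el.cm ha hu)] at hp
  obtain ⟨a, ha, q, hq, rfl⟩ := hp
  have h1 : a ∈ CP A := fun b hb => P.el.cm hb ha
  have h2 : q ∈ CP A := ((CP A).mul_mem_cancel_left h1).1 hc
  exact ⟨q, ⟨hq, h2⟩, a, ha, cen ha h2⟩

end TR5

open TR5 in
theorem tr5_of (gm : GmStmt) (usm : UsmStmt) (qa : QaStmt) (pf : PfStmt) (form : FormStmt) :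
    Tr5Stmt := by
  intro A w w' p p' hA hw hz hw' hz' hn sp sp' hc
  have P := pf A hA
  obtain ⟨α, β, γ, t, q1, q3, T, m⟩ := gm A hA w hw hz
  obtain ⟨p₀, h0, ha, b0, b1, hU⟩ := usm A w α β γ t q1 q3 hA hw hz T m p sp
  obtain ⟨p₁, h1, a', ha', rfl⟩ := dec P hw' hz' sp'.qa sp'.cp
  obtain ⟨a, rfl⟩ : ∃ a, p = p₀ * a := ⟨p₀⁻¹ * p, (mul_inv_cancel_left _ _).symm⟩
  rw [inv_mul_cancel_left] at ha
  have g0 : γ p₁ ≠ 0 := fun e =>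
    sp'.out (mul_mem (P.tr w hw hz w' hw' hz' hn ⟨h1, (m.c_ker _ h1.2).1 e⟩) ha')
  have c01 : p₁ * p₀ * p₁⁻¹ * p₀⁻¹ = 1 := by
    have e1 : p₀ * a * (p₁ * a') = p₀ * p₁ * (a * a') := by
      rw [mul_assoc, ← mul_assoc a, cen ha h1.2]; group
    have e2 : p₁ * a' * (p₀ * a) = p₁ * p₀ * (a * a') := by
      rw [mul_assoc, ← mul_assoc a', cen ha' h0.2, P.el.cm ha ha']; group
    rw [e1, e2, mul_left_inj] at hc
    rw [← hc]; group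
  have t0 : t (γ p₁) (β p₀) = 0 := by
    rw [← (m.act _ h1.2 _ h0).2, c01]
    exact (m.a_ker 1 (one_mem _)).2 (Or.inl rfl)
  have wn : w ∉ Qz w' := fun e => hn (sym hz' hz e)
  have ww : w ∈ A ⊓ Qz w := ⟨hw, (lx hz).mem⟩
  refine (T.l5 _ _ b0 g0 b1 t0).trans ?_
  rw [← SetLike.coe_sort_coe, Nat.card_coe_set_eq]
  refine le_trans (Set.ncard_le_ncard ?_ (Set.toFinite _)) (Set.ncard_image_le (f := α))
  rintro n ⟨n1, n2⟩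
  obtain ⟨u, hu, hu', rfl⟩ : ∃ u ∈ A ⊓ Qz w, u ∈ Qz w' ∧ α u = n := by
    obtain ⟨u, hu, e⟩ := m.a_sur n
    by_cases h : u ∈ Qz w'
    · exact ⟨u, hu, h, e⟩
    · refine ⟨u * w, mul_mem hu ww,
        P.ix w' hw' hz' u (mem_sup_right hu.1) w (mem_sup_right hw) h wn, ?_⟩
      rw [m.a_add _ hu _ ww, (m.a_ker w ww).2 (Or.inr rfl), add_zero, e]
  refine ⟨u, ⟨(hU u).2 ⟨hu, n1⟩, ?_⟩, rfl⟩
  rcases (m.a_q u hu).1 ((T.l1 _ b0 b1).2.1 _ n1) with rfl | uz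
  · exact one_mem _
  refine subset_closure ⟨hu.1, uz, (qa A hA u hu.1 uz _ sp'.cp).2 fun x hx => ?_⟩
  obtain ⟨x1, hx1, x2, hx2, a'', ha'', rfl⟩ := P.pd w hw hz w' hw' hz' hn x hx
  have k1 : p₁ * x1 * p₁⁻¹ * x1⁻¹ ∈ Qz u := by
    obtain ⟨k2, k3⟩ := m.act _ h1.2 _ hx1
    rw [key (form A hA) m hu uz k2, k3]
    exact n2 _
  have e1 : x1 * x2 * a'' * (p₁ * a') * (x1 * x2 * a'')⁻¹ * (p₁ * a')⁻¹ =
      x1 * (x2 * p₁ * x2⁻¹ * p₁⁻¹) * x1⁻¹ * (p₁ * x1 * p₁⁻¹ * x1⁻¹)⁻¹ := by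
    have e2 : a'' * (p₁ * a') = p₁ * a' * a'' := cen ha'' sp'.cp
    have e3 : a' * (x1 * x2)⁻¹ = (x1 * x2)⁻¹ * a' := cen ha' (inv_mem (mul_mem hx1.2 hx2.2))
    calc x1 * x2 * a'' * (p₁ * a') * (x1 * x2 * a'')⁻¹ * (p₁ * a')⁻¹
        = x1 * x2 * (a'' * (p₁ * a')) * a''⁻¹ * (x1 * x2)⁻¹ * (p₁ * a')⁻¹ := by group
      _ = x1 * x2 * p₁ * (a' * (x1 * x2)⁻¹) * (p₁ * a')⁻¹ := by rw [e2]; group
      _ = _ := by rw [e3]; group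
  rw [e1]
  refine mul_mem ?_ (inv_mem k1)
  rcases (lx hz').comm x2 hx2.1 p₁ h1.1 with e | e
  · rw [e]
    simpa using one_mem _
  · have e4 : x2 * p₁ * x2⁻¹ * p₁⁻¹ = w' := by
      rw [e, ← cen hw' (mul_mem h1.2 hx2.2)]; group
    rw [e4, ← cen hw' hx1.2, mul_inv_cancel_right]
    exact sym hz' uz hu'

end Cfsg.Agent.H48.M2
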