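import Mathlib
import Cfsg.Agent.H53.MWDefs2

/-!
# Class numbers of solvable linear groups (project MW2, piece LIN)
-/

set_option autoImplicit false

namespace Cfsg.Agent.H28.MwL

open MulAction Cfsg.Agent.H12.RO Cfsg.Agent.H53.MW

universe u

theorem num8 (k : ℕ) : 10 * (k + 6) ^ 8 ≤ 1475 * 11 ^ (k + 4) := by
  induction k with
  | zero => norm_num
  | succ k ih =>
    have h1 : (6 * (k + 1 + 6)) ^ 8 ≤ (7 * (k + 6)) ^ 8 := Nat.pow_le_pow_left (by omega) 8
    rw [mul_pow, mul_pow] at h1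
    rw [show k + 1 + 4 = k + 4 + 1 from rfl, pow_succ 11]
    omega

theorem num {m s p : ℕ} (hp : 11 ≤ p) (hm : 2 ≤ m) (h1 : s ≤ m.factorial) (h5 : m = 5 → s ≤ 20)
    (h6 : 5 * s ≤ m ^ 4) : 10 * s ^ 2 * p ^ 2 ≤ 59 * p ^ m := by
  obtain ⟨k, rfl⟩ : ∃ k, m = k + 2 := ⟨m - 2, by omega⟩
  rw [pow_add, ← mul_assoc]
  refine Nat.mul_le_mul_right _ (le_trans ?_ (Nat.mul_le_mul_left 59 (Nat.pow_le_pow_left hp k)))
  rcases lt_or_ge k 4 with h | h
  · interval_cases k
    · have : s ≤ 2 := h1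
      nlinarith
    · have : s ≤ 6 := h1
      nlinarith
    · have : s ≤ 24 := h1
      nlinarith
    · have := h5 rfl
      nlinarith
  · obtain ⟨j, rfl⟩ : ∃ j, k = j + 4 := ⟨k - 4, by omega⟩
    have h2 := num8 j
    have h3 := Nat.pow_le_pow_left h6 2
    rw [mul_pow, ← pow_mul, show j + 4 + 2 = j + 6 from rfl, show 4 * 2 = 8 from rfl] at h3
    omega

theorem cp_nonneg (G V : Type*) [Group G] [MulAction G V] : 0 ≤ cp G V := by
  unfold cp commProb; positivity

theorem of_big (C : CpKit.{u}) {p : ℕ} (hp : 11 ≤ p) (G V : Type u) [Group G] [Finite G]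
    [AddCommGroup V] [Finite V] [DistribMulAction G V]
    (h : 10 * (p : ℚ) ^ 2 ≤ 59 * (cp G V * Nat.card V)) : Lin p G V := by
  have hp' : (11 : ℚ) ≤ p := by exact_mod_cast hp
  refine ⟨by nlinarith, fun h1 => ?_⟩
  obtain ⟨h2, h3, -⟩ := C.am G V
  have h4 : (121 : ℚ) ≤ Nat.card V := by
    have : 11 ^ 2 ≤ Nat.card V := (Nat.pow_le_pow_left hp 2).trans h1
    exact_mod_cast this
  have h5 := cp_nonneg G V
  have h6 : (2 : ℚ) ≤ ko G V := by exact_mod_cast h3
  have h7 : (49 * (p : ℚ)) ^ 2 ≤ (60 * ((ko G V : ℚ) - 1)) ^ 2 := by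
    have := mul_nonneg h5 (sub_nonneg.2 h4)
    nlinarith
  have h8 : 49 * (p : ℚ) ≤ 60 * ((ko G V : ℚ) - 1) :=
    (pow_le_pow_iff_left₀ (by positivity) (by linarith) two_ne_zero).1 h7
  have : (49 * p + 60 : ℚ) ≤ 60 * ko G V := by linarith
  exact_mod_cast this

theorem lin (pk : PkStmt.{u}) (C : CpKit.{u}) (O : OrdKit.{u})
    (h1 : LinP.{u} fun e => e = 1 ∨ 5 ≤ e) (h2 : LinP.{u} fun e => e = 2)
    (h3 : LinP.{u} fun e => e = 3 ∨ e = 4) : LinStmt.{u} := by
  intro p hp h11 G V _ _ _ _ _ hV _ hcr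
  have hp' : (11 : ℚ) ≤ p := by exact_mod_cast h11
  refine ind (fun G V _ _ _ => Nontrivial V → (∀ v : V, p • v = 0) → Lin p G V) ?_ ?_ ?_ ?_ ?_
    G V hcr hV
  · intro G V _ _ _ _ h
    exact absurd h (not_nontrivial V)
  · intro G V _ _ _ _ _ _ U W hU hW _ k1 k2 k3 k4 iU iW _ hk
    have a1 := (iU ((AddSubgroup.nontrivial_iff_ne_bot U).2 k1) fun v => Subtype.ext (hk v)).1
    have a2 := (iW ((AddSubgroup.nontrivial_iff_ne_bot W).2 k2) fun v => Subtype.ext (hk v)).1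
    have a3 := C.sum G V U W hU hW k4
    have a4 : Nat.card U * Nat.card W ≤ Nat.card V := by
      rw [← Nat.card_prod]
      refine Nat.card_le_card_of_injective (fun x : U × W => (x.1 : V) + x.2) fun x y e => ?_
      have e1 : (x.1 : V) - y.1 = y.2 - x.2 := by
        rw [sub_eq_sub_iff_add_eq_add, add_comm (y.2 : V)]; exact e
      have e2 : (x.1 : V) - y.1 ∈ U ⊓ W := 
        AddSubgroup.mem_inf.2 ⟨U.sub_mem x.1.2 y.1.2, e1 ▸ W.sub_mem y.2.2 x.2.2⟩
      rw [k3, AddSubgroup.mem_bot] at e2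
      exact Prod.ext (Subtype.ext (sub_eq_zero.1 e2))
        (Subtype.ext (sub_eq_zero.1 (e1 ▸ e2)).symm)
    have a5 : (Nat.card U : ℚ) * Nat.card W ≤ Nat.card V := by exact_mod_cast a4
    refine of_big C h11 G V ?_
    have a6 := mul_le_mul a1 a2 (by positivity) (le_trans (by positivity) a1)
    have a7 := mul_le_mul a3 a5 (by positivity) (cp_nonneg G V)
    nlinarith
  · intro G G' V _ _ _ _ _ _ _ f hf e i hn hk
    obtain ⟨-, e1, e2⟩ := C.quot G G' V f hf e
    have := i hn hk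
    unfold Lin at this ⊢
    rwa [e1, e2]
  · intro G V _ _ _ _ _ _ _ hf hpr _ _ hk
    obtain ⟨K, _, _, _, W, _, _, _, σ, U, To, E, M, π, b, e, P⟩ := pk G V hf hpr
    have := P.pos
    rcases (by omega : (e = 1 ∨ 5 ≤ e) ∨ e = 2 ∨ (e = 3 ∨ e = 4)) with h | h | h
    · exact h1 G V K W σ U To E M π b e P h p hp h11 hk
    · exact h2 G V K W σ U To E M π b e P h p hp h11 hk
    · exact h3 G V K W σ U To E M π b e P h p hp h11 hk
  · intro G V Ω N _ _ _ _ _ _ _ _ _ _ _ _ _ hirr S A IH _ hk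
    have a1 := C.sys G V Ω S p (by positivity) fun ω => by
      letI := subAct (S.inv_range ω)
      obtain ⟨x, hx⟩ := S.ne ω
      exact (IH (stabilizer G ω) (S.e ω).range (S.card_range_lt ω) (S.irr_range hirr ω).cr
        ⟨⟨⟨_, x, rfl⟩, 0, fun e => hx (congrArg Subtype.val e)⟩⟩ fun v => Subtype.ext (hk v)).1
    have : Finite N := Finite.of_equiv _ A.e
    have : Nontrivial N := A.e.symm.nontrivial
    have hN : Nat.card N = Fintype.card Ω := by rw [← Nat.card_congr A.e, Nat.card_eq_fintype_card]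
    have b1 := O.aff G Ω N A
    have b2 := O.base G N A.irr.cr
    have b3 : Nat.card (img G Ω) ≤ (Fintype.card Ω).factorial := by
      classical
      rw [← Fintype.card_perm, ← Nat.card_eq_fintype_card]
      exact Subgroup.card_le_card_group _
    have b4 := num (s := Nat.card (img G Ω)) h11 Fintype.one_lt_card b3 (fun e => by
      have := (O.prime G N (by rw [hN, e]; norm_num)).1
      rw [hN, e] at this
      rw [e] at b1
      omega) (by
      rw [hN] at b2
      rw [pow_succ']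
      nlinarith)
    have b5 : 10 * (Nat.card (img G Ω) : ℚ) ^ 2 * (p : ℚ) ^ 2 ≤ 59 * (p : ℚ) ^ Fintype.card Ω := by
      exact_mod_cast b4
    have b6 : (0 : ℚ) < (Nat.card (img G Ω) : ℚ) ^ 2 := by
      have : 0 < Nat.card (img G Ω) := Nat.card_pos
      positivity
    refine of_big C h11 G V (le_of_mul_le_mul_right ?_ b6)
    nlinarith

end Cfsg.Agent.H28.MwL
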