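import Mathlib
import Cfsg.Agent.H53.MWDefs2

/-!
# Orders of small linear groups (project MW2, pieces SQF and ORD)
-/

set_option autoImplicit false

namespace Cfsg.Agent.H28.MwS

open MulAction Cfsg.Agent.H12.RO Cfsg.Agent.H53.MW

universe u

theorem exists_pair {W A : Type*} [AddCommGroup W] [Finite W] [CommGroup A] (b : W → W → A)
    (hl : ∀ x y z, b (x + y) z = b x z * b y z) (hr : ∀ x y z, b x (y + z) = b x y * b x z)
    (hn : ∀ x, (∀ y, b x y = 1) → x = 0) :
    ∃ x y, orderOf (b x y) = AddMonoid.exponent W := by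
  obtain ⟨x, hx⟩ := AddMonoid.exists_addOrderOf_eq_exponent (G := W) AddMonoid.ExponentExists.of_finite
  let φ : Multiplicative W →* A := MonoidHom.mk' (fun y => b x y.toAdd) fun y z => hr x _ _
  have : Finite φ.range := Finite.of_surjective _ φ.rangeRestrict_surjective
  obtain ⟨⟨_, y, rfl⟩, hy⟩ := Monoid.exists_orderOf_eq_exponent (G := φ.range)
    Monoid.ExponentExists.of_finite
  refine ⟨x, y.toAdd, Nat.dvd_antisymm ?_ ?_⟩
  · refine orderOf_dvd_of_pow_eq_one ?_
    change φ y ^ _ = 1
    rw [← map_pow]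
    have : y ^ AddMonoid.exponent W = 1 := AddMonoid.exponent_nsmul_eq_zero y.toAdd
    rw [this, map_one]
  · rw [← hx]
    refine addOrderOf_dvd_of_nsmul_eq_zero (hn _ fun z => ?_)
    let ψ : Multiplicative W →* A := MonoidHom.mk' (fun y => b y.toAdd z) fun y y' => hl _ _ z
    have h1 : b (orderOf (b x y.toAdd) • x) z = b x z ^ orderOf (b x y.toAdd) :=
      map_pow ψ (Multiplicative.ofAdd x) _
    have h2 := Monoid.pow_exponent_eq_one (⟨φ (Multiplicative.ofAdd z), _, rfl⟩ : φ.range)
    rw [← hy, ← Subgroup.orderOf_coe] at h2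
    rw [h1]
    exact congrArg Subtype.val h2

theorem sqf : SqfStmt'.{u} := by
  intro G W A _ _ _ _ _ _ b e he hs hc hl hr h0 hn hg
  obtain ⟨x, y, hxy⟩ := exists_pair b hl hr hn
  have pl : ∀ (n : ℕ) (a c : W), b (n • a) c = b a c ^ n := fun n a c =>
    map_pow (MonoidHom.mk' (fun y : Multiplicative W => b y.toAdd c) fun y y' => hl _ _ c)
      (Multiplicative.ofAdd a) n
  have pr : ∀ (n : ℕ) (a c : W), b a (n • c) = b a c ^ n := fun n a c =>
    map_pow (MonoidHom.mk' (fun y : Multiplicative W => b a y.toAdd) fun y y' => hr a _ _)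
      (Multiplicative.ofAdd c) n
  set d := AddMonoid.exponent W with hd
  have d0 : 0 < d := AddMonoid.ExponentExists.of_finite.exponent_pos
  let F : Fin d × Fin d → W := fun i => (i.1 : ℕ) • x + (i.2 : ℕ) • y
  have hF : Function.Injective F := by
    intro i j h
    have h1 := congrArg (b x) h
    have h2 := congrArg (b · y) h
    simp only [F, hl, hr, pl, pr, h0, one_pow, one_mul, mul_one] at h1 h2
    refine Prod.ext (Fin.ext ?_) (Fin.ext ?_)
    · exact pow_injOn_Iio_orderOf (by rw [hxy]; exact i.1.2) (by rw [hxy]; exact j.1.2) h2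
    · exact pow_injOn_Iio_orderOf (by rw [hxy]; exact i.2.2) (by rw [hxy]; exact j.2.2) h1
  have h1 : d ≤ e := by
    have := Nat.card_le_card_of_injective F hF
    rw [hc, Nat.card_prod, Nat.card_eq_fintype_card, Fintype.card_fin, ← pow_two] at this
    exact (Nat.pow_le_pow_iff_left two_ne_zero).1 this
  have h2 : e ∣ d := by
    rw [← Nat.prod_primeFactors_of_squarefree hs]
    refine Finset.prod_primes_dvd _ (fun r hr => (Nat.prime_of_mem_primeFactors hr).prime)
      fun r hr => ?_
    have : Fact r.Prime := ⟨Nat.prime_of_mem_primeFactors hr⟩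
    obtain ⟨z, hz⟩ := exists_prime_addOrderOf_dvd_card' (G := W) r
      (hc ▸ (Nat.dvd_of_mem_primeFactors hr).trans (dvd_pow_self e two_ne_zero))
    exact hz ▸ AddMonoid.addOrder_dvd_exponent z
  have h3 : d = e := le_antisymm h1 (Nat.le_of_dvd d0 h2)
  have hS : Function.Surjective F := by
    refine (Function.Injective.bijective_of_nat_card_le hF ?_).2
    rw [hc, Nat.card_prod, Nat.card_eq_fintype_card, Fintype.card_fin, ← pow_two, h3]
  have hx : x ≠ 0 := by
    rintro rfl
    have := pl 0 0 y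
    rw [pow_zero, zero_nsmul] at this
    rw [this, orderOf_one] at hxy
    omega
  have a1 : (orbit (img G W) x).ncard ≤ e ^ 2 - 1 := by
    have : orbit (img G W) x ⊆ {0}ᶜ := by
      rintro _ ⟨⟨_, g, rfl⟩, rfl⟩ h
      exact hx ((smul_eq_zero_iff_eq g).1 h)
    refine (Set.ncard_le_ncard this).trans ?_
    rw [Set.ncard_compl, Set.ncard_singleton, hc]
  have a2 : Nat.card (stabilizer (img G W) x) ≤ e := by
    have k : ∀ s : stabilizer (img G W) x, ∃ i : Fin d, s.1.1 y = (i : ℕ) • x + y := by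
      rintro ⟨⟨_, g, rfl⟩, hs⟩
      obtain ⟨i, hi⟩ := hS (g • y)
      have e1 : g • x = x := hs
      have e2 := hg g x y
      rw [e1, ← hi] at e2
      simp only [F, hr, pr, h0, one_pow, one_mul] at e2
      have e3 : (i.2 : ℕ) = 1 := pow_injOn_Iio_orderOf (x := b x y) (by rw [hxy]; exact i.2.2)
        (by rw [hxy]; change 1 < d; omega) (by simpa using e2)
      refine ⟨i.1, ?_⟩
      change g • y = _
      rw [← hi]
      simp only [F, e3, one_nsmul]
    choose f hf using k
    have := Nat.card_le_card_of_injective f fun s t h => by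
      have e1 := hf s
      rw [h, ← hf t] at e1
      obtain ⟨⟨_, g, rfl⟩, hs⟩ := s
      obtain ⟨⟨_, g', rfl⟩, ht⟩ := t
      refine Subtype.ext (Subtype.ext (Equiv.ext fun w => ?_))
      obtain ⟨i, rfl⟩ := hS w
      have e2 : g • x = x := hs
      have e3 : g' • x = x := ht
      have e4 : g • y = g' • y := e1
      change g • F i = g' • F i
      simp only [F, smul_add, smul_comm g, smul_comm g', e2, e3, e4]
    rwa [Nat.card_eq_fintype_card (α := Fin d), Fintype.card_fin, h3] at this
  rw [← Subgroup.card_mul_index (stabilizer (img G W) x), index_stabilizer]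
  exact Nat.mul_le_mul a2 a1

theorem mem_ker {G V : Type*} [Group G] [MulAction G V] {g : G} :
    g ∈ (toPermHom G V).ker ↔ ∀ v : V, g • v = v := by
  rw [MonoidHom.mem_ker, Equiv.ext_iff]; rfl

theorem img_sum {G V : Type*} [Group G] [Finite G] [AddCommGroup V] [DistribMulAction G V]
    {U W : AddSubgroup V} (hU : Inv G U) (hW : Inv G W) (h : U ⊔ W = ⊤) :
    Nat.card (img G V) ≤
      (letI := subAct hU; Nat.card (img G U)) * (letI := subAct hW; Nat.card (img G W)) := by
  letI := subAct hU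
  letI := subAct hW
  change Nat.card (img G V) ≤ Nat.card (img G U) * Nat.card (img G W)
  rw [← Subgroup.index_ker, ← Subgroup.index_ker, ← Subgroup.index_ker]
  refine le_trans (Subgroup.index_antitone fun g hg => mem_ker.2 fun v => ?_) Subgroup.index_inf_le
  obtain ⟨a, ha, c, hc, rfl⟩ := AddSubgroup.mem_sup.1 (h ▸ AddSubgroup.mem_top v : v ∈ U ⊔ W)
  have e1 : g • a = a := congrArg Subtype.val (mem_ker.1 hg.1 ⟨a, ha⟩)
  have e2 : g • c = c := congrArg Subtype.val (mem_ker.1 hg.2 ⟨c, hc⟩)
  rw [smul_add, e1, e2]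

theorem img_sys {G V Ω : Type*} [Group G] [Finite G] [AddCommGroup V] [DistribMulAction G V]
    [MulAction G Ω] [Fintype Ω] [Nonempty Ω] (S : Sys G V Ω) :
    Nat.card (img G V) ≤
      (∏ ω, (letI := subAct (S.inv_range ω); Nat.card (img (stabilizer G ω) (S.e ω).range))) *
        Nat.card (img G Ω) := by
  let K : Ω → Subgroup G := fun ω =>
    letI := subAct (S.inv_range ω)
    (toPermHom (stabilizer G ω) (S.e ω).range).ker.map (stabilizer G ω).subtype
  have h1 : (⨅ ω, K ω) ⊓ (toPermHom G Ω).ker ≤ (toPermHom G V).ker := by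
    intro g hg
    refine mem_ker.2 fun v => ?_
    conv_lhs => rw [← S.sum v]
    rw [Finset.smul_sum]
    conv_rhs => rw [← S.sum v]
    refine Finset.sum_congr rfl fun ω _ => ?_
    letI := subAct (S.inv_range ω)
    obtain ⟨k, hk, rfl⟩ := Subgroup.mem_iInf.1 hg.1 ω
    exact congrArg Subtype.val (mem_ker.1 hk ⟨_, v, rfl⟩)
  rw [← Subgroup.index_ker, ← Subgroup.index_ker]
  refine (Subgroup.index_antitone h1).trans ?_
  rw [← Subgroup.relIndex_mul_index inf_le_right, Subgroup.inf_relIndex_right]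
  refine Nat.mul_le_mul_right _ ((Subgroup.relIndex_iInf_le K).trans
    (Finset.prod_le_prod' fun ω _ => ?_))
  letI := subAct (S.inv_range ω)
  have h2 : (K ω).relIndex (stabilizer G ω) = Nat.card (img (stabilizer G ω) (S.e ω).range) := by
    rw [← Subgroup.index_ker, Subgroup.relIndex, Subgroup.subgroupOf,
      Subgroup.comap_map_eq_self_of_injective (stabilizer G ω).subtype_injective]
  change _ ≤ Nat.card (img (stabilizer G ω) (S.e ω).range)
  rw [← h2]
  exact Subgroup.relIndex_le_of_le_right (fun g hg => mem_ker.1 hg ω) Subgroup.index_ne_zero_of_finite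

/-- the bound -/
def bd (k : ℕ) : ℕ := if k ≤ 1 then 1 else if k = 2 then 6 else if k = 3 then 36 else 72

theorem ord16 (pk : PkStmt.{u}) (O : OrdKit.{u}) : OrdStmt.{u} := by
  intro G W _ _ _ _ _ _ hcr hW
  refine ind (fun G V _ _ _ => ∀ k ≤ 4, Nat.card V = 2 ^ k → Nat.card (img G V) ≤ bd k)
    ?_ ?_ ?_ ?_ ?_ G W hcr 4 le_rfl hW
  · intro G V _ _ _ _ k _ _
    have : Nat.card (img G V) = 1 := Nat.card_unique
    rw [this]
    unfold bd
    split_ifs <;> omega
  · intro G V _ _ _ _ _ _ U W hU hW _ k1 k2 k3 k4 iU iW k hk h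
    have a1 := img_sum hU hW k4
    have a2 : Nat.card U * Nat.card W = 2 ^ k := by
      rw [← h, ← Nat.card_prod]
      refine Nat.card_eq_of_bijective (fun x : U × W => (x.1 : V) + x.2) ⟨fun x y e => ?_, fun v => ?_⟩
      · have e1 : (x.1 : V) - y.1 = y.2 - x.2 := by
          rw [sub_eq_sub_iff_add_eq_add, add_comm (y.2 : V)]; exact e
        have e2 : (x.1 : V) - y.1 ∈ U ⊓ W :=
          AddSubgroup.mem_inf.2 ⟨U.sub_mem x.1.2 y.1.2, e1 ▸ W.sub_mem y.2.2 x.2.2⟩
        rw [k3, AddSubgroup.mem_bot] at e2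
        exact Prod.ext (Subtype.ext (sub_eq_zero.1 e2))
          (Subtype.ext (sub_eq_zero.1 (e1 ▸ e2)).symm)
      · obtain ⟨a, ha, c, hc, rfl⟩ :=
          AddSubgroup.mem_sup.1 (k4 ▸ AddSubgroup.mem_top v : v ∈ U ⊔ W)
        exact ⟨(⟨a, ha⟩, ⟨c, hc⟩), rfl⟩
    obtain ⟨i, hi, e1⟩ := (Nat.dvd_prime_pow Nat.prime_two).1 (Dvd.intro _ a2)
    obtain ⟨j, hj, e2⟩ := (Nat.dvd_prime_pow Nat.prime_two).1 (Dvd.intro_left _ a2)
    have a3 := Nat.mul_le_mul (iU i (hi.trans hk) e1) (iW j (hj.trans hk) e2)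
    rw [e1, e2, ← pow_add] at a2
    have a4 := Nat.pow_right_injective le_rfl a2
    have a5 : i ≠ 0 := by
      rintro rfl
      exact k1 (AddSubgroup.card_eq_one.1 e1)
    have a6 : j ≠ 0 := by
      rintro rfl
      exact k2 (AddSubgroup.card_eq_one.1 e2)
    refine (a1.trans a3).trans ?_
    subst a4
    have : i ≤ 3 := by omega
    have : j ≤ 3 := by omega
    interval_cases i <;> interval_cases j <;> first | omega | decide
  · intro G G' V _ _ _ _ _ _ _ f hf e i k hk h
    have : img G V = img G' V := by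
      ext s
      constructor
      · rintro ⟨g, rfl⟩
        exact ⟨f g, Equiv.ext (e g)⟩
      · rintro ⟨g, rfl⟩
        obtain ⟨g, rfl⟩ := hf g
        exact ⟨g, (Equiv.ext (e g)).symm⟩
    rw [this]
    exact i k hk h
  · intro G V _ _ _ _ _ _ _ hf hpr _ k hk h
    obtain ⟨K, _, _, _, W, _, _, _, σ, U, To, E, M, π, b, e, P⟩ := pk G V hf hpr
    obtain ⟨c1, -, c3, c4, c5, -⟩ := O.pk G V K W σ U To E M π b e P
    have n0 : Module.finrank K V ≠ 0 := by
      intro e0
      rw [e0, pow_zero] at c1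
      exact (Finite.one_lt_card (α := V)).ne' c1
    obtain ⟨p, hp⟩ := CharP.exists K
    have pp : p.Prime := CharP.char_is_prime K p
    obtain ⟨f, f1, f2, f3⟩ := c4 p pp fun v => by
      rw [← Nat.cast_smul_eq_nsmul K, CharP.cast_eq_zero, zero_smul]
    rw [f1, ← pow_mul, h] at c1
    have p2 : p = 2 := (Nat.prime_dvd_prime_iff_eq pp Nat.prime_two).1 (pp.dvd_of_dvd_pow
      (c1 ▸ dvd_pow_self p (Nat.mul_ne_zero f3.ne' n0)))
    subst p2
    have a1 : k = f * Module.finrank K V := Nat.pow_right_injective le_rfl c1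
    have a2 : f ≤ k := a1 ▸ Nat.le_mul_of_pos_right f (Nat.pos_of_ne_zero n0)
    have a3 : e = 1 := by
      by_contra h1
      obtain ⟨r, r1, r2⟩ := Nat.exists_prime_and_dvd h1
      have r3 := c5 r r1 r2
      have r4 := (Nat.le_of_dvd P.pos r2).trans P.le
      have r5 := r1.two_le
      rw [f1] at r3
      have r6 : f ≤ 2 := by nlinarith
      interval_cases f
      · exact r1.one_lt.ne' (Nat.dvd_one.1 r3)
      · have := (Nat.prime_dvd_prime_iff_eq r1 Nat.prime_three).1 r3
        omega
    subst a3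
    have : Subsingleton W := (Nat.card_eq_one_iff_unique.1 P.card).1
    have a4 : Nat.card (img σ.ker W) = 1 := Nat.card_unique
    have a5 : Nat.card U ≤ 2 ^ f - 1 := Nat.le_of_dvd (by
      have := Nat.one_lt_two_pow f3.ne'
      omega) (f1 ▸ P.U_dvd)
    have a6 : Nat.card (img G V) ≤ (2 ^ f - 1) * f := by
      refine (Nat.card_le_card_of_surjective _ (toPermHom G V).rangeRestrict_surjective).trans ?_
      rw [← Subgroup.card_mul_index σ.ker, c3, a4, one_pow, mul_one, mul_one]
      exact Nat.mul_le_mul a5 (Nat.le_of_dvd f3 f2)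
    refine a6.trans ?_
    clear a1 c1 f1 f2 a5 a6 h
    interval_cases k <;> interval_cases f <;> decide
  · intro G V Ω N _ _ _ _ _ _ _ _ _ _ _ _ _ hirr S A IH k hk h
    obtain ⟨c1, c2⟩ := O.sysCard G V Ω S
    obtain ⟨ω₀⟩ : Nonempty Ω := inferInstance
    rw [Finset.prod_congr rfl fun ω _ => c2 hirr ω ω₀, Finset.prod_const, Finset.card_univ, h] at c1
    have m2 : 2 ≤ Fintype.card Ω := Fintype.one_lt_card
    obtain ⟨j, hj, e1⟩ := (Nat.dvd_prime_pow Nat.prime_two).1
      (c1 ▸ dvd_pow_self (Nat.card (S.e ω₀).range) (by omega : Fintype.card Ω ≠ 0))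
    rw [e1, ← pow_mul] at c1
    have a1 : k = j * Fintype.card Ω := Nat.pow_right_injective le_rfl c1
    have a2 : j ≠ 0 := by
      rintro rfl
      rw [a1, zero_mul, pow_zero] at h
      exact (Finite.one_lt_card (α := V)).ne' h
    have a3 : Nat.card (img G Ω) ≤ (Fintype.card Ω).factorial := by
      classical
      rw [← Fintype.card_perm, ← Nat.card_eq_fintype_card]
      exact Subgroup.card_le_card_group _
    have a4 := Finset.prod_le_pow_card Finset.univ (fun ω => (letI := subAct (S.inv_range ω);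
      Nat.card (img (stabilizer G ω) (S.e ω).range))) (bd j) fun ω _ => by
        letI := subAct (S.inv_range ω)
        exact IH (stabilizer G ω) (S.e ω).range (S.card_range_lt ω) (S.irr_range hirr ω).cr j
          (hj.trans hk) ((c2 hirr ω ω₀).trans e1)
    refine (img_sys S).trans ((Nat.mul_le_mul a4 a3).trans ?_)
    rw [Finset.card_univ]
    generalize Fintype.card Ω = m at *
    subst a1
    have : j ≤ 2 := by nlinarith
    have : m ≤ 4 := by nlinarith [Nat.pos_of_ne_zero a2]
    interval_cases j <;> interval_cases m <;> first | omega | decide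

end Cfsg.Agent.H28.MwS
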