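import Mathlib
import Cfsg.Agent.H89.OlDefs
import Cfsg.Agent.H11.Kernel
import Cfsg.Agent.H24.Deg

/-!
# The average of a generalized character of odd degree over a coset of the derived subgroup
-/

set_option autoImplicit false

namespace Cfsg.Agent.H28.OlAv

open Cfsg Cfsg.Agent.H11 Cfsg.Agent.H24
open scoped Classical

universe u

theorem sum_eq {P : Type u} [Group P] [Fintype P] (φ : P → ℂ) (a : P) :
    ∑ c ∈ Finset.univ.filter (· ∈ _root_.commutator P), φ (a * c) =
      ∑ c : _root_.commutator P, φ (a * c) := by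
  rw [Finset.sum_subtype (Finset.univ.filter (· ∈ _root_.commutator P))
    (p := fun c => c ∈ _root_.commutator P) (by simp)]

theorem fourth {z : ℂ} (h : z ^ 4 = 1) : z = 1 ∨ z = -1 ∨ z = Complex.I ∨ z = -Complex.I := by
  have : (z - 1) * (z + 1) * (z - Complex.I) * (z + Complex.I) = 0 := by
    have h2 : Complex.I ^ 2 = -1 := Complex.I_sq
    linear_combination h - (z ^ 2 - 1) * h2
  rcases mul_eq_zero.1 this with h1 | h1
  · rcases mul_eq_zero.1 h1 with h1 | h1
    · rcases mul_eq_zero.1 h1 with h1 | h1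
      · exact Or.inl (by linear_combination h1)
      · exact Or.inr (Or.inl (by linear_combination h1))
    · exact Or.inr (Or.inr (Or.inl (by linear_combination h1)))
  · exact Or.inr (Or.inr (Or.inr (by linear_combination h1)))

theorem char {P : Type u} [Group P] [Fintype P] (hP : IsPGroup 2 P) {a : P}
    (ha : a ^ 4 ∈ _root_.commutator P) {φ : P → ℂ} (hφ : IsCharacter P φ) :
    ∃ m n k : ℤ, ∑ c : _root_.commutator P, φ (a * c) =
      (Nat.card (_root_.commutator P) : ℂ) * (m + n * Complex.I) ∧ φ 1 = m + n + 2 * k := by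
  haveI : Fact (Nat.Prime 2) := ⟨Nat.prime_two⟩
  refine isCharacter_induction (P := fun φ => ∃ m n k : ℤ,
    ∑ c : _root_.commutator P, φ (a * c) =
      (Nat.card (_root_.commutator P) : ℂ) * (m + n * Complex.I) ∧ φ 1 = m + n + 2 * k)
    ⟨0, 0, 0, by simp, by simp⟩ ?_ ?_ hφ
  · intro χ hχ
    have hc := isClassFunction_of_irr hχ
    by_cases h : _root_.commutator P ≤ charKer χ
    · have h1 := irr_apply_one_of_commutator_le hχ h
      have hs : ∑ c : _root_.commutator P, χ (a * c) =
          (Nat.card (_root_.commutator P) : ℂ) * χ a := by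
        rw [Finset.sum_congr rfl (fun c _ => apply_mul_of_mem_charKer' hc (h c.2) a)]
        simp
      have hm := map_mul_of_apply_one_eq_one (isCharacter_of_irr hχ) h1
      have h4 : χ a ^ 4 = 1 := by
        have := apply_eq_of_mem_charKer (h ha)
        rw [h1, show a ^ 4 = a * (a * (a * a)) by simp only [pow_succ, pow_zero, one_mul, mul_assoc], hm, hm, hm] at this
        linear_combination this
      rw [hs, h1]
      rcases fourth h4 with h5 | h5 | h5 | h5
      · exact ⟨1, 0, 0, by rw [h5]; simp, by simp⟩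
      · exact ⟨-1, 0, 1, by rw [h5]; simp, by norm_num⟩
      · exact ⟨0, 1, 0, by rw [h5]; simp, by simp⟩
      · exact ⟨0, -1, 1, by rw [h5]; simp, by norm_num⟩
    · have hs : ∑ c : _root_.commutator P, χ (a * c) = 0 := by
        rw [← sum_coset_eq_zero hχ (_root_.commutator P) h a]
        refine Finset.sum_congr rfl fun c _ => ?_
        have := hc (a * c) a⁻¹
        rw [← this]
        congr 1
        group
      obtain ⟨k, hk⟩ := exists_deg_eq_pow_of_isPGroup hP hχ
      rcases k with _ | k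
      · exact absurd ((deg_eq_one_iff_commutator_le hχ).1 (by simpa using hk)) h
      · refine ⟨0, 0, 2 ^ k, by rw [hs]; simp, ?_⟩
        rw [irr_deg hχ, hk]
        push_cast
        ring
  · rintro χ ψ - - ⟨m, n, k, h1, h2⟩ ⟨m', n', k', h3, h4⟩
    refine ⟨m + m', n + n', k + k', ?_, ?_⟩
    · simp only [Pi.add_apply, Finset.sum_add_distrib, h1, h3]
      push_cast
      ring
    · simp only [Pi.add_apply, h2, h4]
      push_cast
      ring

theorem av : Cfsg.Agent.H89.Ol.AVStmt.{u} := by
  intro P _ _ M η a hM hP hη hv ha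
  obtain ⟨χ, ψ, hχ, hψ, rfl⟩ := hη
  obtain ⟨m, n, k, h1, h2⟩ := char hP ha hχ
  obtain ⟨m', n', k', h3, h4⟩ := char hP ha hψ
  have e1 : (χ - ψ) 1 = (((m - m') + (n - n') + 2 * (k - k') : ℤ) : ℂ) := by
    simp only [Pi.sub_apply, h2, h4]
    push_cast
    ring
  rw [e1, H19.val_intCast_eq_one_iff hM] at hv
  have e2 : ∑ c ∈ Finset.univ.filter (· ∈ _root_.commutator P), (χ - ψ) (a * c) =
      ((Nat.card (_root_.commutator P) : ℝ) : ℂ) *
        (((m - m' : ℤ) : ℝ) + ((n - n' : ℤ) : ℝ) * Complex.I) := by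
    rw [sum_eq]
    simp only [Pi.sub_apply, Finset.sum_sub_distrib, h1, h3]
    push_cast
    ring
  rw [e2, Complex.normSq_mul, Complex.normSq_ofReal, Complex.normSq_add_mul_I]
  have h5 : (1 : ℤ) ≤ (m - m') ^ 2 + (n - n') ^ 2 := by
    by_contra h6
    have h7 : m - m' = 0 := by nlinarith [sq_nonneg (m - m'), sq_nonneg (n - n')]
    have h8 : n - n' = 0 := by nlinarith [sq_nonneg (m - m'), sq_nonneg (n - n')]
    apply hv
    rw [h7, h8]
    exact ⟨k - k', by push_cast; ring⟩
  have h6 : (1 : ℝ) ≤ ((m - m' : ℤ) : ℝ) ^ 2 + ((n - n' : ℤ) : ℝ) ^ 2 := by exact_mod_cast h5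
  nlinarith [sq_nonneg (Nat.card (_root_.commutator P) : ℝ)]

end Cfsg.Agent.H28.OlAv
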