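import Mathlib
import Cfsg.Agent.H30.OUDefs

/-! Commutators in `SU_n(2)`: the small cases `m = 2, 3`, by certificates over the field with four
elements. -/

set_option autoImplicit false

namespace Cfsg.Agent.H28.OuS

open Matrix Cfsg.Agent.H30.OU

universe u

/-- the field with four elements -/
abbrev K : Type := QuadraticAlgebra (ZMod 2) 1 1

/-- the element with code `i` -/
def el (i : ℕ) : K := ⟨((i % 2 : ℕ) : ZMod 2), ((i / 2 % 2 : ℕ) : ZMod 2)⟩

/-- the matrix with code `x` -/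
def dec (n x : ℕ) : Matrix (Fin n) (Fin n) K := Matrix.of fun i j => el (x / 4 ^ (n * i + j))

/-- the determinant in degree three -/
def dt (A : Matrix (Fin 3) (Fin 3) K) : K :=
  A 0 0 * A 1 1 * A 2 2 - A 0 0 * A 1 2 * A 2 1 - A 0 1 * A 1 0 * A 2 2 +
    A 0 1 * A 1 2 * A 2 0 + A 0 2 * A 1 0 * A 2 1 - A 0 2 * A 1 1 * A 2 0

/-- certificate in degree three -/
def Ok3 (M : Matrix (Fin 3) (Fin 3) K) (c : ℕ × ℕ × ℕ) : Prop :=
  dec 3 c.1 * dec 3 c.2.1 = 1 ∧ dt (dec 3 c.1) = 1 ∧ dt (dec 3 c.2.2) = 1 ∧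
    dec 3 c.2.2 * dec 3 c.2.2 * dec 3 c.2.2 = dec 3 c.2.2 + 1 ∧
    M = dec 3 c.1 * (dec 3 c.2.2)ᴴ * dec 3 c.2.1 * dec 3 c.2.2

instance (M : Matrix (Fin 3) (Fin 3) K) (c : ℕ × ℕ × ℕ) : Decidable (Ok3 M c) := by
  unfold Ok3; infer_instance

/-- certificate in degree two -/
def Ok2 (M : Matrix (Fin 2) (Fin 2) K) (c : ℕ × ℕ × ℕ) : Prop :=
  dec 2 c.1 * dec 2 c.2.1 = 1 ∧ (dec 2 c.1).det = 1 ∧ (dec 2 c.2.2).det = 1 ∧
    dec 2 c.2.2 * dec 2 c.2.2 = el 2 • dec 2 c.2.2 + 1 ∧
    M = dec 2 c.1 * (dec 2 c.2.2)ᴴ * dec 2 c.2.1 * dec 2 c.2.2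

instance (M : Matrix (Fin 2) (Fin 2) K) (c : ℕ × ℕ × ℕ) : Decidable (Ok2 M c) := by
  unfold Ok2; infer_instance

/-- certificates for the companion matrices of degree two -/
def L0 : List (ℕ × ℕ × ℕ) := [(20, 20, 229), (248, 59, 58), (172, 46, 22), (184, 58, 253)]

/-- certificates for the companion matrices of degree three -/
def L1 : List (ℕ × ℕ × ℕ) :=
  [(4368, 4368, 21508), (69904, 4369, 70916), (154220, 260653, 63492), (221048, 175929, 44036),
   (72540, 259567, 162308), (170808, 45978, 112004), (151884, 245894, 239428),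
   (217416, 164039, 194116), (205168, 11763, 210708), (236904, 178746, 77060),
   (114776, 144452, 207812), (105548, 254125, 244484), (143712, 14754, 140820),
   (186748, 257839, 80132), (120904, 176377, 192004), (98396, 205892, 147076)]

/-- certificates for the matrices without a cyclic vector -/
def L2 : List (ℕ × ℕ × ℕ) :=
  [(21508, 16465, 87312), (4372, 20752, 20560), (10608, 11760, 161296), (15712, 14752, 222992),
   (55140, 84551, 195088), (29052, 241212, 121104), (39692, 61587, 161296),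
   (57440, 15108, 185936), (38516, 85830, 241424), (24936, 195368, 105744),
   (32608, 14747, 172624), (56840, 41170, 222992)]

theorem c0 : ∀ t : Fin 4, Ok2 !![0, 1; 1, el t] (L0.getD t (0, 0, 0)) := by decide +kernel

theorem c1 : ∀ d g : Fin 4, Ok3 !![0, 0, 1; 1, 0, el d; 0, 1, el g]
    (L1.getD (4 * d + g) (0, 0, 0)) := by decide +kernel

theorem c2 : ∀ d g : Fin 4, g ≠ 0 →
    Ok3 !![0, el g * el g, el g * el d; 1, 0, el d; 0, 0, el g]
      (L2.getD (4 * (g - 1) + d) (0, 0, 0)) := by decide +kernel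

theorem el_surj : ∀ x : K, ∃ i : Fin 4, el i = x := by
  rintro ⟨a, b⟩
  revert a b
  decide +kernel

theorem star_eq : ∀ x : K, star x = x ^ 2 := by
  rintro ⟨a, b⟩
  revert a b
  decide +kernel

theorem el0 : el (0 : Fin 4) = 0 := by decide +kernel

theorem w2 : star (el 2) = el 2 + 1 := by decide +kernel

theorem two : (1 + 1 : K) = 0 := by decide +kernel

theorem ns : ∀ r : ZMod 2, r ^ 2 ≠ 1 + 1 * r := by decide

variable {F : Type u} [Field F]

theorem exists_iso [Fintype F] (hF : Fintype.card F = 4) :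
    ∃ e : K →+* F, Function.Surjective e := by
  have := Fact.mk ns
  let : Fintype K := Fintype.ofEquiv _ (QuadraticAlgebra.equivProd 1 1).symm
  let e : K ≃+* F := FiniteField.ringEquivOfCardEq (by
    rw [hF, Fintype.card_congr (QuadraticAlgebra.equivProd 1 1), Fintype.card_prod, ZMod.card])
  exact ⟨e.toRingHom, e.surjective⟩

theorem col_eq {ι : Type} [Fintype ι] [DecidableEq ι] {M P : Matrix ι ι F} (hP : P.det ≠ 0)
    {j k : ι} (h : ∀ i, (M * P) i j = P i k) (i : ι) :
    (P⁻¹ * M * P) i j = (1 : Matrix ι ι F) i k := by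
  rw [Matrix.mul_assoc, ← Matrix.nonsing_inv_mul P (Ne.isUnit hP), Matrix.mul_apply,
    Matrix.mul_apply]
  exact Finset.sum_congr rfl fun l _ => by rw [h]

theorem det_conj' {ι : Type} [Fintype ι] [DecidableEq ι] {M P : Matrix ι ι F} (hP : P.det ≠ 0) :
    (P⁻¹ * M * P).det = M.det := by
  rw [det_mul, det_mul, det_nonsing_inv, Ring.inverse_eq_inv', mul_right_comm,
    inv_mul_cancel₀ hP, one_mul]

variable [StarRing F]

theorem good_of_conj (hn : ∀ a : F, a ≠ 0 → a * star a = 1) {ι : Type} [Fintype ι]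
    [DecidableEq ι] {M P : Matrix ι ι F} (hP : P.det ≠ 0) (h : Good (P⁻¹ * M * P)) : Good M := by
  have h1 := Matrix.mul_nonsing_inv P (Ne.isUnit hP)
  have := h.conj hn h1
  rwa [← Matrix.mul_assoc, ← Matrix.mul_assoc, h1, Matrix.one_mul, Matrix.mul_assoc, h1,
    Matrix.mul_one] at this

theorem fp3 {ι : Type} [Fintype ι] [DecidableEq ι] {N : Matrix ι ι F} (h : N * N * N = N + 1) :
    FP N := by
  intro S hS
  have hT : Nᴴ * Nᴴ * Nᴴ = Nᴴ + 1 := by
    have := congrArg conjTranspose h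
    simpa only [conjTranspose_mul, conjTranspose_add, conjTranspose_one, Matrix.mul_assoc]
      using this
  generalize Nᴴ = T at hS hT
  have e1 : N * N * N * S * (T * T * T) = S := by
    calc _ = N * (N * (N * S * T) * T) * T := by simp only [Matrix.mul_assoc]
      _ = S := by rw [hS, hS, hS]
  rw [h, hT] at e1
  have e2 : S + N * S + S * T = 0 := by
    have : (N + 1) * S * (T + 1) = N * S * T + N * S + S * T + S := by noncomm_ring
    rw [this, hS] at e1
    exact add_eq_right.1 e1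
  have e3 : N * S + N * N * S + S = 0 := by
    have : N * (S + N * S + S * T) = N * S + N * N * S + N * S * T := by noncomm_ring
    rw [e2, Matrix.mul_zero, hS] at this
    exact this.symm
  have e4 : N * S = 0 := by
    have : (N - 1) * (N * S + N * N * S + S) = (N * N * N - 1) * S := by noncomm_ring
    rwa [e3, Matrix.mul_zero, h, add_sub_cancel_right, eq_comm] at this
  rw [← hS, e4, Matrix.zero_mul]

theorem fp2 {ι : Type} [Fintype ι] [DecidableEq ι] {N : Matrix ι ι F} {w : F} (h2 : (2 : F) = 0)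
    (hs : star w = w + 1) (h : N * N = w • N + 1) : FP N := by
  intro S hS
  have hT : Nᴴ * Nᴴ = (w + 1) • Nᴴ + 1 := by
    have := congrArg conjTranspose h
    simpa only [conjTranspose_mul, conjTranspose_add, conjTranspose_one, conjTranspose_smul, hs]
      using this
  generalize Nᴴ = T at hS hT
  have e1 : N * N * S * (T * T) = S := by
    calc _ = N * (N * S * T) * T := by simp only [Matrix.mul_assoc]
      _ = S := by rw [hS, hS]
  have e0 := e1
  rw [h, hT] at e1
  simp only [Matrix.add_mul, Matrix.mul_add, Matrix.smul_mul, Matrix.mul_smul, Matrix.one_mul,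
    Matrix.mul_one, hS] at e1
  have e2 := congrArg (N * ·) e1
  simp only [Matrix.mul_add, Matrix.mul_smul, ← Matrix.mul_assoc, hS, h, Matrix.add_mul,
    Matrix.smul_mul, Matrix.one_mul] at e2
  have e3 : N * N * S = 0 := by
    rw [h, Matrix.add_mul, Matrix.smul_mul, Matrix.one_mul]
    have : (2 * w + 1) • (w • (N * S) + S) = 0 := by linear_combination (norm := module) e2
    rwa [h2, zero_mul, zero_add, one_smul] at this
  rw [← e0, e3, Matrix.zero_mul]

theorem good_map {n : ℕ} (e : K →+* F) (he : ∀ x, e (star x) = star (e x))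
    {E E' N : Matrix (Fin n) (Fin n) K} (h1 : E * E' = 1) (h2 : E.det = 1) (h3 : N.det = 1)
    (h4 : FP (N.map e)) : Good ((E * Nᴴ * E' * N).map e) := by
  have h0 : (2 : F) = 0 := by rw [← one_add_one_eq_two, ← map_one e, ← map_add, two, map_zero]
  refine ⟨E.map e, E'.map e, N.map e, (N.map e)ᴴ, ?_, ?_, ?_, h4, Or.inr ⟨h0, rfl⟩, ?_⟩
  · rw [← Matrix.map_mul, h1, Matrix.map_one _ (map_zero e) (map_one e)]
  · have := e.map_det E
    rw [h2, map_one] at this
    exact this.symm
  · have := e.map_det N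
    rw [h3, map_one] at this
    exact this.symm
  · rw [Matrix.map_mul, Matrix.map_mul, Matrix.map_mul, conjTranspose_map e he]

theorem good3 (e : K →+* F) (he : ∀ x, e (star x) = star (e x))
    {M : Matrix (Fin 3) (Fin 3) K} {c : ℕ × ℕ × ℕ} (h : Ok3 M c) : Good (M.map e) := by
  obtain ⟨h1, h2, h3, h4, h5⟩ := h
  rw [h5]
  refine good_map e he h1 ((det_fin_three _).trans h2) ((det_fin_three _).trans h3) (fp3 ?_)
  rw [← Matrix.map_mul, ← Matrix.map_mul, h4, Matrix.map_add _ (map_add e),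
    Matrix.map_one _ (map_zero e) (map_one e)]

theorem good2 (e : K →+* F) (he : ∀ x, e (star x) = star (e x))
    {M : Matrix (Fin 2) (Fin 2) K} {c : ℕ × ℕ × ℕ} (h : Ok2 M c) : Good (M.map e) := by
  obtain ⟨h1, h2, h3, h4, h5⟩ := h
  have h0 : (2 : F) = 0 := by rw [← one_add_one_eq_two, ← map_one e, ← map_add, two, map_zero]
  rw [h5]
  refine good_map e he h1 h2 h3 (fp2 (w := e (el 2)) h0 (by rw [← he, w2, map_add, map_one]) ?_)
  rw [← Matrix.map_mul, h4, Matrix.map_add _ (map_add e),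
    Matrix.map_one _ (map_zero e) (map_one e)]
  congr 1
  ext i j
  simp

/-- the matrix with the given columns -/
def col2 {R : Type u} (a b : Fin 2 → R) : Matrix (Fin 2) (Fin 2) R := Matrix.of fun i => ![a i, b i]

/-- the matrix with the given columns -/
def col3 {R : Type u} (a b c : Fin 3 → R) : Matrix (Fin 3) (Fin 3) R :=
  Matrix.of fun i => ![a i, b i, c i]

section
variable (e : K →+* F) (he : ∀ x, e (star x) = star (e x)) (hs : Function.Surjective e)
  (hn : ∀ a : F, a ≠ 0 → a * star a = 1)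

omit [StarRing F] in
include hs in
theorem ex_el (x : F) : ∃ i : Fin 4, e (el i) = x := by
  obtain ⟨y, rfl⟩ := hs x
  obtain ⟨i, rfl⟩ := el_surj y
  exact ⟨i, rfl⟩

include he hs hn

theorem cyc2 {M : Matrix (Fin 2) (Fin 2) F} (hM : M.det = 1) {v : Fin 2 → F}
    (hv : (col2 v (M *ᵥ v)).det ≠ 0) : Good M := by
  have h0 : (1 + 1 : F) = 0 := by rw [← map_one e, ← map_add, two, map_zero]
  refine good_of_conj hn hv ?_
  have a0 := col_eq (M := M) (j := 0) (k := 1) hv fun i => rfl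
  have hd := (det_conj' (M := M) hv).trans hM
  generalize (col2 v (M *ᵥ v))⁻¹ * M * col2 v (M *ᵥ v) = C at a0 hd
  obtain ⟨t, ht⟩ := ex_el e hs (C 1 1)
  have a00 : C 0 0 = 0 := a0 0
  have a10 : C 1 0 = 1 := a0 1
  rw [det_fin_two, a00, a10] at hd
  have a01 : C 0 1 = 1 := by linear_combination -hd - h0
  convert good2 e he (c0 t) using 1
  ext i j
  fin_cases i <;> fin_cases j <;> simp [a00, a10, a01, ht]

theorem small2 {M : Matrix (Fin 2) (Fin 2) F} (hM : M.det = 1) (hc : ∀ c : F, M ≠ c • 1) :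
    Good M := by
  by_contra hG
  have H : ∀ v, (col2 v (M *ᵥ v)).det = 0 := fun v => by
    by_contra hv
    exact hG (cyc2 e he hs hn hM hv)
  have h1 := H ![1, 0]
  have h2 := H ![0, 1]
  have h3 := H ![1, 1]
  simp [det_fin_two, col2, mulVec, dotProduct, Fin.sum_univ_two] at h1 h2 h3
  refine hc (M 0 0) ?_
  ext i j
  fin_cases i <;> fin_cases j <;> simp [h1, h2]
  linear_combination h3 - h1 + h2

theorem cyc3 {M : Matrix (Fin 3) (Fin 3) F} (hM : M.det = 1) {v : Fin 3 → F}
    (hv : (col3 v (M *ᵥ v) (M *ᵥ (M *ᵥ v))).det ≠ 0) : Good M := by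
  refine good_of_conj hn hv ?_
  have a0 := col_eq (M := M) (j := 0) (k := 1) hv fun i => rfl
  have a1 := col_eq (M := M) (j := 1) (k := 2) hv fun i => rfl
  have hd := (det_conj' (M := M) hv).trans hM
  generalize (col3 v (M *ᵥ v) (M *ᵥ (M *ᵥ v)))⁻¹ * M * col3 v (M *ᵥ v) (M *ᵥ (M *ᵥ v)) = C
    at a0 a1 hd
  obtain ⟨d, h1⟩ := ex_el e hs (C 1 2)
  obtain ⟨g, h2⟩ := ex_el e hs (C 2 2)
  have a00 : C 0 0 = 0 := a0 0
  have a10 : C 1 0 = 1 := a0 1
  have a20 : C 2 0 = 0 := a0 2
  have a01 : C 0 1 = 0 := a1 0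
  have a11 : C 1 1 = 0 := a1 1
  have a21 : C 2 1 = 1 := a1 2
  rw [det_fin_three, a00, a10, a20, a01, a11, a21] at hd
  have a02 : C 0 2 = 1 := by linear_combination hd
  convert good3 e he (c1 d g) using 1
  ext i j
  fin_cases i <;> fin_cases j <;> simp [a00, a10, a20, a01, a11, a21, a02, h1, h2]

theorem blk3 {M : Matrix (Fin 3) (Fin 3) F} (hM : M.det = 1) {v w : Fin 3 → F}
    (hv : (col3 v (M *ᵥ v) w).det ≠ 0) : Good M := by
  have h0 : (1 + 1 : F) = 0 := by rw [← map_one e, ← map_add, two, map_zero]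
  refine good_of_conj hn hv ?_
  have a0 := col_eq (M := M) (j := 0) (k := 1) hv fun i => rfl
  have hd := (det_conj' (M := M) hv).trans hM
  generalize (col3 v (M *ᵥ v) w)⁻¹ * M * col3 v (M *ᵥ v) w = C at a0 hd
  by_contra hG
  have H : ∀ v, (col3 v (C *ᵥ v) (C *ᵥ (C *ᵥ v))).det = 0 := fun v => by
    by_contra hv
    exact hG (cyc3 e he hs hn hd hv)
  have a00 : C 0 0 = 0 := a0 0
  have a10 : C 1 0 = 1 := a0 1
  have a20 : C 2 0 = 0 := a0 2
  have a21 : C 2 1 = 0 := by
    have := H ![1, 0, 0]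
    simpa [det_fin_three, col3, mulVec, dotProduct, Fin.sum_univ_three, a00, a10, a20] using this
  rw [det_fin_three, a00, a10, a20, a21] at hd
  obtain ⟨d, h1⟩ := ex_el e hs (C 1 2)
  obtain ⟨g, h2⟩ := ex_el e hs (C 2 2)
  have hg : C 2 2 ≠ 0 := fun h => by simp [h] at hd
  have g3 : C 2 2 * (C 2 2 * C 2 2) = 1 := by
    have := hn _ hg
    rwa [← h2, ← he, star_eq, map_pow, sq, h2] at this
  have a01 : C 0 1 = C 2 2 * C 2 2 := by
    linear_combination -C 0 1 * g3 - C 2 2 * C 2 2 * hd - C 2 2 * C 2 2 * h0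
  have a02 : C 0 2 = C 2 2 * C 1 2 := by
    have := H ![-C 1 2, 0, 1]
    simp [det_fin_three, col3, mulVec, dotProduct, Fin.sum_univ_three, a00, a10, a20, a21] at this
    have h3 : (C 0 2 + C 2 2 * C 1 2) ^ 2 = 0 := by linear_combination this
    linear_combination (pow_eq_zero_iff two_ne_zero).1 h3 - C 2 2 * C 1 2 * h0
  have a11 : C 1 1 = 0 := by
    have := H ![1 - C 1 2, 0, 1]
    simp [det_fin_three, col3, mulVec, dotProduct, Fin.sum_univ_three, a00, a10, a20, a21, a01,
      a02] at this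
    refine (mul_eq_zero.1 (?_ : C 2 2 * C 1 1 = 0)).resolve_left hg
    linear_combination -this + (2 * C 2 2 ^ 2 * C 1 2 ^ 2 - 2 * C 2 2 ^ 2 * C 1 2 +
      C 1 1 * C 2 2 * C 1 2) * h0
  refine hG ?_
  convert good3 e he (c2 d g fun h => hg (by rw [← h2, h, el0, map_zero])) using 1
  ext i j
  fin_cases i <;> fin_cases j <;> simp [a00, a10, a20, a01, a11, a21, a02, h1, h2]

theorem small3 {M : Matrix (Fin 3) (Fin 3) F} (hM : M.det = 1) (hc : ∀ c : F, M ≠ c • 1) :
    Good M := by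
  by_contra hG
  have H : ∀ v w, (col3 v (M *ᵥ v) w).det = 0 := fun v w => by
    by_contra hv
    exact hG (blk3 e he hs hn hM hv)
  have h1 := H ![1, 0, 0] ![0, 0, 1]
  have h2 := H ![1, 0, 0] ![0, 1, 0]
  have h3 := H ![0, 1, 0] ![0, 0, 1]
  have h4 := H ![0, 1, 0] ![1, 0, 0]
  have h5 := H ![0, 0, 1] ![0, 1, 0]
  have h6 := H ![0, 0, 1] ![1, 0, 0]
  have h7 := H ![1, 1, 0] ![0, 0, 1]
  have h8 := H ![1, 0, 1] ![0, 1, 0]
  simp [det_fin_three, col3, mulVec, dotProduct, Fin.sum_univ_three] at h1 h2 h3 h4 h5 h6 h7 h8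
  refine hc (M 0 0) ?_
  ext i j
  fin_cases i <;> fin_cases j <;> simp [h1, h2, h3, h4, h5, h6]
  · linear_combination h7 - h1 + h3
  · linear_combination -h8 - h2 + h5

end

theorem small : SmallStmt.{u} := by
  intro F _ _ _ h hF m hm M hM hc
  obtain ⟨q, hq, hst⟩ := exists_q h
  obtain rfl : q = 2 := by
    rw [hF] at hq
    exact (Nat.pow_left_injective two_ne_zero (show 2 ^ 2 = q ^ 2 from hq)).symm
  obtain ⟨e, hs⟩ := exists_iso hF
  have he : ∀ x, e (star x) = star (e x) := fun x => by rw [star_eq, map_pow, hst]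
  have hn : ∀ a : F, a ≠ 0 → a * star a = 1 := fun a ha => by
    have := FiniteField.pow_card_sub_one_eq_one a ha
    rw [hF] at this
    rw [hst, ← pow_succ']
    exact this
  rcases hm with rfl | rfl
  · exact small2 e he hs hn hM hc
  · exact small3 e he hs hn hM hc

theorem eqns : True := by
  have := @el.eq_1
  have := @dec.eq_1
  have := @dt.eq_1
  have := @Ok3.eq_1
  have := @Ok2.eq_1
  have := @L0.eq_1
  have := @L1.eq_1
  have := @L2.eq_1
  have := @K.eq_1
  have := @col2.eq_1.{0}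
  have := @col3.eq_1.{0}
  trivial

end Cfsg.Agent.H28.OuS
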