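import Mathlib
import Cfsg.Agent.Lead.PcDefs
import Cfsg.Agent.H20.PcLift

/-! Project PL, piece Tr: a transfer argument for a lift of an involution. -/

set_option autoImplicit false

namespace Cfsg.Agent.H28.PlTr

open Subgroup Cfsg.Agent.Lead.Pc Cfsg.Agent.H20.PcLift
open scoped commutatorElement

universe u

theorem mem_ext {G : Type u} [Group G] {K : Subgroup G} {y : G} (hn : y ∈ Nm K)
    (h2 : y * y ∈ K) {g : G} (hg : g ∈ K ⊔ zpowers y) : y * g ∈ K ∨ g ∈ K := by
  have c1 : ∀ a ∈ K, y * a * y⁻¹ ∈ K := fun a ha => (mem_normalizer_iff.mp hn a).mp ha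
  have c2 : ∀ a ∈ K, y⁻¹ * a * y ∈ K := fun a ha => by
    simpa using (mem_normalizer_iff.mp (inv_mem hn) a).mp ha
  let W : Subgroup G :=
    { carrier := {g | y * g ∈ K ∨ g ∈ K}
      one_mem' := Or.inr (one_mem _)
      mul_mem' := fun {a b} ha hb => by
        rcases ha with ha | ha <;> rcases hb with hb | hb
        · right
          have : a * b = (y⁻¹ * (y * a) * y) * (y * y)⁻¹ * (y * b) := by group
          rw [this]
          exact mul_mem (mul_mem (c2 _ ha) (inv_mem h2)) hb
        · left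
          rw [← mul_assoc]
          exact mul_mem ha hb
        · left
          have : y * (a * b) = (y * a * y⁻¹) * (y * b) := by group
          rw [this]
          exact mul_mem (c1 _ ha) hb
        · exact Or.inr (mul_mem ha hb)
      inv_mem' := fun {a} ha => by
        rcases ha with ha | ha
        · left
          have : y * a⁻¹ = (y * (y * a)⁻¹ * y⁻¹) * (y * y) := by group
          rw [this]
          exact mul_mem (c1 _ (inv_mem ha)) h2
        · exact Or.inr (inv_mem ha) }
  have : K ⊔ zpowers y ≤ W := sup_le (fun a ha => Or.inr ha) (zpowers_le.mpr (Or.inl h2))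
  exact this hg

theorem idx_ext {G : Type u} [Group G] {K : Subgroup G} {y : G} (hn : y ∈ Nm K) (h1 : y ∉ K)
    (h2 : y * y ∈ K) : K.relIndex (K ⊔ zpowers y) = 2 := by
  rw [relIndex_eq_two_iff_exists_notMem_and']
  exact ⟨y, mem_sup_right (mem_zpowers y), h1, fun b hb => mem_ext hn h2 hb⟩

theorem tr : TrStmt.{u} := by
  intro G _ _ S T hS hSS hTS hT ho y ⟨hn, hy, hyy⟩ W hTW hyW c1 c2
  have hnS : y ∈ Nm S := by
    rw [mem_normalizer_iff]
    intro a
    exact ⟨fun h => hS.conj_mem a h y, fun h => by simpa [mul_assoc] using hS.conj_mem _ h y⁻¹⟩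
  have hyT : y ∉ T := fun h => hy (hTS h)
  have i1 := idx_ext hnS hy (hTS hyy)
  have i2 := idx_ext hn hyT hyy
  have le1 : T ⊔ zpowers y ≤ S ⊔ zpowers y := sup_le_sup_right hTS _
  have e1 := relIndex_mul_relIndex T (T ⊔ zpowers y) (S ⊔ zpowers y) le_sup_left le1
  have e2 := relIndex_mul_relIndex T S (S ⊔ zpowers y) hTS le_sup_left
  have hi : Odd ((T ⊔ zpowers y).relIndex (S ⊔ zpowers y)) := by
    rw [i2] at e1
    rw [i1] at e2
    have : (T ⊔ zpowers y).relIndex (S ⊔ zpowers y) = T.relIndex S := by omega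
    rwa [this]
  have p2 : IsPGroup 2 (T ⊔ zpowers y : Subgroup G) := by
    intro g
    have hg : (g : G) * g ∈ T := by
      have := mul_self_mem_of_index_two (H := T.subgroupOf (T ⊔ zpowers y)) i2 g
      exact mem_subgroupOf.mp this
    obtain ⟨k, hk⟩ := hT ⟨_, hg⟩
    refine ⟨k + 1, Subtype.ext ?_⟩
    have h3 := congrArg Subtype.val hk
    simp only [SubgroupClass.coe_pow, OneMemClass.coe_one] at h3 ⊢
    rw [pow_succ', pow_mul, pow_two]
    exact h3
  obtain ⟨z, hz, hzS, hzz⟩ := lift' (S := S) (T := T ⊔ zpowers y) (H := S ⊔ zpowers y)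
    le_sup_left le1 i1 (by rw [hSS, relIndex_self]; exact odd_one) p2 hi
  have hW := comm_le (T₀ := T) (y := y) (N := W) (sup_le hTW (zpowers_le.mpr hyW)) c1
    (fun a ha => by rw [← commutatorElement_inv]; exact inv_mem (c2 a ha))
  rcases mem_ext hn hyy hz with h | h
  · refine ⟨(y * y)⁻¹ * (y * z), mul_mem (inv_mem hyy) h, ?_⟩
    have : y * ((y * y)⁻¹ * (y * z)) = z := by group
    rw [this]
    exact hW hzz
  · exact absurd (hTS h) hzS

end Cfsg.Agent.H28.PlTr
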