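import Mathlib
import Cfsg.Prelude.Def_HallClasses
import Cfsg.Agent.H89.Conj
import Cfsg.Agent.H75.ModSU

/-!
# Pronormality of overgroups of Sylow subgroups
-/

set_option autoImplicit false

namespace Cfsg.Agent.H28.Pron

open H89

universe u v

section general

variable {G G' : Type*} [Group G] [Group G']

theorem map_conj_map (f : G →* G') (H : Subgroup G) (g : G) :
    (H.map (MulAut.conj g).toMonoidHom).map f = (H.map f).map (MulAut.conj (f g)).toMonoidHom := by
  rw [Subgroup.map_map, Subgroup.map_map]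
  congr 1
  ext x
  simp

theorem pron_map {f : G →* G'} (hf : Function.Surjective f) {H : Subgroup G}
    (h : IsPronormal H) : IsPronormal (H.map f) := fun g' => by
  obtain ⟨g, rfl⟩ := hf g'
  obtain ⟨x, hx, e⟩ := h g
  refine ⟨f x, ?_, ?_⟩
  · rw [← map_conj_map, ← Subgroup.map_sup]
    exact Subgroup.mem_map_of_mem f hx
  · rw [← map_conj_map, ← map_conj_map, e]

/-- All subgroups of index prime to `p` that contain `Z` are pronormal. -/
def AllP (p : ℕ) (G : Type*) [Group G] : Prop :=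
  ∀ H : Subgroup G, ¬ p ∣ H.index → Subgroup.center G ≤ H → IsPronormal H

theorem AllP.quot {p : ℕ} (h : AllP p G) (H : Subgroup (G ⧸ Subgroup.center G))
    (hH : ¬ p ∣ H.index) : IsPronormal H := by
  have hs := QuotientGroup.mk'_surjective (Subgroup.center G)
  rw [← Subgroup.map_comap_eq_self_of_surjective hs H]
  refine pron_map hs (h _ (by rwa [Subgroup.index_comap_of_surjective _ hs]) fun z hz => ?_)
  rw [Subgroup.mem_comap, QuotientGroup.mk'_apply, (QuotientGroup.eq_one_iff z).2 hz]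
  exact one_mem _

theorem AllP.equiv {p : ℕ} (h : AllP p G) (e : G ≃* G') : AllP p G' := fun H hH hZ => by
  have hs : Function.Surjective e.toMonoidHom := e.surjective
  rw [← Subgroup.map_comap_eq_self_of_surjective hs H]
  refine pron_map hs (h _ (by rwa [Subgroup.index_comap_of_surjective _ hs]) fun z hz => hZ ?_)
  refine Subgroup.mem_center_iff.2 fun g => ?_
  obtain ⟨g, rfl⟩ := hs g
  rw [← map_mul, ← map_mul, Subgroup.mem_center_iff.1 hz]

variable [Finite G] {p : ℕ} [Fact p.Prime]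

theorem pron_of_sylow (S : Sylow p G) (H : Subgroup G) (hS : (S : Subgroup G) ≤ H)
    (h : ∀ g ∈ Subgroup.normalizer (S : Set G), ∃ w ∈ H ⊔ H.map (MulAut.conj g).toMonoidHom,
        H.map (MulAut.conj g).toMonoidHom = H.map (MulAut.conj w).toMonoidHom) :
    IsPronormal H := by
  intro g
  have h1 : (S : Subgroup G) ≤ H ⊔ H.map (MulAut.conj g).toMonoidHom := hS.trans le_sup_left
  have h2 : ((g • S : Sylow p G) : Subgroup G) ≤ H ⊔ H.map (MulAut.conj g).toMonoidHom :=
    (Subgroup.map_mono hS).trans le_sup_right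
  obtain ⟨x, hx⟩ := MulAction.exists_smul_eq (↥(H ⊔ H.map (MulAut.conj g).toMonoidHom))
    (S.subtype h1) ((g • S).subtype h2)
  have h3 : (x : G) • S = g • S := by
    rw [Sylow.smul_subtype] at hx
    exact Sylow.subtype_injective hx
  have hn : (x : G)⁻¹ * g ∈ Subgroup.normalizer (S : Set G) := by
    rw [← Sylow.smul_eq_iff_mem_normalizer, mul_smul, ← h3, inv_smul_smul]
  obtain ⟨w, hw, hwe⟩ := h _ hn
  have hwL : w ∈ H ⊔ H.map (MulAut.conj g).toMonoidHom := by
    refine (sup_le le_sup_left ?_ : _ ≤ H ⊔ H.map (MulAut.conj g).toMonoidHom) hw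
    rw [H89.conj_mul]
    exact conj_le_of_mem le_sup_right (Subgroup.inv_mem _ x.2)
  refine ⟨x * w, Subgroup.mul_mem _ x.2 hwL, ?_⟩
  rw [H89.conj_mul, ← hwe, ← H89.conj_mul, mul_inv_cancel_left]

theorem exists_conj_ge (S : Sylow p G) (H : Subgroup G) (hH : ¬ p ∣ H.index) :
    ∃ c : G, (S : Subgroup G) ≤ H.map (MulAut.conj c).toMonoidHom := by
  obtain ⟨T⟩ : Nonempty (Sylow p H) := inferInstance
  have hT : IsPGroup p ((T : Subgroup H).map H.subtype) := T.isPGroup'.map _
  have hi : ¬ p ∣ ((T : Subgroup H).map H.subtype).index := by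
    rw [Subgroup.index_map_subtype]
    exact fun h => ((Nat.Prime.dvd_mul Fact.out).1 h).elim T.not_dvd_index hH
  obtain ⟨c, hc⟩ := MulAction.exists_smul_eq G (hT.toSylow hi) S
  refine ⟨c, ?_⟩
  rw [← hc]
  exact Subgroup.map_mono (Subgroup.map_subtype_le _)

/-- It suffices to consider overgroups of a fixed Sylow subgroup. -/
theorem allP_of (S : Sylow p G) (h : ∀ H : Subgroup G, (S : Subgroup G) ≤ H →
    Subgroup.center G ≤ H → ∀ g ∈ Subgroup.normalizer (S : Set G),
      ∃ w ∈ H ⊔ H.map (MulAut.conj g).toMonoidHom,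
        H.map (MulAut.conj g).toMonoidHom = H.map (MulAut.conj w).toMonoidHom) : AllP p G := by
  intro H hH hZ
  obtain ⟨c, hc⟩ := exists_conj_ge S H hH
  have h1 := pron_of_sylow S _ hc (h _ hc fun z hz => mem_conj_iff.2 (by
    rw [mul_assoc, ← Subgroup.mem_center_iff.1 hz, inv_mul_cancel_left]; exact hZ hz))
  have h2 := pron_map (f := (MulAut.conj c⁻¹).toMonoidHom) (MulAut.conj c⁻¹).surjective h1
  rwa [← H89.conj_mul, inv_mul_cancel, conj_one] at h2

theorem allP_of_normalizer (S : Sylow p G) (h : ∀ H : Subgroup G, (S : Subgroup G) ≤ H →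
    Subgroup.center G ≤ H → Subgroup.normalizer (S : Set G) ≤ Subgroup.normalizer (H : Set G)) :
    AllP p G :=
  allP_of S fun H h1 h2 g hg => ⟨1, one_mem _, by
    rw [conj_one, conj_eq_self_iff]; exact h H h1 h2 hg⟩

end general

section model

open H75 H34 H34.Split

variable {p : ℕ} {Γ : Type u} [Group Γ] (M : Model.{u, v} p Γ) [Finite Γ] [Fact p.Prime]

omit [Finite Γ] [Fact p.Prime] in
theorem conj_H_N {n t : Γ} (hn : n ∈ M.N) (ht : t ∈ M.H) : n⁻¹ * t * n ∈ M.H := by
  have := conj_mem_H' hn ht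
  simpa [Model.H, Subgroup.mem_comap] using this

omit [Fact p.Prime] in
theorem normalizer_U_le : Subgroup.normalizer (M.U : Set Γ) ≤ M.B := by
  intro g hg
  obtain ⟨a, ha, n, hn, u, hu, rfl⟩ := M.bruhat g
  have hu' : u ∈ M.U := Uinv_le_Up hu
  have h1 : n ∈ Subgroup.normalizer (M.U : Set Γ) := by
    have := mul_mem (mul_mem (inv_mem (Subgroup.le_normalizer ha)) hg)
      (inv_mem (Subgroup.le_normalizer hu'))
    simpa [mul_assoc] using this
  have h2 : n ∈ Subgroup.normalizer (M.B : Set Γ) := by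
    refine Subgroup.mem_normalizer_fintype fun b hb => ?_
    obtain ⟨x, hx, t, ht, rfl⟩ := M.mem_B hb
    have h3 := M.U_le_B ((h1 x).1 hx)
    have h4 := M.H_le_B (conj_H_N M (inv_mem hn) ht)
    have := mul_mem h3 h4
    simpa [mul_assoc] using this
  have h3 : n ∈ M.B := by
    have := H35.BN.normalizer_eq_of_le (P := M.bn) (M := M.B) le_rfl
    rwa [this] at h2
  exact mul_mem (mul_mem (M.U_le_B ha) h3) (M.U_le_B hu')

theorem allP_model (hH : ∀ a ∈ M.H, ∀ b ∈ M.H, a * b = b * a) : AllP p Γ := by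
  refine allP_of_normalizer M.sylow fun K hK _ g hg => ?_
  replace hK : M.U ≤ K := hK
  obtain ⟨x, hx, t, ht, rfl⟩ := M.mem_B (normalizer_U_le M hg)
  refine mul_mem (Subgroup.le_normalizer (hK hx)) (Subgroup.mem_normalizer_fintype fun k hk => ?_)
  -- the normal closure of `U` in `K`
  set K1 := Subgroup.normalClosure ((M.sylow.subtype hK : Subgroup K) : Set K) with hK1
  have hF := Sylow.normalizer_sup_eq_top' (M.sylow.subtype hK) (N := K1)
    (fun y hy => Subgroup.subset_normalClosure hy)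
  have h1 : ∀ y ∈ K1, t * (y : Γ) * t⁻¹ ∈ K := by
    intro y hy
    refine Subgroup.closure_induction (p := fun (y : K) _ => t * (y : Γ) * t⁻¹ ∈ K) ?_ ?_ ?_ ?_ hy
    · intro y hy
      obtain ⟨z, hz, hc⟩ := Group.mem_conjugatesOfSet_iff.1 hy
      obtain ⟨c, rfl⟩ := isConj_iff.1 hc
      replace hz : (z : Γ) ∈ M.U := hz
      obtain ⟨a, ha, n, hn, u, hu, e⟩ := M.bruhat c
      have hu' : u ∈ M.U := Uinv_le_Up hu
      have hnK : n ∈ K := by
        have := mul_mem (mul_mem (inv_mem (hK ha)) c.2) (inv_mem (hK hu'))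
        simpa [e, mul_assoc] using this
      have h2 := hK (M.conj_U_B (M.H_le_B ht) ha)
      have h3 := hK (M.conj_U_B (M.H_le_B (conj_H_N M hn ht))
        (mul_mem (mul_mem hu' hz) (inv_mem hu')))
      have := mul_mem (mul_mem h2 (mul_mem (mul_mem hnK h3) (inv_mem hnK))) (inv_mem h2)
      convert this using 1
      simp only [Subgroup.coe_mul, Subgroup.coe_inv, e]
      group
    · simp
    · intro a b _ _ ha hb
      have := mul_mem ha hb
      simpa [mul_assoc] using this
    · intro a _ ha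
      have := inv_mem ha
      simpa [mul_assoc] using this
  have h2 : (⟨k, hk⟩ : K) ∈ Subgroup.normalizer ((M.sylow.subtype hK : Subgroup K) : Set K) ⊔ K1 :=
    hF ▸ Subgroup.mem_top _
  obtain ⟨b, hb, y, hy, e⟩ := Subgroup.mem_sup_of_normal_right.1 h2
  have hb' : (b : Γ) ∈ M.B := by
    refine normalizer_U_le M (Subgroup.mem_normalizer_fintype fun z hz => ?_)
    exact (hb ⟨z, hK hz⟩).1 hz
  obtain ⟨u, hu, s, hs, e'⟩ := M.mem_B hb'
  have hsK : s ∈ K := by
    have := mul_mem (inv_mem (hK hu)) b.2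
    simpa [e'] using this
  have e2 : k = u * s * y := by rw [← e']; exact (congrArg Subtype.val e).symm
  have := mul_mem (mul_mem (hK (M.conj_U_B (M.H_le_B ht) hu)) hsK) (h1 y hy)
  have e3 : t * k * t⁻¹ = t * u * t⁻¹ * s * (t * y * t⁻¹) :=
    calc t * k * t⁻¹ = t * u * t⁻¹ * (t * s) * (y * t⁻¹) := by rw [e2]; group
      _ = _ := by rw [hH t ht s hs]; group
  rw [← e3] at this
  exact this

end model

section SLSU

open H75 H80 H31 Matrix
open scoped MatrixGroups

variable {K : Type u} [Field K] [Finite K] (p : ℕ) [Fact p.Prime] [CharP K p] {n : ℕ}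

omit [Finite K] in
theorem diagA_comm {a b : SL(n, K)} (ha : a ∈ diagA K n) (hb : b ∈ diagA K n) : a * b = b * a := by
  obtain ⟨c, hc⟩ := ha
  obtain ⟨d, hd⟩ := hb
  exact (hc.mul hd).eq ((hd.mul hc).congr rfl fun _ => mul_comm _ _)

theorem allP_SL (hn : 2 ≤ n) : AllP p SL(n, K) := by
  obtain ⟨m, rfl⟩ : ∃ m, n = m + 1 := ⟨n - 1, by omega⟩
  exact allP_model (modelSL m K p (by omega)) fun a ha b hb => diagA_comm ha hb

theorem allP_sisom (φ : K →+* K) (hφ : IsInvol φ) (hn : 2 ≤ n) : AllP p (sisom (antiB φ n)) := by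
  obtain ⟨m, rfl⟩ : ∃ m, n = m + 1 := ⟨n - 1, by omega⟩
  have : Nonempty (Fin m) := ⟨⟨0, by omega⟩⟩
  have hj : Function.Injective (sisomSL φ (antiB φ (m + 1))) := fun g h e =>
    Subtype.ext (LinearEquiv.ext fun x => by rw [← sisomSL_mulVec, e, sisomSL_mulVec])
  have := Finite.of_injective _ hj
  refine allP_model ((rdlA m K).model (coordA_conn (by omega)) (fun r _ => (parA K m).isPGroup r)
    diagA_noTors (twistA m φ hφ) coordA_compat (sisomSL φ _) hj (fun g hg => ?_) ?_)
    fun a ha b hb => hj (by rw [map_mul, map_mul]; exact diagA_comm ha hb)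
  · refine ⟨⟨SpecialLinearGroup.toLin' g, mem_sisom'.2
      ⟨(σU_eq_iff φ hφ g).1 (H34.Split.Twist.G1_le_fix _ hg), ?_⟩⟩,
      Subtype.ext (matrix_ext_mulVec fun x => sisomSL_mulVec _ _ _ _)⟩
    rw [SpecialLinearGroup.toLin'_to_linearMap, LinearMap.det_toLin', g.2]
  · rintro _ ⟨g, rfl⟩
    refine (σU_eq_iff φ hφ _).2 fun x y => ?_
    rw [sisomSL_mulVec, sisomSL_mulVec]
    exact g.2.1 x y

end SLSU

end Cfsg.Agent.H28.Pron
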