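import Mathlib
import Cfsg.Agent.H8.SylowIn

/-!
# Elements of `GL_p(q)` of `p`-power order lie in two Sylow subgroups
-/

set_option autoImplicit false

namespace Cfsg.Agent.H28.Red

open Subgroup Polynomial Module

section Grp

variable {G : Type*} [Group G] [Finite G] {p : ℕ} [hp : Fact p.Prime]

theorem comm_of_pgroup {S : G → Prop} (hS : ∀ g a, S a → S (g * a * g⁻¹))
    (key : ∀ a b, S a → S b → Commute a (b * a * b⁻¹) → Commute a (b ^ 2 * a * (b ^ 2)⁻¹) →
      Commute a b) (H : Subgroup G) :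
    IsPGroup p H → ∀ a ∈ H, ∀ b ∈ H, S a → S b → Commute a b := by
  induction H using WellFoundedLT.induction with
  | ind H ih =>
  intro hH a ha b hb sa sb
  by_cases h : zpowers a = H
  · obtain ⟨n, rfl⟩ : b ∈ zpowers a := h ▸ hb
    exact Commute.self_zpow a n
  obtain ⟨M, ⟨h1, h2⟩, hm⟩ := exists_maximal_of_wellFoundedGT (fun M : Subgroup G => a ∈ M ∧ M < H)
    ⟨zpowers a, mem_zpowers a, lt_of_le_of_ne (zpowers_le.2 ha) h⟩
  have h3 := H8.lt_inf_normalizer_of_lt hH h2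
  have h4 : H ≤ normalizer (M : Set G) := inf_eq_left.1 (by_contra fun k =>
    h3.not_ge (hm ⟨h3.le h1, lt_of_le_of_ne inf_le_left k⟩ h3.le))
  have k := fun g hg => ih M h2 (hH.to_le h2.le) a h1 _ ((mem_normalizer_iff.1 (h4 hg) a).1 h1) sa
    (hS g a sa)
  exact key a b sa sb (k b hb) (k _ (pow_mem hb 2))

theorem exists_pgroup {x a : G} {k : ℕ} (hx : x ^ p ^ k = 1) (ha : a ^ p = 1)
    (h : ∀ i : ℕ, Commute a (x ^ i * a * (x ^ i)⁻¹)) :
    ∃ P : Subgroup G, IsPGroup p P ∧ x ∈ P ∧ a ∈ P := by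
  let s := Set.range fun i : ℕ => x ^ i * a * (x ^ i)⁻¹
  have h1 : ∀ i j : ℕ, i ≤ j → Commute (x ^ i * a * (x ^ i)⁻¹) (x ^ j * a * (x ^ j)⁻¹) :=
    fun i j e => by
      obtain ⟨j, rfl⟩ := Nat.exists_eq_add_of_le e
      simpa [pow_add, mul_assoc, -map_pow] using (h j).map (MulAut.conj (x ^ i))
  have h2 : ∀ u ∈ s, ∀ v ∈ s, u * v = v * u := by
    rintro _ ⟨i, rfl⟩ _ ⟨j, rfl⟩
    exact (le_total i j).elim (h1 i j) fun e => (h1 j i e).symm
  have h3 : closure s ≤ centralizer (closure s : Set G) := by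
    rw [centralizer_closure, closure_le]
    exact fun u hu v hv => h2 v hv u hu
  refine ⟨zpowers x ⊔ closure s, IsPGroup.to_sup_of_normal_right' ?_ (fun ⟨u, hu⟩ => ⟨1, ?_⟩)
    (zpowers_le.2 (mem_normalizer_fintype fun u hu => ?_)), mem_sup_left (mem_zpowers x),
    mem_sup_right (subset_closure ⟨0, by simp⟩)⟩
  · rintro ⟨_, n, rfl⟩
    exact ⟨k, Subtype.ext (by
      change (x ^ n) ^ p ^ k = 1
      rw [← zpow_natCast, ← zpow_mul, mul_comm, zpow_mul, zpow_natCast, hx, one_zpow])⟩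
  · refine Subtype.ext (by
      change u ^ p ^ 1 = 1
      rw [pow_one]
      induction hu using closure_induction with
      | mem u hu => obtain ⟨i, rfl⟩ := hu; simp [ha]
      | one => simp
      | mul u v hu hv h4 h5 => rw [(show Commute u v from h3 hv u hu).mul_pow, h4, h5, one_mul]
      | inv u _ h4 => rw [inv_pow, h4, inv_one])
  · refine (closure_le ((closure s).comap (MulAut.conj x).toMonoidHom)).2 ?_ hu
    rintro _ ⟨i, rfl⟩
    exact subset_closure ⟨i + 1, by simp [pow_succ', mul_assoc]⟩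

end Grp

variable {F V : Type*} [Field F] [AddCommGroup V] [Module F V] {ζ : F}

/-- `a` is the reflection with centre `v`, axis `ker φ` and eigenvalue `ζ` -/
def R (ζ : F) (a : (End F V)ˣ) (v : V) (φ : V →ₗ[F] F) : Prop :=
  φ v = 1 ∧ ∀ w, a.1 w = w + ((ζ - 1) * φ w) • v

theorem exists_R (hζ : ζ ≠ 0) {v : V} {φ : V →ₗ[F] F} (h : φ v = 1) : ∃ a, R ζ a v φ := by
  refine ⟨⟨1 + (ζ - 1) • φ.smulRight v, 1 + (ζ⁻¹ - 1) • φ.smulRight v, ?_, ?_⟩, h, fun w => by
    simp [smul_smul]⟩ <;> ext w <;> simp [h] <;> match_scalars <;> field_simp <;> ring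

variable {a b : (End F V)ˣ} {v w : V} {φ ψ : V →ₗ[F] F}

theorem R.pow (h : R ζ a v φ) (i : ℕ) (u : V) : (a ^ i).1 u = u + ((ζ ^ i - 1) * φ u) • v := by
  induction i with
  | zero => simp
  | succ i ih =>
    rw [pow_succ', Units.val_mul, End.mul_apply, ih, h.2, map_add, map_smul, h.1]
    module

theorem R.pow_eq {p : ℕ} (h : R ζ a v φ) (hζ : ζ ^ p = 1) : a ^ p = 1 := by
  ext u
  simp [h.pow, hζ, -Units.val_pow_eq_pow_val]

theorem inv_app (g : (End F V)ˣ) (u : V) : (g⁻¹).1 (g.1 u) = u := by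
  rw [← End.mul_apply, Units.inv_mul, End.one_apply]

theorem R.conj (h : R ζ a v φ) (g : (End F V)ˣ) : R ζ (g * a * g⁻¹) (g.1 v) (φ ∘ₗ (g⁻¹).1) :=
  ⟨by simp [inv_app, h.1], fun u => by
    simpa [h.2] using inv_app g⁻¹ u⟩

theorem R.comm (h : R ζ a v φ) (h' : R ζ b w ψ) (h1 : φ w = 0) (h2 : ψ v = 0) : Commute a b := by
  ext u
  simp only [Units.val_mul, End.mul_apply, h.2, h'.2, map_add, map_smul, h1, h2]
  module

theorem R.of_comm (hζ : ζ ≠ 1) (h : R ζ a v φ) (h' : R ζ b w ψ) (hc : Commute a b) :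
    φ w = 0 ∨ ∀ u, ψ u • w = φ u • v := by
  refine or_iff_not_imp_left.2 fun h0 u => ?_
  have h1 : ∀ u, (φ w * ψ u) • v = (ψ v * φ u) • w := fun u => by
    have := congrArg (fun c : (End F V)ˣ => c.1 u) hc
    simp only [Units.val_mul, End.mul_apply, h.2, h'.2, map_add, map_smul] at this
    refine smul_right_injective V (pow_ne_zero 2 (sub_ne_zero.2 hζ)) ?_
    linear_combination (norm := module) this
  have h2 := congrArg φ (h1 w)
  have h3 := congrArg φ (h1 u)
  simp only [map_smul, h.1, h'.1, smul_eq_mul] at h2 h3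
  have h4 := h1 w
  rw [h'.1, mul_one] at h4
  refine smul_right_injective V h0 ?_
  have h5 : φ w * ψ u = ψ v * φ w * φ u := by linear_combination h3
  simp only [smul_smul]
  rw [h5, mul_comm (φ w) (φ u), mul_smul (φ u), h4, smul_smul, mul_comm]

theorem R.key {p : ℕ} (hp : Odd p) (h3 : 2 < p) (hζ : IsPrimitiveRoot ζ p) (h : R ζ a v φ)
    (h' : R ζ b w ψ) (h1 : Commute a (b * a * b⁻¹)) (h2 : Commute a (b ^ 2 * a * (b ^ 2)⁻¹)) :
    Commute a b := by
  have k : ∀ g : (End F V)ˣ, Commute a (g * a * g⁻¹) → φ (g.1 v) = 0 ∨ Commute a g := fun g hg =>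
    (h.of_comm (hζ.ne_one (by omega)) (h.conj g) hg).imp_right fun e =>
      (mul_inv_eq_iff_eq_mul.1 (Units.ext (LinearMap.ext fun u => by
        rw [(h.conj g).2, h.2, mul_smul, mul_smul, e]))).symm
  refine (k _ h1).elim (fun k1 => (k _ h2).elim (fun k2 => ?_) fun k2 => ?_) id
  · rw [h'.pow, map_add, map_smul, h.1, smul_eq_mul] at k2
    rw [h'.2, map_add, map_smul, h.1, smul_eq_mul] at k1
    have := hζ.ne_one (by omega)
    have := hζ.ne_zero (by omega)
    grind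
  · obtain ⟨m, rfl⟩ := hp
    have := k2.pow_right (m + 1)
    rwa [← pow_mul, show 2 * (m + 1) = 2 * m + 1 + 1 by ring, pow_succ, h'.pow_eq hζ.pow_eq_one,
      one_mul] at this

theorem R.compat {p : ℕ} (h0 : 0 < p) (h : R ζ a v φ) {x : (End F V)ˣ} {c : F} (hc : c ≠ 0)
    (hx : ∀ u, (x ^ p).1 u = c • u) (hv : ∀ i, 0 < i → i < p → φ ((x ^ i).1 v) = 0) (i : ℕ) :
    Commute a (x ^ i * a * (x ^ i)⁻¹) := by
  have h1 : Commute (x ^ p) a := by
    ext u
    simp only [Units.val_mul, End.mul_apply, hx, map_smul]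
  rw [← Nat.mod_add_div i p, pow_add, pow_mul, mul_assoc (x ^ _), (h1.pow_left _).eq, mul_inv_rev,
    ← mul_assoc, ← mul_assoc, mul_inv_cancel_right]
  rcases (i % p).eq_zero_or_pos with e | e
  · simp [e]
  have h2 := Nat.mod_lt i h0
  refine h.comm (h.conj _) (hv _ e h2) ?_
  have h3 := hv (p - i % p) (by omega) (by omega)
  rw [pow_sub _ h2.le, Units.val_mul, End.mul_apply, hx, map_smul] at h3
  exact (smul_eq_zero.1 h3).resolve_left hc

variable [FiniteDimensional F V] {p : ℕ} [hp : Fact p.Prime]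

theorem scalar [Fintype F] (h2 : p ≠ 2) (hζ : IsPrimitiveRoot ζ p)
    (hq : ¬ p ^ 2 ∣ Fintype.card F - 1) (hV : finrank F V = p) {x : End F V} {k : ℕ}
    (hx : x ^ p ^ k = 1) : ∃ c : F, x ^ p = c • 1 := by
  have p0 := hp.out.pos
  haveI : NeZero p := ⟨p0.ne'⟩
  by_cases h1 : x ^ p = 1
  · exact ⟨1, by simpa using h1⟩
  rcases k with _ | k
  · exact absurd (by rw [show x = 1 by simpa using hx, one_pow]) h1
  obtain ⟨h, hh⟩ := sub_dvd_pow_sub_pow (X ^ p : F[X]) 1 (p ^ k)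
  rw [one_pow, ← pow_mul, ← pow_succ'] at hh
  have hsep : (X ^ p ^ (k + 1) - 1 : F[X]).Separable :=
    X_pow_sub_one_separable_iff.2 (by simpa using fun e => absurd e hζ.neZero'.out)
  have hm : minpoly F x ∣ (X ^ p - 1) * h := hh ▸ minpoly.dvd F x (by simp [hx])
  have hi := IsIntegral.of_finite F x
  obtain ⟨g, hg, g1, g2⟩ : ∃ g, Irreducible g ∧ g ∣ minpoly F x ∧ g ∣ h := by
    by_contra! k
    obtain ⟨r, hr⟩ := (isCoprime_of_irreducible_dvd (fun e => minpoly.ne_zero hi e.1)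
      k).dvd_of_dvd_mul_right hm
    exact h1 (by simpa [sub_eq_zero] using congrArg (aeval x) hr)
  haveI := Fact.mk hg
  haveI := (AdjoinRoot.powerBasis hg.ne_zero).finite
  haveI : Finite (AdjoinRoot g) := Module.finite_of_finite F
  haveI := Fintype.ofFinite (AdjoinRoot g)
  have hd : g.natDegree ≤ (minpoly F x).natDegree := natDegree_le_of_dvd g1 (minpoly.ne_zero hi)
  have hd' : (minpoly F x).natDegree ≤ p := hV ▸ x.charpoly_natDegree ▸
    natDegree_le_of_dvd x.minpoly_dvd_charpoly x.charpoly_monic.ne_zero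
  have r1 : AdjoinRoot.root g ^ p ^ (k + 1) = 1 := by
    have := AdjoinRoot.mk_eq_zero.2 (hh ▸ g2.mul_left (X ^ p - 1))
    rwa [map_sub, map_pow, map_one, AdjoinRoot.mk_X, sub_eq_zero] at this
  have r2 : AdjoinRoot.root g ^ p ≠ 1 := fun e => hg.not_isUnit
    ((hh ▸ hsep).isCoprime.isUnit_of_dvd' (AdjoinRoot.mk_eq_zero.1 (by simp [e])) g2)
  obtain ⟨j, -, hj⟩ := (Nat.dvd_prime_pow hp.out).1 (orderOf_dvd_of_pow_eq_one r1)
  have j2 : 2 ≤ j := by
    by_contra! e
    exact r2 (orderOf_dvd_iff_pow_eq_one.1 (hj ▸ (pow_dvd_pow p (by omega)).trans (pow_one p).dvd))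
  have r3 := orderOf_dvd_of_pow_eq_one (FiniteField.pow_card_sub_one_eq_one (AdjoinRoot.root g)
    fun e => by simp [e, p0.ne'] at r1)
  have q1 := Fintype.one_lt_card (α := F)
  have d0 := hg.natDegree_pos
  have q2 : p ∣ Fintype.card F - 1 := hζ.dvd_of_pow_eq_one _
    (FiniteField.pow_card_sub_one_eq_one ζ (hζ.ne_zero p0.ne'))
  have q3 : padicValNat p (Fintype.card F - 1) ≤ 1 := by
    by_contra! e
    exact hq ((padicValNat_dvd_iff_le (by omega)).2 e)
  rw [hj, Module.card_eq_pow_finrank (K := F), (AdjoinRoot.powerBasis hg.ne_zero).finrank,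
    AdjoinRoot.powerBasis_dim, padicValNat_dvd_iff_le (Nat.sub_ne_zero_of_lt
      (Nat.one_lt_pow d0.ne' q1)), ← one_pow g.natDegree, padicValNat.pow_sub_pow
      (hp.out.odd_of_ne_two h2) q1 q2 (fun e => hp.out.one_lt.ne' (Nat.dvd_one.1
        ((Nat.dvd_sub_iff_right q1.le e).1 q2))) d0.ne'] at r3
  have d1 : g.natDegree = p := le_antisymm (hd.trans hd') (Nat.le_of_dvd d0
    (dvd_of_one_le_padicValNat (by omega)))
  rw [d1, padicValNat_self] at r3
  obtain ⟨i, -, e⟩ := (hζ.map_of_injective (algebraMap F (AdjoinRoot g)).injective).eq_pow_of_pow_eq_one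
    (ξ := AdjoinRoot.root g ^ p) (by
      rw [← pow_mul, ← pow_two, ← orderOf_dvd_iff_pow_eq_one, hj]; exact pow_dvd_pow p (by omega))
  obtain ⟨r, hr⟩ := (associated_of_dvd_of_natDegree_le g1 (minpoly.ne_zero hi)
    (by omega)).symm.dvd.trans (AdjoinRoot.mk_eq_zero.1
      (by simp [← e] : AdjoinRoot.mk g (X ^ p - C (ζ ^ i)) = 0))
  exact ⟨ζ ^ i, by
    simpa [sub_eq_zero, Algebra.algebraMap_eq_smul_one, _root_.smul_pow] using congrArg (aeval x) hr⟩

theorem cyc (hV : finrank F V = p) {x : (End F V)ˣ} {c : F} (hx : x.1 ^ p = c • 1)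
    (hc : ∀ b : F, b ^ p ≠ c) (hv : v ≠ 0) :
    ∃ φ : V →ₗ[F] F, φ v = 1 ∧ ∀ i, 0 < i → i < p → φ ((x ^ i).1 v) = 0 := by
  have p0 := hp.out.pos
  haveI : NeZero p := ⟨p0.ne'⟩
  have hi := X_pow_sub_C_irreducible_of_prime hp.out hc
  classical
  have h1 : LinearIndependent F fun i : Fin p => (x.1 ^ i.1) v := by
    refine Fintype.linearIndependent_iff.2 fun l hl => ?_
    have h2 : ofFn p l = 0 := by
      by_contra h
      have := hi.coprime_iff_not_dvd.2 (not_dvd_of_natDegree_lt h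
        (by rw [natDegree_X_pow_sub_C]; exact ofFn_natDegree_lt p0 l))
      refine hv ((Submodule.disjoint_def.1 (disjoint_ker_aeval_of_isCoprime x.1 this)) v ?_ ?_)
      · simp [hx, Algebra.algebraMap_eq_smul_one]
      · simpa [ofFn_eq_sum_monomial, aeval_monomial] using hl
    exact congrFun (injective_ofFn p (h2.trans (map_zero _).symm))
  let B := basisOfLinearIndependentOfCardEqFinrank h1 (by simp [hV])
  have h2 : ∀ i : Fin p, B.coord 0 ((x.1 ^ i.1) v) = if i = 0 then 1 else 0 := fun i => by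
    have := B.coord_apply 0 (B i)
    rwa [B.repr_self_apply, coe_basisOfLinearIndependentOfCardEqFinrank] at this
  exact ⟨B.coord 0, by simpa using h2 0, fun i a b => by simpa [Fin.ext_iff, a.ne'] using h2 ⟨i, b⟩⟩

theorem eigenbasis (hζ : IsPrimitiveRoot ζ p) {x : End F V} (hx : x ^ p = 1) :
    ∃ (ι : Set V) (B : Basis ι F V) (j : ι → Fin p), ∀ i, x (B i) = ζ ^ (j i).1 • B i := by
  obtain ⟨ι, h1, h2, h3⟩ := exists_linearIndependent F {v | ∃ j : Fin p, x v = ζ ^ j.1 • v}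
  have h4 : ∀ s : Finset (Fin p), LinearMap.ker (aeval x (∏ j ∈ s, (X - C (ζ ^ j.1)))) ≤
      Submodule.span F ι := fun s => by
    induction s using Finset.induction with
    | empty => simp [End.one_eq_id]
    | insert j s hj ih =>
      rw [Finset.prod_insert hj, ← sup_ker_aeval_eq_ker_aeval_mul_of_coprime _
        (IsCoprime.prod_right fun (i : Fin p) hi => isCoprime_X_sub_C_of_isUnit_sub (sub_ne_zero.2 fun e =>
          hj (Fin.ext (hζ.pow_inj j.2 i.2 e) ▸ hi)).isUnit)]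
      refine sup_le (fun v hv => h2 ▸ Submodule.subset_span ⟨j, ?_⟩) ih
      simpa [sub_eq_zero, -map_pow] using hv
  have h5 := h4 Finset.univ
  rw [Fin.prod_univ_eq_prod_range (fun j => X - C (ζ ^ j)) p] at h5
  have h6 := X_pow_sub_C_eq_prod hζ hp.out.pos (one_pow p)
  simp only [mul_one] at h6
  rw [← h6, show aeval x (X ^ p - C (1 : F)) = 0 by simp [hx], LinearMap.ker_zero] at h5
  choose j hj using fun i : ι => h1 i.2
  exact ⟨ι, Basis.mk h3 (by simpa using h5), j, by simpa using hj⟩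

theorem pair [Fintype F] (h2 : p ≠ 2) (hζ : IsPrimitiveRoot ζ p)
    (hq : ¬ p ^ 2 ∣ Fintype.card F - 1) (hV : finrank F V = p) {x : (End F V)ˣ} {k : ℕ}
    (hx : x ^ p ^ k = 1) : ∃ a b v w φ ψ, R ζ a v φ ∧ R ζ b w ψ ∧ ¬ Commute a b ∧
      (∀ i : ℕ, Commute a (x ^ i * a * (x ^ i)⁻¹)) ∧ ∀ i : ℕ, Commute b (x ^ i * b * (x ^ i)⁻¹) := by
  have p0 := hp.out.pos
  have p1 := hp.out.one_lt
  have z0 := hζ.ne_zero p0.ne'
  have z1 := hζ.ne_one p1
  have hx' : x.1 ^ p ^ k = 1 := by rw [← Units.val_pow_eq_pow_val, hx, Units.val_one]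
  obtain ⟨c, hc⟩ := scalar h2 hζ hq hV hx'
  haveI : Nontrivial V := Module.nontrivial_of_finrank_pos (R := F) (hV ▸ p0)
  have c0 : c ^ p ^ k = 1 := by
    have := congrArg (· ^ p ^ k) hc
    simp only [← pow_mul, mul_comm p, _root_.smul_pow, one_pow] at this
    rw [pow_mul, hx', one_pow] at this
    exact smul_left_injective F one_ne_zero (this.symm.trans (one_smul F _).symm)
  have c1 : c ≠ 0 := fun e => by simp [e, p0.ne'] at c0
  have hc' : ∀ u, (x ^ p).1 u = c • u := fun u => by simp [hc]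
  by_cases h1 : c = 1
  swap
  · have h3 : ∀ b : F, b ^ p ≠ c := fun b e => by
      obtain ⟨j, -, hj⟩ := (Nat.dvd_prime_pow hp.out).1 (orderOf_dvd_of_pow_eq_one
        (show b ^ p ^ (k + 1) = 1 by rw [pow_succ', pow_mul, e, c0]))
      have := orderOf_dvd_of_pow_eq_one (FiniteField.pow_card_sub_one_eq_one b
        fun e' => by simp [← e, e', p0.ne'] at c1)
      refine h1 (e ▸ orderOf_dvd_iff_pow_eq_one.1 (hj ▸ (pow_dvd_pow p ?_).trans (pow_one p).dvd))
      by_contra! e'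
      exact hq ((pow_dvd_pow p e').trans (hj ▸ this))
    obtain ⟨v, hv⟩ := exists_ne (0 : V)
    obtain ⟨φ, f1, f2⟩ := cyc hV hc h3 hv
    have f3 : φ (v + x.1 v) = 1 := by simpa [f1] using f2 1 one_pos p1
    obtain ⟨ψ, g1, g2⟩ := cyc hV hc h3 (v := v + x.1 v) fun e => by simp [e] at f3
    obtain ⟨a, ha⟩ := exists_R z0 f1
    obtain ⟨b, hb⟩ := exists_R z0 g1
    refine ⟨a, b, _, _, _, _, ha, hb, fun e => ?_, ha.compat p0 c1 hc' f2, hb.compat p0 c1 hc' g2⟩
    rcases ha.of_comm z1 hb e with e | e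
    · simp [e] at f3
    · have := e (v + x.1 v)
      rw [g1, f3, one_smul, one_smul, add_eq_left] at this
      exact hv (by rw [← inv_app x v, this, map_zero])
  obtain ⟨ι, B, j, hB⟩ := eigenbasis hζ (x := x.1) (by simpa [h1] using hc)
  haveI := FiniteDimensional.fintypeBasisIndex B
  classical
  have cm : ∀ {a v φ} {t : F}, R ζ a v φ → x.1 v = t • v → (∀ u, φ (x.1 u) = t * φ u) →
      ∀ i : ℕ, Commute a (x ^ i * a * (x ^ i)⁻¹) := fun {a v φ t} h e1 e2 i => by
    have : Commute x a := by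
      ext u
      simp only [Units.val_mul, End.mul_apply, h.2, map_add, map_smul, e1, e2]
      module
    rw [(this.pow_left i).eq, mul_inv_cancel_right]
  have co : ∀ i u, B.coord i (x.1 u) = ζ ^ (j i).1 * B.coord i u := fun i u =>
    LinearMap.congr_fun (B.ext fun l => by
      by_cases e : l = i <;> simp [hB, e, Finsupp.single_apply] :
        B.coord i ∘ₗ x.1 = ζ ^ (j i).1 • B.coord i) u
  by_cases hj : Function.Injective j
  swap
  · obtain ⟨i, l, e, hne⟩ := Function.not_injective_iff.1 hj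
    obtain ⟨a, ha⟩ := exists_R z0 (v := B i) (φ := B.coord i) (by simp)
    obtain ⟨b, hb⟩ := exists_R z0 (v := B i + B l) (φ := B.coord i) (by simp [hne.symm])
    refine ⟨a, b, _, _, _, _, ha, hb, fun e => ?_, cm ha (hB i) (co i),
      cm hb (by simp [hB, e]) (co i)⟩
    rcases ha.of_comm z1 hb e with e | e
    · exact one_ne_zero (hb.1.symm.trans e)
    · simpa [B.ne_zero] using e (B i)
  have hcard : Fintype.card ι = p := (finrank_eq_card_basis B).symm.trans hV
  have pF : (p : F) ≠ 0 := hζ.neZero'.out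
  obtain ⟨i, l, hne⟩ := Fintype.exists_pair_of_one_lt_card (hcard ▸ p1)
  have pw : ∀ (n : ℕ) i, (x ^ n).1 (B i) = (ζ ^ n) ^ (j i).1 • B i := fun n i => by
    induction n with
    | zero => simp
    | succ n ih =>
      rw [pow_succ', Units.val_mul, End.mul_apply, ih, map_smul, hB, smul_smul, pow_succ, mul_pow]
  have f1 : ∀ i, ((p : F)⁻¹ • ∑ l, B.coord l) (B i) = (p : F)⁻¹ := fun i => by
    simp [Finsupp.single_apply]
  obtain ⟨a, ha⟩ := exists_R z0 (v := ∑ i, B i) (φ := (p : F)⁻¹ • ∑ l, B.coord l)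
    (by simp only [map_sum, f1]; simp [hcard, pF])
  obtain ⟨b, hb⟩ := exists_R z0 (v := B i) (φ := B.coord i) (by simp)
  refine ⟨a, b, _, _, _, _, ha, hb, fun e => ?_, ha.compat p0 c1 hc' fun n n0 n1 => ?_,
    cm hb (hB i) (co i)⟩
  · rcases ha.of_comm z1 hb e with e | e
    · exact inv_ne_zero pF ((f1 i).symm.trans e)
    · have := congrArg (B.coord l) (e (B l))
      rw [f1] at this
      simp [hne, Finsupp.single_apply] at this
      exact pF this.symm
  · simp only [map_sum, pw, map_smul, f1, smul_eq_mul, ← Finset.sum_mul]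
    rw [((Fintype.bijective_iff_injective_and_card j).2 ⟨hj, by simp [hcard]⟩).sum_comp
      fun i => (ζ ^ n) ^ i.1, Fin.sum_univ_eq_sum_range (fun i => (ζ ^ n) ^ i) p,
      (hζ.pow_of_coprime n ((Nat.coprime_of_lt_prime n0.ne' n1 hp.out).symm)).geom_sum_eq_zero p1,
      zero_mul]

theorem main [Fintype F] (h2 : p ≠ 2) (h1 : p ∣ Fintype.card F - 1)
    (hq : ¬ p ^ 2 ∣ Fintype.card F - 1) (hV : finrank F V = p) {G : Type*} [Group G] [Finite G]
    (e : G ≃* (End F V)ˣ) (Q : Sylow p G) {x : G} {k : ℕ} (hx : orderOf x = p ^ k) :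
    ∃ P : Sylow p G, P ≠ Q ∧ x ∈ P := by
  classical
  obtain ⟨ζ, hζ⟩ := exists_prime_orderOf_dvd_card (G := Fˣ) p (by rwa [Fintype.card_units])
  have hζ' : IsPrimitiveRoot (ζ : F) p := IsPrimitiveRoot.coe_units_iff.2 (hζ ▸ .orderOf ζ)
  have hx' : e x ^ p ^ k = 1 := by rw [← map_pow, ← hx, pow_orderOf_eq_one, map_one]
  obtain ⟨a, b, v, w, φ, ψ, ha, hb, h3, h4, h5⟩ := pair h2 hζ' hq hV hx'
  haveI := Finite.of_equiv _ e.toEquiv
  by_contra! k
  have m : ∀ {a v φ}, R (ζ : F) a v φ → (∀ i : ℕ, Commute a (e x ^ i * a * (e x ^ i)⁻¹)) →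
      a ∈ Q.1.map e.toMonoidHom := fun h h' => by
    obtain ⟨P, h1, h2, h3⟩ := exists_pgroup hx' (h.pow_eq hζ'.pow_eq_one) h'
    obtain ⟨T, hT⟩ := (h1.comap_of_injective e.toMonoidHom e.injective).exists_le_sylow
    obtain rfl : T = Q := by_contra fun e' => k T e' (hT h2)
    exact ⟨e.symm _, hT (by simpa using h3), e.apply_symm_apply _⟩
  exact h3 (comm_of_pgroup (S := fun a => ∃ v φ, R (ζ : F) a v φ)
    (fun g a ⟨_, _, h⟩ => ⟨_, _, h.conj g⟩) (fun a b ⟨_, _, h⟩ ⟨_, _, h'⟩ =>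
      h.key (hp.out.odd_of_ne_two h2) (lt_of_le_of_ne hp.out.two_le h2.symm) hζ' h') _
    (Q.2.map _) a (m ha h4) b (m hb h5) ⟨_, _, ha⟩ ⟨_, _, hb⟩)

end Cfsg.Agent.H28.Red
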