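import Mathlib
import Cfsg.Agent.H46.SDefs
import Cfsg.Agent.H46.SKit

/-! Project S95: the fusion `t ~ t z`, piece `Start2`. -/

set_option autoImplicit false
open scoped Pointwise commutatorElement
open Subgroup

namespace Cfsg.Agent.H28.S95B
open Cfsg.Agent.H8 Cfsg.Agent.H23.D2 Cfsg.Agent.H46.S95

universe u

local notation "C[" A "]" => Subgroup.centralizer (SetLike.coe A)
local notation "N[" A "]" => Subgroup.normalizer (SetLike.coe A)

theorem no19 {E : Type*} [Group E] [Finite E] (hE : Nat.card E = 128) (ρ : MulAut E) :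
    orderOf ρ ≠ 19 := fun h => by
  haveI : Fact (Nat.Prime 19) := ⟨by norm_num⟩
  have p : IsPGroup 19 (zpowers ρ) := IsPGroup.of_card (n := 1) (by rw [Nat.card_zpowers, h]; rfl)
  have m := p.card_modEq_card_fixedPoints E
  let F : Subgroup E := FixedPoints.subgroup (zpowers ρ) E
  change Nat.card E ≡ Nat.card F [MOD 19] at m
  have ne : Nat.card F ≠ 128 := fun e => by
    have : F = ⊤ := eq_top_of_card_eq _ (e.trans hE.symm)
    have r1 : ρ = 1 := MulEquiv.ext fun x => (this.ge (mem_top x) : x ∈ F) ⟨ρ, mem_zpowers ρ⟩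
    rw [r1, orderOf_one] at h
    omega
  have d : Nat.card F ∣ 2 ^ 7 := (by rw [hE]; rfl : Nat.card E = 2 ^ 7) ▸ card_subgroup_dvd_card F
  obtain ⟨j, hj, e⟩ := (Nat.dvd_prime_pow Nat.prime_two).1 d
  rw [hE, e] at m
  rw [e] at ne
  interval_cases j <;> simp_all [Nat.ModEq]

variable {Γ : Type} [Group Γ] {G : Type u} [Group G] {φ : Γ →* G} {t : G} {O : Subgroup G}

theorem orb19 [Finite G] {E : Subgroup G} (hE : Nat.card E = 128) (ht : t ∈ E)
    (h : {e | ∃ m ∈ N[E], m * t * m⁻¹ = e}.ncard = 19) : False := by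
  haveI : Fact (Nat.Prime 19) := ⟨by norm_num⟩
  haveI : Finite (MulAut E) := Finite.of_injective _ DFunLike.coe_injective
  let R : Subgroup (MulAut E) := E.normalizerMonoidHom.range
  have e : Subtype.val '' MulAction.orbit R (⟨t, ht⟩ : E) = {e | ∃ m ∈ N[E], m * t * m⁻¹ = e} := by
    ext x
    constructor
    · rintro ⟨_, ⟨⟨_, m, rfl⟩, rfl⟩, rfl⟩
      exact ⟨m, m.2, rfl⟩
    · rintro ⟨m, hm, rfl⟩
      exact ⟨_, ⟨⟨_, ⟨m, hm⟩, rfl⟩, rfl⟩, rfl⟩
  rw [← e, Set.ncard_image_of_injective _ Subtype.val_injective, ← MulAction.index_stabilizer] at h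
  obtain ⟨ρ, hρ⟩ := exists_prime_orderOf_dvd_card' (G := R) 19 (h ▸ index_dvd_card _)
  exact no19 hE ρ (by rw [Subgroup.orderOf_coe, hρ])

theorem mem_ext {X : Subgroup G} (tt : t * t = 1) (hX : ∀ x ∈ X, x * t = t * x) {x : G} :
    x ∈ zpowers t ⊔ X ↔ x ∈ X ∨ t * x ∈ X := by
  classical
  constructor
  · intro hx
    have : x ∈ (zpowers t : Set G) * (X : Set G) := by
      rw [← coe_mul_of_left_le_normalizer_right _ _ (zpowers_le.2 (C_le_N (mem_C.2 hX)))]
      exact hx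
    obtain ⟨_, ⟨k, rfl⟩, y, hy, rfl⟩ := this
    have t2 : ∀ j : ℤ, t ^ (2 * j) = 1 := fun j => by rw [zpow_mul, zpow_two, tt, one_zpow]
    rcases Int.even_or_odd' k with ⟨j, rfl | rfl⟩
    · left; simpa [t2] using hy
    · right; simpa [zpow_add_one, t2, ← mul_assoc, tt] using hy
  · rintro (h | h)
    · exact mem_sup_right h
    · exact (mul_mem_cancel_left (mem_sup_left (mem_zpowers t))).1 (mem_sup_right h)

theorem card_ext [Finite G] {X : Subgroup G} (tt : t * t = 1) (hX : ∀ x ∈ X, x * t = t * x)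
    (ht : t ∉ X) : Nat.card (zpowers t ⊔ X : Subgroup G) = Nat.card X * 2 := by
  have idx : (X.subgroupOf (zpowers t ⊔ X)).index = 2 := by
    refine (index_eq_two_iff').2 ⟨⟨t, mem_sup_left (mem_zpowers t)⟩, fun x => ?_⟩
    simp only [mem_subgroupOf, coe_mul]
    by_cases c : (x : G) ∈ X
    · exact Or.inr ⟨c, fun k => ht ((mul_mem_cancel_right c).1 k)⟩
    · exact Or.inl ⟨((mem_ext tt hX).1 x.2).resolve_left c, c⟩
  rw [← idx, ← Nat.card_congr (subgroupOfEquivOfLe (le_sup_right : X ≤ zpowers t ⊔ X)).toEquiv]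
  exact (card_mul_index _).symm

theorem dec (h : Cx φ t O) {H : Subgroup Γ} {x : G} (hx : x ∈ H.map φ ⊔ O) :
    ∃ a ∈ H, ∃ o ∈ O, x = φ a * o := by
  have : x ∈ (H.map φ : Set G) * (O : Set G) := by
    rw [← coe_mul_of_right_le_normalizer_left _ _ (fun o ho => C_le_N (mem_C.2 (by
      rintro _ ⟨a, -, rfl⟩; exact h.oA ho a)))]
    exact hx
  obtain ⟨_, ⟨a, ha, rfl⟩, k, hk, e⟩ := this
  exact ⟨a, ha, k, hk, e.symm⟩

theorem der_le (h : Cx φ t O) {H : Subgroup Γ} {D : Subgroup G} (hD : D ≤ H.map φ ⊔ O) :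
    ⁅D, D⁆ ≤ ⁅H, H⁆.map φ ⊔ O := commutator_le.2 fun x hx y hy => by
  obtain ⟨a, ha, o, ho, rfl⟩ := dec h (hD hx)
  obtain ⟨b, hb, p, hp, rfl⟩ := dec h (hD hy)
  have e : ⁅φ a * o, φ b * p⁆ = φ ⁅a, b⁆ * ⁅o, p⁆ := by
    have c : ∀ x : Γ, ∀ q ∈ O, ∀ y : G, q * (φ x * y) = φ x * (q * y) := fun x q hq y => by
      rw [← mul_assoc, ← h.oA hq, mul_assoc]
    have c' : ∀ x : Γ, ∀ q ∈ O, q * φ x = φ x * q := fun x q hq => (h.oA hq x).symm
    simp only [commutatorElement_def, mul_inv_rev, ← map_inv, map_mul, mul_assoc,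
      c _ _ ho, c _ _ hp, c _ _ (inv_mem ho), c _ _ (inv_mem hp), c' _ _ (inv_mem hp)]
  rw [e]
  exact mul_mem (mem_sup_left (mem_map_of_mem φ (commutator_mem_commutator ha hb)))
    (mem_sup_right (mul_mem (mul_mem (mul_mem ho hp) (inv_mem ho)) (inv_mem hp)))

theorem nrm_der {D : Subgroup G} {n : G} (h : MulAut.conj n • D = D) :
    MulAut.conj n • ⁅D, D⁆ = ⁅D, D⁆ := by rw [commutator_conj_smul, h]

theorem start2 : Start2Stmt.{u} := by
  rintro Γ _ G _ _ φ t O z a hb ⟨zz, z1, b, bb, b1, cls, alt⟩ h aa a1 ha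
  by_contra hz
  have fin := hb.fin
  have cl : ∀ x, x * x = 1 → x ≠ 1 → IsConj t (t * φ x) → IsConj b x := fun x xx x1 i =>
    (cls x xx x1).resolve_left fun k => hz (i.trans (h.isConj_mul k.symm))
  have tb : IsConj t (t * φ b) := ha.trans (h.isConj_mul (cl a aa a1 ha).symm)
  obtain ⟨n, n1, n2⟩ : ∃ n : G, n * t * n⁻¹ = t * φ b ∧ n * φ b * n⁻¹ = φ b := by
    obtain ⟨g, a', e1, e2, e3⟩ := h.swap hb bb tb
    have i : IsConj (φ a') (φ b) := isConj_iff.2 ⟨g, e2⟩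
    obtain ⟨c, hc⟩ := isConj_iff.1 (cl a' (h.inj (by
      have := i.symm.pow 2
      rw [sq, sq, ← map_mul, bb, map_one, isConj_one_right] at this
      rw [map_mul, this, map_one])) (fun e => b1 (h.inj (by
        rw [← e2, e]; simp))) (isConj_iff.2 ⟨g, e3⟩).symm)
    refine ⟨g * φ c, ?_, ?_⟩
    · rw [← e1, mul_assoc g, h.AC c]; group
    · calc _ = g * φ (c * b * c⁻¹) * g⁻¹ := by simp only [map_mul, map_inv]; group
        _ = _ := by rw [hc, e2]
  have n3 : n * (t * φ b) * n⁻¹ = t := by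
    calc _ = (n * t * n⁻¹) * (n * φ b * n⁻¹) := by group
      _ = t := by rw [n1, n2, mul_assoc, ← map_mul, bb, map_one, mul_one]
  obtain ⟨D, hD⟩ : ∃ D : Subgroup G, D = centralizer {t} ⊓ centralizer {φ b} := ⟨_, rfl⟩
  have mD : ∀ d, d ∈ D ↔ d * t = t * d ∧ d * φ b = φ b * d := fun d => by
    rw [hD, mem_inf, mem_centralizer_singleton_iff, mem_centralizer_singleton_iff]
  have nD : MulAut.conj n • D = D := mem_N_iff.1 (mem_N_of fun d hd => by
    obtain ⟨d1, d2⟩ := (mD d).1 hd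
    have k : ∀ y, d * y = y * d → n * d * n⁻¹ * (n * y * n⁻¹) = n * y * n⁻¹ * (n * d * n⁻¹) :=
      fun y e => by
        calc _ = n * (d * y) * n⁻¹ := by group
          _ = _ := by rw [e]; group
    refine (mD _).2 ⟨?_, ?_⟩
    · have := k (t * φ b) (by rw [← mul_assoc, d1, mul_assoc, d2, mul_assoc])
      rwa [n3] at this
    · have := k _ d2
      rwa [n2] at this)
  have AD : (Cz b).map φ ≤ D := by
    rintro _ ⟨x, hx, rfl⟩
    exact (mD _).2 ⟨h.AC x, by rw [← map_mul, mem_Cz.1 hx, map_mul]⟩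
  have D1 : ⁅D, D⁆ ≤ (Cz b).map φ ⊔ O := fun x hx => by
    have l1 : D ≤ centralizer {t} := hD ▸ inf_le_left
    obtain ⟨y, o, ho, rfl⟩ := h.mem_sup.1 (h.der hb (commutator_mono l1 l1 hx))
    have := ((mD _).1 (commutator_le.2 (fun p hp q hq =>
      mul_mem (mul_mem (mul_mem hp hq) (inv_mem hp)) (inv_mem hq)) hx : _ ∈ D)).2
    rw [mul_assoc, ← h.oA ho, ← mul_assoc, ← mul_assoc, mul_left_inj, ← map_mul, ← map_mul] at this
    exact mul_mem (mem_sup_left ⟨y, mem_Cz.2 (h.inj this), rfl⟩) (mem_sup_right ho)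
  have sq' : ∀ x : Γ, x * x = 1 → n * φ x * n⁻¹ * (n * φ x * n⁻¹) = 1 := fun x e => by
    calc _ = n * φ (x * x) * n⁻¹ := by rw [map_mul]; group
      _ = 1 := by rw [e]; simp
  have mm : ∀ {H : Subgroup Γ} {K : Subgroup G}, H.map φ ≤ K → ⁅H, H⁆.map φ ≤ ⁅K, K⁆ :=
    fun k => by rw [map_commutator]; exact commutator_mono k k
  rcases alt with rfl | ⟨⟨x, hx, zx⟩, h2⟩ | ⟨⟨V, bV, eV, cV, dV⟩, h2⟩
  · exact hz tb
  · have xx : x * x = 1 := by
      have := zx.pow 2
      rwa [sq, sq, zz, isConj_one_right] at this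
    have m1 : n * φ x * n⁻¹ ∈ ⁅⁅⁅D, D⁆, ⁅D, D⁆⁆, ⁅⁅D, D⁆, ⁅D, D⁆⁆⁆ := by
      rw [← nrm_der (nrm_der (nrm_der nD))]
      exact conj_mem_conj.2 (mm (mm (mm AD)) (mem_map_of_mem φ hx))
    obtain ⟨y, hy, o, ho, e⟩ := dec h (der_le h (der_le h D1) m1)
    have s := sq' x xx
    rw [e, mul_assoc, ← mul_assoc o, ← h.oA ho, mul_assoc, ← mul_assoc, ← map_mul] at s
    obtain ⟨yy, oo⟩ := h.o_of_mul hb (mul_mem ho ho) s
    rw [h.o_sq ho oo, mul_one] at e
    have y1 : y ≠ 1 := fun k => z1 (by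
      rw [k, map_one, conj_eq_one_iff, ← map_one φ] at e
      rwa [h.inj e, isConj_one_left] at zx)
    refine hz (((tb.trans (h.isConj_mul (h2 y hy yy y1))).trans
      (isConj_iff.2 ⟨n, ?_⟩ : IsConj (t * φ x) _).symm).trans (h.isConj_mul zx.symm))
    rw [map_mul, ← mul_assoc t, ← n1, ← e]; group
  · have VA : MulAut.conj n • V.map φ ≤ φ.range := fun x hx => by
      obtain ⟨v, hv, e⟩ := mem_conj.1 hx
      have e' : x = n * φ v * n⁻¹ := by rw [e]; group
      have m1 : n * φ v * n⁻¹ ∈ ⁅D, D⁆ := by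
        rw [← nrm_der nD]
        exact conj_mem_conj.2 (mm AD (mem_map_of_mem φ (dV hv)))
      rw [e']
      exact h.inv_mem hb ((sup_le_sup_right (map_le_range _ _) O) (D1 m1)) (sq' v (eV v hv))
    obtain ⟨W, hW⟩ : ∃ W : Subgroup Γ, W.map φ = MulAut.conj n • V.map φ :=
      ⟨_, map_comap_eq_self VA⟩
    have cW : Nat.card W = 64 := by
      rw [← card_map_of_injective h.inj, hW, card_conj, card_map_of_injective h.inj, cV]
    have eW : El W := fun w hw => by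
      obtain ⟨v, hv, e⟩ := mem_conj.1 (hW ▸ mem_map_of_mem φ hw)
      have := sq' v (eV v hv)
      rw [e] at this
      exact h.inj (by simpa [mul_assoc] using this)
    have bW : φ b ∈ W.map φ := by
      rw [hW, ← n2]; exact conj_mem_conj.2 (mem_map_of_mem φ bV)
    have cX : ∀ (H : Subgroup Γ), ∀ x ∈ H.map φ, x * t = t * x := by
      rintro H _ ⟨x, -, rfl⟩; exact h.AC x
    have nX : ∀ (H : Subgroup Γ), ∀ c ∈ N[H], φ c ∈ N[zpowers t ⊔ H.map φ] := fun H c hc =>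
      mem_N_of fun x hx => by
        rw [mem_ext h.tt (cX H)] at hx ⊢
        have k : ∀ y ∈ H.map φ, φ c * y * (φ c)⁻¹ ∈ H.map φ := by
          rintro _ ⟨y, hy, rfl⟩
          exact ⟨_, norm_conj hc hy, by simp⟩
        refine hx.imp (k x) fun k' => ?_
        have := k _ k'
        rwa [← mul_assoc, h.AC c, mul_assoc t, mul_assoc t] at this
    have hE : MulAut.conj n • (zpowers t ⊔ V.map φ) = zpowers t ⊔ W.map φ := by
      ext x
      rw [mem_conj, mem_ext h.tt (cX V), mem_ext h.tt (cX W), hW, mem_conj, mem_conj,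
        show t * (n⁻¹ * x * n) = n⁻¹ * (n * t * n⁻¹ * x) * n by group, n1, ← mem_conj, ← mem_conj,
        ← mem_conj, ← hW, ← h.AC b, mul_assoc, mul_mem_cancel_left bW]
    obtain ⟨c18, trW⟩ := h2 W eW cW
    obtain ⟨c18', trV⟩ := h2 V eV cV
    obtain ⟨y, ⟨yV, by'⟩, yb⟩ : ∃ y, (y ∈ V ∧ IsConj b y) ∧ y ≠ b := by
      by_contra! k
      have : Nat.card {x // x ∈ V ∧ IsConj b x} ≤ 1 := Finite.card_le_one_iff_subsingleton.2
        ⟨fun p q => Subtype.ext ((k _ p.2).trans (k _ q.2).symm)⟩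
      omega
    obtain ⟨c, hc, ec⟩ := trV b bV y yV (IsConj.refl b) by'
    have tE : t ∈ zpowers t ⊔ W.map φ := mem_sup_left (mem_zpowers t)
    have sub : ∀ m ∈ N[zpowers t ⊔ W.map φ], m * t * m⁻¹ = t ∨
        ∃ w, (w ∈ W ∧ IsConj b w) ∧ t * φ w = m * t * m⁻¹ := fun m hm => by
      rcases (mem_ext h.tt (cX W)).1 (norm_conj hm tE) with ⟨w, -, e⟩ | ⟨w, hw, e⟩
      · exact absurd e.symm (h.not_conj hb m w)
      have e' : t * φ w = m * t * m⁻¹ := by rw [e, ← mul_assoc, h.tt, one_mul]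
      by_cases w1 : w = 1
      · left; rw [← e', w1, map_one, mul_one]
      · exact .inr ⟨w, ⟨hw, cl w (eW w hw) w1 (isConj_iff.2 ⟨m, e'.symm⟩)⟩, e'⟩
    have m0 : n * φ c * n⁻¹ ∈ N[zpowers t ⊔ W.map φ] := by
      rw [← hE, normalizer_conj_smul]
      exact conj_mem_conj.2 (nX V c hc)
    obtain ⟨w0, hw0, e0⟩ := (sub _ m0).resolve_left fun e => yb (h.inj (by
      have : n * (t * φ y) * n⁻¹ = n * (t * φ b) * n⁻¹ := by
        calc _ = n * φ c * n⁻¹ * (n * (t * φ b) * n⁻¹) * (n * φ c * n⁻¹)⁻¹ := by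
              rw [← ec]
              simp only [map_mul, map_inv, ← mul_assoc, inv_mul_cancel_right]
              rw [mul_assoc n (φ c), h.AC c]
              group
          _ = _ := by rw [n3, e]
      simpa using this))
    refine orb19 (E := zpowers t ⊔ W.map φ) (by
      rw [card_ext h.tt (cX W) (by rintro ⟨w, -, e⟩; exact h.tA hb w e),
        card_map_of_injective h.inj, cW]) tE ?_
    have : {e | ∃ m ∈ N[zpowers t ⊔ W.map φ], m * t * m⁻¹ = e} =
        insert t ((fun w => t * φ w) '' {w | w ∈ W ∧ IsConj b w}) := by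
      ext x
      constructor
      · rintro ⟨m, hm, rfl⟩
        exact sub m hm
      · rintro (rfl | ⟨w, hw, rfl⟩)
        · exact ⟨1, one_mem _, by simp⟩
        · obtain ⟨d, hd, ed⟩ := trW w0 hw0.1 w hw.1 hw0.2 hw.2
          refine ⟨_, mul_mem (nX W d hd) m0, ?_⟩
          calc _ = φ d * (n * φ c * n⁻¹ * t * (n * φ c * n⁻¹)⁻¹) * (φ d)⁻¹ := by group
            _ = _ := by
              rw [← e0, ← ed, ← mul_assoc, h.AC d]; simp only [map_mul, map_inv]; group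
    rw [this, Set.ncard_insert_of_notMem, Set.ncard_image_of_injective _
      (fun p q e => h.inj (mul_left_cancel e)), ← Nat.card_coe_set_eq]
    · exact congrArg (· + 1) c18
    · rintro ⟨w, hw, e⟩
      have : w = 1 := h.inj (by simpa using e)
      exact b1 (isConj_one_left.1 (this ▸ hw.2))

end Cfsg.Agent.H28.S95B
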