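import Mathlib
import Cfsg.Agent.S4130

/-!
# Square-free class sizes of primary elements: the solvable case (project SQF, piece S)
-/

set_option autoImplicit false

namespace Cfsg.Agent.H28.SqS

open Subgroup Cfsg Cfsg.Agent.H92 Cfsg.Agent.H89

universe u

/-- the hypothesis -/
def Hy (G : Type*) [Group G] : Prop :=
  ∀ x : G, (∃ (r : ℕ) (k : ℕ), r.Prime ∧ orderOf x = r ^ k) →
    Squarefree (Subgroup.centralizer ({x} : Set G)).index

theorem dvd_of_sqf {r n : ℕ} (hr : r.Prime) (h1 : ∃ k, n = r ^ k) (h2 : Squarefree n) : n ∣ r := by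
  obtain ⟨k, rfl⟩ := h1
  rcases k with _ | k
  · simp
  · rw [show k + 1 = 1 from ((Nat.squarefree_pow_iff hr.one_lt.ne' k.succ_ne_zero).1 h2).2,
      pow_one]

variable {G : Type*} [Group G] [Finite G]

theorem lift {Q : Type*} [Group Q] {f : G →* Q} (hf : Function.Surjective f) {r k : ℕ}
    (hr : r.Prime) {y : Q} (hy : orderOf y = r ^ k) : ∃ x, f x = y ∧ ∃ j, orderOf x = r ^ j := by
  obtain ⟨g, rfl⟩ := hf y
  obtain ⟨a, b, -, ⟨i, hb⟩, e, h1, h2⟩ := exists_p_parts hr g
  have h3 : orderOf (f b) ∣ r ^ k := by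
    rw [← hy, ← hb]
    exact orderOf_dvd_of_mem_zpowers ⟨i, (map_zpow f g i).symm⟩
  have h4 : f b = 1 := orderOf_eq_one_iff.1 (Nat.eq_one_of_dvd_coprimes
    (((Nat.Prime.coprime_iff_not_dvd hr).2 h2).pow_left k) h3 (orderOf_map_dvd f b))
  exact ⟨a, by rw [e, map_mul, h4, mul_one], h1⟩

theorem Hy.map (h : Hy G) {Q : Type*} [Group Q] {f : G →* Q} (hf : Function.Surjective f) :
    Hy Q := by
  rintro y ⟨r, k, hr, hy⟩
  obtain ⟨x, rfl, j, hj⟩ := lift hf hr hy
  exact (h x ⟨r, j, hr, hj⟩).squarefree_of_dvd (cs_map_dvd hf x)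

theorem Hy.sub (h : Hy G) (N : Subgroup G) [N.Normal] : Hy N := by
  rintro x ⟨r, k, hr, hx⟩
  exact (h x ⟨r, k, hr, by rw [orderOf_coe, hx]⟩).squarefree_of_dvd (cs_subgroup_dvd N x)

theorem supersolvable (G : Type u) [Group G] [Finite G] (hs : Group.IsSolvable G) (h : Hy G) :
    IsSupersolvable G := by
  induction hn : Nat.card G using Nat.strong_induction_on generalizing G with
  | _ n ih =>
  by_cases h1 : (⊤ : Subgroup G) = ⊥
  · have h2 : ∀ a : G, a = 1 := fun a => mem_bot.1 (h1 ▸ mem_top a)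
    have : Subsingleton G := ⟨fun a b => by rw [h2 a, h2 b]⟩
    exact H5.supersolvable_of_isCyclic
  obtain ⟨M, p, hp, hM, hM0, -, hE, hmin⟩ :=
    H3.exists_minimal_normal_elementary_le (⊤ : Subgroup G) inferInstance h1
  have := Fact.mk hp
  have := hE.1
  have h2 : IsPGroup p M := fun x => ⟨1, Subtype.ext (by simpa using hE.2 x x.2)⟩
  have hq := ih _ (hn ▸ H5.card_quotient_lt hM0) (G ⧸ M) inferInstance
    (h.map (QuotientGroup.mk'_surjective M)) rfl
  suffices IsCyclic M from H5.supersolvable_of_quotient_cyclic M hq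
  by_cases hC : centralizer (M : Set G) = ⊤
  · obtain ⟨⟨x, hx⟩, hx1⟩ := ne_bot_iff_exists_ne_one.1 hM0
    have h3 : (zpowers x).Normal := ⟨fun y hy g => by
      rw [← (hC ▸ mem_top g : g ∈ centralizer (M : Set G)) y (zpowers_le.2 hx hy),
        mul_inv_cancel_right]
      exact hy⟩
    rcases hmin _ h3 (zpowers_le.2 hx) with e | e
    · exact absurd (Subtype.ext (zpowers_eq_bot.1 e)) hx1
    · rw [← e]; infer_instance
  set C := centralizer (M : Set G) with hCd
  have hMC : M ≤ C := le_centralizer M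
  have h3 : IsSupersolvable (G ⧸ C) := H5.supersolvable_of_surjective hq
    (QuotientGroup.map M C (MonoidHom.id G) hMC) fun y => by
      obtain ⟨y, rfl⟩ := QuotientGroup.mk_surjective y
      exact ⟨y, rfl⟩
  obtain ⟨L, hL, -, hr⟩ := H5.supersolvable_exists_normal_prime h3 ⊤ fun e => hC (by
    rw [eq_top_iff]
    intro g _
    exact (QuotientGroup.eq_one_iff g).1 (mem_bot.1 (e ▸ mem_top _)))
  obtain ⟨⟨y, hy⟩, hy1⟩ := ne_bot_iff_exists_ne_one.1 (show L ≠ ⊥ from fun e => by
    rw [e, card_bot] at hr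
    exact Nat.not_prime_one hr)
  have hy2 : y ≠ 1 := fun e => hy1 (Subtype.ext e)
  have h4 : L = zpowers y := H58.eq_zpowers_of_card_prime hr rfl hy hy2
  obtain ⟨x, rfl, j, hj⟩ := lift (QuotientGroup.mk'_surjective C) hr (k := 1) (y := y)
    (by rw [pow_one, h4, Nat.card_zpowers])
  have h5 : Ce[x] ⊓ M = ⊥ := by
    rcases hmin (M ⊓ centralizer (L.comap (QuotientGroup.mk' C) : Set G)) inferInstance
      inf_le_left with e | e
    · rw [eq_bot_iff, ← e]
      rintro m ⟨m1, m2⟩
      refine ⟨m2, fun g hg => ?_⟩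
      rw [h4] at hg
      obtain ⟨i, hi⟩ := hg
      have e1 : (x ^ i)⁻¹ * g ∈ C := QuotientGroup.eq.1 hi
      have e2 : g ∈ Ce[m] := by
        rw [← mul_inv_cancel_left (x ^ i) g]
        exact mul_mem (zpow_mem (mem_C_comm.1 m1) i) (mem_C'.2 (e1 m m2))
      exact mem_C.1 e2
    · refine absurd ((QuotientGroup.eq_one_iff x).2 fun m hm => ?_) hy2
      exact ((e.ge hm).2 x hy).symm
  have h6 := relIndex_normal_dvd_index (Ce[x]) M
  rw [← inf_relIndex_right, h5, relIndex_bot_left] at h6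
  exact isCyclic_of_card_dvd_prime (dvd_of_sqf hp h2.exists_card_eq
    ((h x ⟨_, j, hr, hj⟩).squarefree_of_dvd h6))

theorem sqf_commutator (hn : Group.IsNilpotent G) (h : Hy G) :
    Squarefree (Nat.card (commutator G)) := by
  rw [Nat.squarefree_iff_prime_squarefree]
  intro p hp hd
  have := Fact.mk hp
  have hK : (pPrimeCore p G).Normal := sSup_normal _ fun _ h => h.1
  have h1 : commutator (G ⧸ pPrimeCore p G) =
      (commutator G).map (QuotientGroup.mk' (pPrimeCore p G)) := by
    rw [commutator_def, commutator_def, map_commutator,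
      map_top_of_surjective _ (QuotientGroup.mk'_surjective _)]
  have h2 : IsPGroup p (⊤ : Subgroup (G ⧸ pPrimeCore p G)) := by
    have h3 := H3.le_fitting (N := (⊤ : Subgroup (G ⧸ pPrimeCore p G))) inferInstance
    rw [H3.fitting_eq_pCore (H3.pPrimeCore_quotient_pPrimeCore p G)] at h3
    exact (H3.pCore_isPGroup p _).to_le h3
  have h3 := card_commutator_dvd (p := p) (fun x hx => by
    obtain ⟨k, hk⟩ := (IsPGroup.iff_orderOf.1 (h2.of_equiv topEquiv)) x
    exact hp.one_lt.ne' (Nat.isUnit_iff.1 (h.map (QuotientGroup.mk'_surjective _) x ⟨p, k, hp, hk⟩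
      p (sq p ▸ hx)))) (h2.to_le le_top)
  rw [h1, ← relIndex_ker, QuotientGroup.ker_mk'] at h3
  rw [← ((pPrimeCore p G).subgroupOf (commutator G)).card_mul_index] at hd
  have h4 : (Nat.card ((pPrimeCore p G).subgroupOf (commutator G))).Coprime p :=
    (H3.pPrimeCore_coprime p G).coprime_dvd_left (card_comap_dvd_of_injective _ _
      (commutator G).subtype_injective)
  have h5 := ((h4.mul_right h4).symm.dvd_of_dvd_mul_left hd).trans h3
  exact hp.one_lt.ne' (Nat.isUnit_iff.1 (hp.prime.squarefree p h5))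

theorem pow_mem (G : Type u) [Group G] [Finite G] (hs : IsSupersolvable G) (h : Hy G) {r : ℕ}
    (hr : r.Prime) (x : G) (hx : ∃ k, orderOf x = r ^ k) : x ^ r ∈ fittingSubgroup G := by
  induction hn : Nat.card G using Nat.strong_induction_on generalizing G with
  | _ n ih =>
  by_cases h1 : (⊤ : Subgroup G) = ⊥
  · rw [show x ^ r = 1 from mem_bot.1 (h1 ▸ mem_top _)]
    exact one_mem _
  obtain ⟨M, hM, -, hp⟩ := H5.supersolvable_exists_normal_prime hs ⊤ h1
  have hM0 : M ≠ ⊥ := fun e => by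
    rw [e, card_bot] at hp
    exact Nat.not_prime_one hp
  have h2 := ih _ (hn ▸ H5.card_quotient_lt hM0) (G ⧸ M) (H5.supersolvable_quotient hs M)
    (h.map (QuotientGroup.mk'_surjective M)) (x : G ⧸ M)
    (eq_pow_of_dvd hr (orderOf_map_dvd (QuotientGroup.mk' M) x) hx) rfl
  obtain ⟨⟨v, hv⟩, hv1⟩ := ne_bot_iff_exists_ne_one.1 hM0
  have h3 : M = zpowers v := H58.eq_zpowers_of_card_prime hp rfl hv fun e => hv1 (Subtype.ext e)
  have h4 : centralizer (M : Set G) = Ce[v] := by
    rw [h3, zpowers_eq_closure, centralizer_closure]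
  have h5 : Squarefree (centralizer (M : Set G)).index :=
    h4 ▸ h v ⟨_, 1, hp, by rw [pow_one, h3, Nat.card_zpowers]⟩
  have h6 : x ^ r ∈ centralizer (M : Set G) := by
    rw [← QuotientGroup.eq_one_iff, QuotientGroup.mk_pow, ← orderOf_dvd_iff_pow_eq_one]
    exact dvd_of_sqf hr (eq_pow_of_dvd hr (orderOf_map_dvd (QuotientGroup.mk' _) x) hx)
      (h5.squarefree_of_dvd (orderOf_dvd_natCard _))
  have := H3.fitting_normal (G ⧸ M)
  have := H3.fitting_isNilpotent (G ⧸ M)
  let K := (fittingSubgroup (G ⧸ M)).comap (QuotientGroup.mk' M) ⊓ centralizer (M : Set G)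
  have h7 : Group.IsNilpotent K := Subgroup.isNilpotent_of_ker_le_center
    (((QuotientGroup.mk' M).comp K.subtype).codRestrict (fittingSubgroup (G ⧸ M)) fun k => k.2.1)
    (fun k hk => mem_center_iff.2 fun g => Subtype.ext
      (g.2.2 k ((QuotientGroup.eq_one_iff _).1 (congrArg Subtype.val hk))).symm)
  exact H3.le_fitting h7 ⟨h2, h6⟩

theorem solv {G : Type*} [Group G] [Finite G] (hs : Group.IsSolvable G)
    (h : ∀ x : G, (∃ (r : ℕ) (k : ℕ), r.Prime ∧ orderOf x = r ^ k) →
      Squarefree (Subgroup.centralizer ({x} : Set G)).index) :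
    Cfsg.IsSupersolvable G ∧ derivedSeries G 3 = ⊥ ∧
    (∀ _h : (Cfsg.fittingSubgroup G).Normal, IsMulCommutative (G ⧸ Cfsg.fittingSubgroup G) ∧
      Squarefree (Monoid.exponent (G ⧸ Cfsg.fittingSubgroup G))) ∧
    Squarefree (Nat.card (commutator ↥(Cfsg.fittingSubgroup G))) := by
  have h1 := supersolvable G hs h
  have h2 := H3.le_fitting (H5.supersolvable_commutator_isNilpotent h1)
  have := H3.fitting_normal G
  have hF := H3.fitting_isNilpotent G
  have h3 := sqf_commutator hF (Hy.sub h _)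
  refine ⟨h1, ?_, fun _ => ?_, h3⟩
  · have := IsZGroup.of_squarefree h3
    have h4 : IsCyclic (commutator (fittingSubgroup G)) := inferInstance
    have h5 : derivedSeries G 2 ≤ (commutator (fittingSubgroup G)).map
        (fittingSubgroup G).subtype := by
      rw [map_subtype_commutator]
      exact commutator_mono h2 h2
    rw [derivedSeries_succ, eq_bot_iff]
    refine (commutator_mono h5 h5).trans ?_
    rw [← map_commutator, le_bot_iff, (commutator_eq_bot_iff_le_centralizer).2 (le_centralizer _),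
      Subgroup.map_bot]
  · have h4 : IsMulCommutative (G ⧸ fittingSubgroup G) :=
      Normal.quotient_commutative_iff_commutator_le.2 h2
    refine ⟨h4, Nat.squarefree_iff_prime_squarefree.2 fun r hr hd => ?_⟩
    obtain ⟨y, hy⟩ := hr.exists_orderOf_eq_pow_factorization_exponent (G ⧸ fittingSubgroup G)
    obtain ⟨x, rfl, hx⟩ := lift (QuotientGroup.mk'_surjective _) hr hy
    have h5 : orderOf (QuotientGroup.mk' (fittingSubgroup G) x) ∣ r := by
      rw [orderOf_dvd_iff_pow_eq_one, ← map_pow]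
      exact (QuotientGroup.eq_one_iff _).2 (pow_mem G h1 h hr x hx)
    have h6 := (hr.pow_dvd_iff_le_factorization Monoid.exponent_ne_zero_of_finite).1 (sq r ▸ hd)
    exact hr.one_lt.ne' (Nat.isUnit_iff.1 (hr.prime.squarefree r
      (sq r ▸ (pow_dvd_pow r h6).trans (hy ▸ h5))))

theorem reduce (hk : ∀ (L : Type u) [Group L] [Finite L] [IsSimpleGroup L], ¬ IsMulCommutative L →
      (∀ x : L, (∃ (r : ℕ) (k : ℕ), r.Prime ∧ orderOf x = r ^ k) →
        Squarefree (Subgroup.centralizer ({x} : Set L)).index) → False)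
    {G : Type u} [Group G] [Finite G]
    (h : ∀ x : G, (∃ (r : ℕ) (k : ℕ), r.Prime ∧ orderOf x = r ^ k) →
      Squarefree (Subgroup.centralizer ({x} : Set G)).index) : Group.IsSolvable G := by
  induction hn : Nat.card G using Nat.strong_induction_on generalizing G with
  | _ n ih =>
  by_cases hs : ∀ N : Subgroup G, N.Normal → N = ⊥ ∨ N = ⊤
  swap
  · push Not at hs
    obtain ⟨N, hN, h0, h1⟩ := hs
    have h2 : Group.IsSolvable N := ih _ (hn ▸ H2.card_lt_of_ne_top h1) (Hy.sub h N) rfl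
    have h3 : Group.IsSolvable (G ⧸ N) := ih _ (hn ▸ H1.card_quotient_lt h0)
      (Hy.map h (QuotientGroup.mk'_surjective N)) rfl
    exact Group.isSolvable_of_ker_le_range N.subtype (QuotientGroup.mk' N) (by simp)
  by_contra hns
  have hna : ¬ IsMulCommutative G := fun hc => hns (Group.isSolvable_of_comm hc.is_comm.comm)
  have hnt : Nontrivial G := by
    by_contra h1
    rw [not_nontrivial_iff_subsingleton] at h1
    exact hns inferInstance
  have : IsSimpleGroup G := ⟨hs⟩
  exact hk G hna h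

end Cfsg.Agent.H28.SqS
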