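import Mathlib
import Cfsg.Agent.H43.Cent
import Cfsg.Agent.H97.U4Fin

/-! The groups `2³ : L₃(2)`, `A₈`, `U₄(2)` with the required fusion data. -/

set_option autoImplicit false
set_option maxRecDepth 200000
set_option linter.style.longLine false

namespace Cfsg.Agent.H28.U4R2

open Cfsg.Agent.H43 Cfsg.Agent.H97.U4 Cfsg.Agent.H28 Matrix

section Kit

variable (n l : ℕ) (E : List Net)

/-- a generator, acting on labellings -/
noncomputable def ap (a : ℕ) : ℕ → ℕ := (getN E a).app (FK n l)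

/-- the normal form, acting on the labelling -/
noncomputable def evB (e : Fin 6 → ℕ) : ℕ :=
  iter (ap n l E 0) (e 0) (iter (ap n l E 1) (e 1) (iter (ap n l E 2) (e 2) (iter (ap n l E 3) (e 3)
    (iter (ap n l E 4) (e 4) (iter (ap n l E 5) (e 5) (lab n l))))))

/-- the test of a conjugation relation -/
noncomputable def cjB (a b : ℕ) (e : Fin 6 → ℕ) : Bool :=
  Nat.beq (ap n l E a (ap n l E b ((getN E a).appI (FK n l) (lab n l)))) (evB n l E e)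

/-- the generators -/
noncomputable def X (a : ℕ) : grp n E := ⟨(getN E a).toPerm n, getN_mem_grp n E a⟩

/-- the element of `J` with given coordinates -/
def uJ (v : Fin 4 → ZMod 2) : U T4 :=
  ⟨0, ⟨v 0, 0⟩, ⟨v 1, v 2⟩, ⟨v 3, 0⟩, by generalize v 0 = z; revert z; decide,
    by generalize v 3 = z; revert z; decide⟩

/-- the element of `Q` with exchanged coordinates -/
def uQ (g : U T4) : U T4 := ⟨g.m, g.a, g.t, 0, g.ha, by simp⟩

theorem eqns : True := by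
  have := @ap.eq_1
  have := @evB.eq_1
  have := @cjB.eq_1
  have := @X.eq_1
  have := @uJ.eq_1
  have := @uQ.eq_1
  trivial

variable {n l E}

theorem mov_ap (hn : NOk n) (hE : okE n E = true) (a y : ℕ) : Mov n l (X n E a) y (ap n l E a y) :=
  Net.mov_app (rep_FK hn.1 l) (ok_getN hE a) y

theorem cj (hn : NOk n) (hl : n ≤ 2 ^ l) (hE : okE n E = true) {a b : ℕ} {e : Fin 6 → ℕ}
    (h : cjB n l E a b e = true) :
    X n E a * X n E b * (X n E a)⁻¹ = ev (fun j : Fin 6 => X n E j) e := by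
  have m := fun a => mov_iter (mov_ap (l := l) hn hE a)
  have h1 := ((Net.mov_appI (rep_FK hn.1 l) (ok_getN hE a) (lab n l)).trans (mov_ap hn hE b _)).trans
    (mov_ap hn hE a _)
  have h2 := (((((m 5 (e 5) (lab n l)).trans (m 4 (e 4) _)).trans (m 3 (e 3) _)).trans
    (m 2 (e 2) _)).trans (m 1 (e 1) _)).trans (m 0 (e 0) _)
  have h3 := (det_lab hl ⊤).eq trivial trivial h1 h2 h
  apply Subtype.ext
  simp only [ev, Subgroup.coe_mul, Subgroup.coe_inv, Subgroup.coe_pow, mul_assoc]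
  exact h3

theorem raw {k : Fin 3} (hn : NOk n) (hl : n ≤ 2 ^ l) (hE : okE n E = true)
    (hc : Nat.card (grp n E) = ![1344, 20160, 25920] k)
    (h : (∀ j : Fin 6, Nat.beq (iter (ap n l E j) 2 (lab n l)) (lab n l) = true) ∧
      (∀ i j : Fin 6, cjB n l E i j (co4 (g4 i * g4 j * (g4 i)⁻¹)) = true) ∧
      Nat.beq (ap n l E 0 (lab n l)) (lab n l) = false ∧
      (∀ j : Fin 6, j < 4 → cjB n l E 6 j (co4 (uJ (M2 k *ᵥ cv (vv (g4 j))))) = true) ∧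
      ∀ j : Fin 6, j ≠ 3 → cjB n l E 7 j (co4 (uQ (g4 j))) = true) : Raw2 k := by
  obtain ⟨h1, h2, h3, h4, h5⟩ := h
  refine ⟨grp n E, inferInstance, inferInstance, fun j => X n E j, ⟨fun j => Subtype.ext ?_,
    fun i j => cj hn hl hE (h2 i j)⟩, fun e => ?_, hc, ⟨X n E 6, fun j hj => ⟨_, rfl,
      cj hn hl hE (h4 j hj), ?_⟩⟩, X n E 7, fun j hj => ⟨_, rfl, cj hn hl hE (h5 j hj), rfl⟩⟩
  · exact (det_lab hl ⊤).eq trivial trivial (mov_iter (mov_ap hn hE j) 2 _) (Mov.refl _ _ _) (h1 j)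
  · exact (mov_ap hn hE 0 _).ne_of_beq (Mov.refl _ _ _) h3 (congrArg Subtype.val e)
  · generalize M2 k *ᵥ cv (vv (g4 j)) = v
    funext i
    fin_cases i <;> rfl

end Kit

theorem a_hn : NOk 8 := by decide

theorem a_hk : 8 ≤ 2 ^ 3 := by decide

noncomputable def a_g1 : Net := (Net.cons (nat_lit 1) (nat_lit 85) Net.nil)

theorem a_g1_ok : Net.ok 8 a_g1 = true := by decide +kernel

noncomputable def a_g2 : Net := (Net.cons (nat_lit 2) (nat_lit 51) Net.nil)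

theorem a_g2_ok : Net.ok 8 a_g2 = true := by decide +kernel

noncomputable def a_g3 : Net := (Net.cons (nat_lit 2) (nat_lit 51) (Net.cons (nat_lit 1) (nat_lit 5) Net.nil))

theorem a_g3_ok : Net.ok 8 a_g3 = true := by decide +kernel

noncomputable def a_g4 : Net := (Net.cons (nat_lit 2) (nat_lit 48) (Net.cons (nat_lit 1) (nat_lit 80) Net.nil))

theorem a_g4_ok : Net.ok 8 a_g4 = true := by decide +kernel

noncomputable def a_g5 : Net := (Net.cons (nat_lit 4) (nat_lit 15) Net.nil)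

theorem a_g5_ok : Net.ok 8 a_g5 = true := by decide +kernel

noncomputable def a_g6 : Net := (Net.cons (nat_lit 4) (nat_lit 15) (Net.cons (nat_lit 1) (nat_lit 17) Net.nil))

theorem a_g6_ok : Net.ok 8 a_g6 = true := by decide +kernel

noncomputable def a_g7 : Net := (Net.cons (nat_lit 1) (nat_lit 68) (Net.cons (nat_lit 2) (nat_lit 18) (Net.cons (nat_lit 1) (nat_lit 68) Net.nil)))

theorem a_g7_ok : Net.ok 8 a_g7 = true := by decide +kernel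

noncomputable def a_g8 : Net := (Net.cons (nat_lit 2) (nat_lit 48) (Net.cons (nat_lit 4) (nat_lit 12) (Net.cons (nat_lit 2) (nat_lit 48) Net.nil)))

theorem a_g8_ok : Net.ok 8 a_g8 = true := by decide +kernel

noncomputable def a_O : List Net := [a_g1, a_g2, a_g3, a_g4, a_g5, a_g6, a_g7, a_g8]

theorem a_O_ok : okE 8 a_O = true := (okE_cons.2 ⟨a_g1_ok, (okE_cons.2 ⟨a_g2_ok, (okE_cons.2 ⟨a_g3_ok, (okE_cons.2 ⟨a_g4_ok, (okE_cons.2 ⟨a_g5_ok, (okE_cons.2 ⟨a_g6_ok, (okE_cons.2 ⟨a_g7_ok, (okE_cons.2 ⟨a_g8_ok, (okE_nil 8)⟩)⟩)⟩)⟩)⟩)⟩)⟩)⟩)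

noncomputable def a_V9 : List Net := [a_g1]

theorem a_V9_ok : okE 8 a_V9 = true := (okE_cons.2 ⟨a_g1_ok, (okE_nil 8)⟩)

noncomputable def a_g11 : Net := (Net.cons (nat_lit 4) (nat_lit 12) (Net.cons (nat_lit 2) (nat_lit 34) Net.nil))

theorem a_g11_ok : Net.ok 8 a_g11 = true := by decide +kernel

noncomputable def a_g12 : Net := (Net.cons (nat_lit 1) (nat_lit 68) (Net.cons (nat_lit 2) (nat_lit 34) (Net.cons (nat_lit 1) (nat_lit 20) Net.nil)))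

theorem a_g12_ok : Net.ok 8 a_g12 = true := by decide +kernel

noncomputable def a_g13 : Net := (Net.cons (nat_lit 2) (nat_lit 48) (Net.cons (nat_lit 4) (nat_lit 12) (Net.cons (nat_lit 2) (nat_lit 48) (Net.cons (nat_lit 1) (nat_lit 20) Net.nil))))

theorem a_g13_ok : Net.ok 8 a_g13 = true := by decide +kernel

noncomputable def a_V14 : List Net := [a_g11, a_g12, a_g13]

theorem a_V14_ok : okE 8 a_V14 = true := (okE_cons.2 ⟨a_g11_ok, (okE_cons.2 ⟨a_g12_ok, (okE_cons.2 ⟨a_g13_ok, (okE_nil 8)⟩)⟩)⟩)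

noncomputable def a_g16 : Net := (Net.cons (nat_lit 2) (nat_lit 48) (Net.cons (nat_lit 4) (nat_lit 6) (Net.cons (nat_lit 1) (nat_lit 20) Net.nil)))

theorem a_g16_ok : Net.ok 8 a_g16 = true := by decide +kernel

noncomputable def a_V17 : List Net := [a_g16]

theorem a_V17_ok : okE 8 a_V17 = true := (okE_cons.2 ⟨a_g16_ok, (okE_nil 8)⟩)

noncomputable def a_g19 : Net := (Net.cons (nat_lit 2) (nat_lit 48) (Net.cons (nat_lit 4) (nat_lit 12) (Net.cons (nat_lit 2) (nat_lit 48) (Net.cons (nat_lit 1) (nat_lit 80) Net.nil))))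

theorem a_g19_ok : Net.ok 8 a_g19 = true := by decide +kernel

noncomputable def a_g20 : Net := (Net.cons (nat_lit 4) (nat_lit 12) (Net.cons (nat_lit 2) (nat_lit 48) (Net.cons (nat_lit 1) (nat_lit 80) Net.nil)))

theorem a_g20_ok : Net.ok 8 a_g20 = true := by decide +kernel

noncomputable def a_V21 : List Net := [a_g19, a_g20]

theorem a_V21_ok : okE 8 a_V21 = true := (okE_cons.2 ⟨a_g19_ok, (okE_cons.2 ⟨a_g20_ok, (okE_nil 8)⟩)⟩)

noncomputable def a_g23 : Net := (Net.cons (nat_lit 2) (nat_lit 48) (Net.cons (nat_lit 4) (nat_lit 12) (Net.cons (nat_lit 2) (nat_lit 48) (Net.cons (nat_lit 1) (nat_lit 68) Net.nil))))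

theorem a_g23_ok : Net.ok 8 a_g23 = true := by decide +kernel

noncomputable def a_V24 : List Net := [a_g23]

theorem a_V24_ok : okE 8 a_V24 = true := (okE_cons.2 ⟨a_g23_ok, (okE_nil 8)⟩)

noncomputable def a_g26 : Net := (Net.cons (nat_lit 4) (nat_lit 12) (Net.cons (nat_lit 1) (nat_lit 68) Net.nil))

theorem a_g26_ok : Net.ok 8 a_g26 = true := by decide +kernel

noncomputable def a_g27 : Net := (Net.cons (nat_lit 4) (nat_lit 12) Net.nil)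

theorem a_g27_ok : Net.ok 8 a_g27 = true := by decide +kernel

noncomputable def a_V28 : List Net := [a_g26, a_g27]

theorem a_V28_ok : okE 8 a_V28 = true := (okE_cons.2 ⟨a_g26_ok, (okE_cons.2 ⟨a_g27_ok, (okE_nil 8)⟩)⟩)

noncomputable def a_g30 : Net := (Net.cons (nat_lit 1) (nat_lit 68) Net.nil)

theorem a_g30_ok : Net.ok 8 a_g30 = true := by decide +kernel

noncomputable def a_V31 : List Net := [a_g26, a_g30]

theorem a_V31_ok : okE 8 a_V31 = true := (okE_cons.2 ⟨a_g26_ok, (okE_cons.2 ⟨a_g30_ok, (okE_nil 8)⟩)⟩)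

noncomputable def a_E4 : List Net := []

theorem a_E4_ok : okE 8 a_E4 = true := (okE_nil 8)

noncomputable def a_G3 : List Net := [a_g26, a_g30]

theorem a_G3_ok : okE 8 a_G3 = true := (okE_cons.2 ⟨a_g26_ok, (okE_cons.2 ⟨a_g30_ok, (okE_nil 8)⟩)⟩)

noncomputable def a_E3 : List Net := [a_g26, a_g30, a_g27]

theorem a_E3_ok : okE 8 a_E3 = true := (okE_cons.2 ⟨a_g26_ok, (okE_cons.2 ⟨a_g30_ok, (okE_cons.2 ⟨a_g27_ok, (okE_nil 8)⟩)⟩)⟩)

noncomputable def a_G2 : List Net := [a_g23, a_g26, a_g30, a_g27]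

theorem a_G2_ok : okE 8 a_G2 = true := (okE_cons.2 ⟨a_g23_ok, (okE_cons.2 ⟨a_g26_ok, (okE_cons.2 ⟨a_g30_ok, (okE_cons.2 ⟨a_g27_ok, (okE_nil 8)⟩)⟩)⟩)⟩)

noncomputable def a_E2 : List Net := [a_g23, a_g19, a_g20, a_g26, a_g30, a_g27]

theorem a_E2_ok : okE 8 a_E2 = true := (okE_cons.2 ⟨a_g23_ok, (okE_cons.2 ⟨a_g19_ok, (okE_cons.2 ⟨a_g20_ok, (okE_cons.2 ⟨a_g26_ok, (okE_cons.2 ⟨a_g30_ok, (okE_cons.2 ⟨a_g27_ok, (okE_nil 8)⟩)⟩)⟩)⟩)⟩)⟩)

noncomputable def a_G1 : List Net := [a_g16, a_g23, a_g19, a_g20, a_g26, a_g30, a_g27]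

theorem a_G1_ok : okE 8 a_G1 = true := (okE_cons.2 ⟨a_g16_ok, (okE_cons.2 ⟨a_g23_ok, (okE_cons.2 ⟨a_g19_ok, (okE_cons.2 ⟨a_g20_ok, (okE_cons.2 ⟨a_g26_ok, (okE_cons.2 ⟨a_g30_ok, (okE_cons.2 ⟨a_g27_ok, (okE_nil 8)⟩)⟩)⟩)⟩)⟩)⟩)⟩)

noncomputable def a_E1 : List Net := [a_g16, a_g11, a_g12, a_g13, a_g23, a_g19, a_g20, a_g26, a_g30, a_g27]

theorem a_E1_ok : okE 8 a_E1 = true := (okE_cons.2 ⟨a_g16_ok, (okE_cons.2 ⟨a_g11_ok, (okE_cons.2 ⟨a_g12_ok, (okE_cons.2 ⟨a_g13_ok, (okE_cons.2 ⟨a_g23_ok, (okE_cons.2 ⟨a_g19_ok, (okE_cons.2 ⟨a_g20_ok, (okE_cons.2 ⟨a_g26_ok, (okE_cons.2 ⟨a_g30_ok, (okE_cons.2 ⟨a_g27_ok, (okE_nil 8)⟩)⟩)⟩)⟩)⟩)⟩)⟩)⟩)⟩)⟩)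

noncomputable def a_G0 : List Net := [a_g1, a_g16, a_g11, a_g12, a_g13, a_g23, a_g19, a_g20, a_g26, a_g30, a_g27]

theorem a_G0_ok : okE 8 a_G0 = true := (okE_cons.2 ⟨a_g1_ok, (okE_cons.2 ⟨a_g16_ok, (okE_cons.2 ⟨a_g11_ok, (okE_cons.2 ⟨a_g12_ok, (okE_cons.2 ⟨a_g13_ok, (okE_cons.2 ⟨a_g23_ok, (okE_cons.2 ⟨a_g19_ok, (okE_cons.2 ⟨a_g20_ok, (okE_cons.2 ⟨a_g26_ok, (okE_cons.2 ⟨a_g30_ok, (okE_cons.2 ⟨a_g27_ok, (okE_nil 8)⟩)⟩)⟩)⟩)⟩)⟩)⟩)⟩)⟩)⟩)⟩)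

noncomputable def a_E0 : List Net := [a_g1, a_g2, a_g3, a_g4, a_g5, a_g6, a_g7, a_g8, a_g16, a_g11, a_g12, a_g13, a_g23, a_g19, a_g20, a_g26, a_g30, a_g27]

theorem a_E0_ok : okE 8 a_E0 = true := (okE_cons.2 ⟨a_g1_ok, (okE_cons.2 ⟨a_g2_ok, (okE_cons.2 ⟨a_g3_ok, (okE_cons.2 ⟨a_g4_ok, (okE_cons.2 ⟨a_g5_ok, (okE_cons.2 ⟨a_g6_ok, (okE_cons.2 ⟨a_g7_ok, (okE_cons.2 ⟨a_g8_ok, (okE_cons.2 ⟨a_g16_ok, (okE_cons.2 ⟨a_g11_ok, (okE_cons.2 ⟨a_g12_ok, (okE_cons.2 ⟨a_g13_ok, (okE_cons.2 ⟨a_g23_ok, (okE_cons.2 ⟨a_g19_ok, (okE_cons.2 ⟨a_g20_ok, (okE_cons.2 ⟨a_g26_ok, (okE_cons.2 ⟨a_g30_ok, (okE_cons.2 ⟨a_g27_ok, (okE_nil 8)⟩)⟩)⟩)⟩)⟩)⟩)⟩)⟩)⟩)⟩)⟩)⟩)⟩)⟩)⟩)⟩)⟩)⟩)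

theorem a_le10 : grp 8 a_V9 ≤ grp 8 a_O :=
  grp_le_of_memB a_hn a_hk a_O_ok a_V9_ok (ws := [nat_lit 1]) (by decide +kernel)

theorem a_le15 : grp 8 a_V14 ≤ grp 8 a_O :=
  grp_le_of_memB a_hn a_hk a_O_ok a_V14_ok (ws := [nat_lit 0x8040a100e04010c, nat_lit 0x5090e0501100c10050a06, nat_lit 0x100c060e020d020a]) (by decide +kernel)

theorem a_le18 : grp 8 a_V17 ≤ grp 8 a_V14 :=
  grp_le_of_memB a_hn a_hk a_V14_ok a_V17_ok (ws := [nat_lit 261]) (by decide +kernel)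

theorem a_le22 : grp 8 a_V21 ≤ grp 8 a_V14 :=
  grp_le_of_memB a_hn a_hk a_V14_ok a_V21_ok (ws := [nat_lit 0x60306030205020401, nat_lit 0x3030101040606020602]) (by decide +kernel)

theorem a_le25 : grp 8 a_V24 ≤ grp 8 a_V21 :=
  grp_le_of_memB a_hn a_hk a_V21_ok a_V24_ok (ws := [nat_lit 2]) (by decide +kernel)

theorem a_le29 : grp 8 a_V28 ≤ grp 8 a_V21 :=
  grp_le_of_memB a_hn a_hk a_V21_ok a_V28_ok (ws := [nat_lit 0x301040202, nat_lit 0x1030202]) (by decide +kernel)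

theorem a_le32 : grp 8 a_V31 ≤ grp 8 a_V28 :=
  grp_le_of_memB a_hn a_hk a_V28_ok a_V31_ok (ws := [nat_lit 1, nat_lit 259]) (by decide +kernel)

theorem a_card4 : Nat.card (grp 8 a_E4) = 1 :=
  card_grp_nil 8

theorem a_leO4 : grp 8 a_E4 ≤ grp 8 a_O :=
  grp_nil_le _

theorem a_3_fix : grp 8 a_E4 ≤ MulAction.stabilizer (Equiv.Perm (Fin 8)) (⟨3, by decide⟩ : Fin 8) :=
  grp_le_stab a_E4_ok (by decide : 3 < 8) (by decide +kernel)

noncomputable def a_3_ts : List ℕ := [nat_lit 0, nat_lit 1, nat_lit 3, nat_lit 259]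

noncomputable def a_3_ds : List ℕ := [nat_lit 3, nat_lit 6, nat_lit 2, nat_lit 7]

theorem a_3_dist : Dist 8 a_E4 a_G3 (⟨3, by decide⟩ : Fin 8) a_3_ts a_3_ds :=
  dist_of_distB (k := 2) a_hn a_E4_ok a_G3_ok (by decide : 3 < 8) (by decide +kernel)

noncomputable def a_3_sl0 : SL := (SL.cons (nat_lit 1) (nat_lit 6) Ch.nil [] (SL.cons (nat_lit 3) (nat_lit 2) Ch.nil [] (SL.cons (nat_lit 259) (nat_lit 7) Ch.nil [] SL.nil)))

theorem a_3_sc0 : SCs 8 a_E4 a_G3 (⟨3, by decide⟩ : Fin 8) (SL.words a_3_sl0) :=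
  scs_of_ok a_hn (det_lab a_hk ⊤) a_E4_ok a_G3_ok le_top le_top (by decide : 3 < 8) a_3_fix a_card4.le (by decide +kernel)

noncomputable def a_3_l : List ℕ := (appL (SL.words a_3_sl0) [])

theorem a_3_scs : SCs 8 a_E4 a_G3 (⟨3, by decide⟩ : Fin 8) a_3_l :=
  (SCs.append a_3_sc0 SCs.nil)

noncomputable def a_3_rl0_0 : RL := (RL.cons (nat_lit 0) (nat_lit 3) (nat_lit 0) (nat_lit 0) (nat_lit 1) (nat_lit 0) (RL.cons (nat_lit 1) (nat_lit 6) (nat_lit 0) (nat_lit 0) (nat_lit 0) (nat_lit 0) (RL.cons (nat_lit 2) (nat_lit 2) (nat_lit 0) (nat_lit 0) (nat_lit 3) (nat_lit 0) (RL.cons (nat_lit 3) (nat_lit 7) (nat_lit 0) (nat_lit 0) (nat_lit 2) (nat_lit 0) RL.nil))))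

theorem a_3_good0_0 : GoodSet 8 a_E4 a_G3 (⟨3, by decide⟩ : Fin 8) a_3_ts (nat_lit 1) (RL.pts a_3_rl0_0) :=
  goodSet_of_ok a_hn (det_lab a_hk ⊤) a_E4_ok a_G3_ok le_top le_top (by decide : 3 < 8) (sepAt_lab a_hk _) (by decide +kernel)

theorem a_3_step0 : Step 8 a_E4 a_G3 a_3_ts (2 * 0 + 1) :=
  step_of_cover a_E4_ok a_3_dist (by decide +kernel) a_3_scs (by decide +kernel) a_3_good0_0 (kw := [])
    (conj_mem_of_scs a_E4_ok a_G3_ok (by decide : 3 < 8) a_3_scs (c := 0) (d := 6) (by decide +kernel)) (by decide +kernel)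

noncomputable def a_3_rl1_0 : RL := (RL.cons (nat_lit 0) (nat_lit 3) (nat_lit 0) (nat_lit 0) (nat_lit 2) (nat_lit 0) (RL.cons (nat_lit 1) (nat_lit 6) (nat_lit 0) (nat_lit 0) (nat_lit 3) (nat_lit 0) (RL.cons (nat_lit 2) (nat_lit 2) (nat_lit 0) (nat_lit 0) (nat_lit 0) (nat_lit 0) (RL.cons (nat_lit 3) (nat_lit 7) (nat_lit 0) (nat_lit 0) (nat_lit 1) (nat_lit 0) RL.nil))))

theorem a_3_good1_0 : GoodSet 8 a_E4 a_G3 (⟨3, by decide⟩ : Fin 8) a_3_ts (nat_lit 3) (RL.pts a_3_rl1_0) :=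
  goodSet_of_ok a_hn (det_lab a_hk ⊤) a_E4_ok a_G3_ok le_top le_top (by decide : 3 < 8) (sepAt_lab a_hk _) (by decide +kernel)

theorem a_3_step1 : Step 8 a_E4 a_G3 a_3_ts (2 * 1 + 1) :=
  step_of_cover a_E4_ok a_3_dist (by decide +kernel) a_3_scs (by decide +kernel) a_3_good1_0 (kw := [])
    (conj_mem_of_scs a_E4_ok a_G3_ok (by decide : 3 < 8) a_3_scs (c := 1) (d := 2) (by decide +kernel)) (by decide +kernel)

theorem a_3_lev : grp 8 a_G3 ⊓ MulAction.stabilizer (Equiv.Perm (Fin 8)) (⟨3, by decide⟩ : Fin 8) = grp 8 a_E4 :=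
  sims_level (gs := a_V31) rfl (by decide) a_3_fix a_3_dist (forall_lt_succ' (forall_lt_one a_3_step0) a_3_step1)

theorem a_3_cardG : Nat.card (grp 8 a_G3) = 4 :=
  card_of_level a_hn a_G3_ok (by decide : 3 < 8) a_3_lev a_card4 (m := 4) (by decide +kernel)

theorem a_le33 : grp 8 a_E3 ≤ grp 8 a_G3 :=
  grp_le_of_memB a_hn a_hk a_G3_ok a_E3_ok (ws := [nat_lit 1, nat_lit 3, nat_lit 259]) (by decide +kernel)

theorem a_le34 : grp 8 a_G3 ≤ grp 8 a_E3 :=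
  grp_le_of_memB a_hn a_hk a_E3_ok a_G3_ok (ws := [nat_lit 1, nat_lit 3]) (by decide +kernel)

theorem a_3_eq : grp 8 a_E3 = grp 8 a_G3 :=
  le_antisymm a_le33 a_le34

theorem a_card3 : Nat.card (grp 8 a_E3) = 4 :=
  by rw [a_3_eq]; exact a_3_cardG

theorem a_stab3 : grp 8 a_E3 ⊓ MulAction.stabilizer (Equiv.Perm (Fin 8)) (⟨3, by decide⟩ : Fin 8) = grp 8 a_E4 :=
  by rw [a_3_eq]; exact a_3_lev

theorem a_leO3 : grp 8 a_E3 ≤ grp 8 a_O :=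
  a_3_eq.le.trans (grp_cons_le ((a_le29.trans (a_le22.trans (a_le15.trans (le_refl (grp 8 a_O))))) (a_le32 (toPerm_mem_grp (E := a_V31) (by simp [a_V31])))) (grp_cons_le ((a_le29.trans (a_le22.trans (a_le15.trans (le_refl (grp 8 a_O))))) (a_le32 (toPerm_mem_grp (E := a_V31) (by simp [a_V31])))) a_leO4))

theorem a_2_fix : grp 8 a_E3 ≤ MulAction.stabilizer (Equiv.Perm (Fin 8)) (⟨4, by decide⟩ : Fin 8) :=
  grp_le_stab a_E3_ok (by decide : 4 < 8) (by decide +kernel)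

noncomputable def a_2_ts : List ℕ := [nat_lit 0, nat_lit 1, nat_lit 257]

noncomputable def a_2_ds : List ℕ := [nat_lit 4, nat_lit 3, nat_lit 5]

theorem a_2_dist : Dist 8 a_E3 a_G2 (⟨4, by decide⟩ : Fin 8) a_2_ts a_2_ds :=
  dist_of_distB (k := 2) a_hn a_E3_ok a_G2_ok (by decide : 4 < 8) (by decide +kernel)

noncomputable def a_2_sl0 : SL := (SL.cons (nat_lit 1) (nat_lit 3) Ch.nil [] (SL.cons (nat_lit 257) (nat_lit 5) (Ch.cons (nat_lit 2) [nat_lit 5, nat_lit 1] Ch.nil) [nat_lit 1, nat_lit 5] SL.nil))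

theorem a_2_sc0 : SCs 8 a_E3 a_G2 (⟨4, by decide⟩ : Fin 8) (SL.words a_2_sl0) :=
  scs_of_ok a_hn (det_lab a_hk ⊤) a_E3_ok a_G2_ok le_top le_top (by decide : 4 < 8) a_2_fix a_card3.le (by decide +kernel)

noncomputable def a_2_l : List ℕ := (appL (SL.words a_2_sl0) [])

theorem a_2_scs : SCs 8 a_E3 a_G2 (⟨4, by decide⟩ : Fin 8) a_2_l :=
  (SCs.append a_2_sc0 SCs.nil)

noncomputable def a_2_rl0_0 : RL := (RL.cons (nat_lit 0) (nat_lit 4) (nat_lit 0) (nat_lit 3) (nat_lit 1) (nat_lit 3) (RL.cons (nat_lit 1) (nat_lit 3) (nat_lit 0) (nat_lit 0) (nat_lit 0) (nat_lit 0) (RL.cons (nat_lit 1) (nat_lit 6) (nat_lit 1) (nat_lit 5) (nat_lit 1) (nat_lit 1) (RL.cons (nat_lit 1) (nat_lit 2) (nat_lit 3) (nat_lit 0) (nat_lit 2) (nat_lit 3) (RL.cons (nat_lit 1) (nat_lit 7) (nat_lit 5) (nat_lit 1) (nat_lit 1) (nat_lit 5) (RL.cons (nat_lit 2) (nat_lit 5) (nat_lit 0) (nat_lit 0) (nat_lit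 1) (nat_lit 0) RL.nil))))))

theorem a_2_good0_0 : GoodSet 8 a_E3 a_G2 (⟨4, by decide⟩ : Fin 8) a_2_ts (nat_lit 1) (RL.pts a_2_rl0_0) :=
  goodSet_of_ok a_hn (det_lab a_hk ⊤) a_E3_ok a_G2_ok le_top le_top (by decide : 4 < 8) (sepAt_lab a_hk _) (by decide +kernel)

theorem a_2_step0 : Step 8 a_E3 a_G2 a_2_ts (2 * 0 + 1) :=
  step_of_cover a_E3_ok a_2_dist (by decide +kernel) a_2_scs (by decide +kernel) a_2_good0_0 (kw := [])
    (conj_mem_of_scs a_E3_ok a_G2_ok (by decide : 4 < 8) a_2_scs (c := 0) (d := 3) (by decide +kernel)) (by decide +kernel)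

theorem a_2_lev : grp 8 a_G2 ⊓ MulAction.stabilizer (Equiv.Perm (Fin 8)) (⟨4, by decide⟩ : Fin 8) = grp 8 a_E3 :=
  sims_level (gs := a_V24) rfl (by decide) a_2_fix a_2_dist (forall_lt_one a_2_step0)

theorem a_2_cardG : Nat.card (grp 8 a_G2) = 24 :=
  card_of_level a_hn a_G2_ok (by decide : 4 < 8) a_2_lev a_card3 (m := 6) (by decide +kernel)

theorem a_le35 : grp 8 a_E2 ≤ grp 8 a_G2 :=
  grp_le_of_memB a_hn a_hk a_G2_ok a_E2_ok (ws := [nat_lit 1, nat_lit 2, nat_lit 327943, nat_lit 3, nat_lit 5, nat_lit 7]) (by decide +kernel)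

theorem a_le36 : grp 8 a_G2 ≤ grp 8 a_E2 :=
  grp_le_of_memB a_hn a_hk a_E2_ok a_G2_ok (ws := [nat_lit 1, nat_lit 7, nat_lit 9, nat_lit 11]) (by decide +kernel)

theorem a_2_eq : grp 8 a_E2 = grp 8 a_G2 :=
  le_antisymm a_le35 a_le36

theorem a_card2 : Nat.card (grp 8 a_E2) = 24 :=
  by rw [a_2_eq]; exact a_2_cardG

theorem a_stab2 : grp 8 a_E2 ⊓ MulAction.stabilizer (Equiv.Perm (Fin 8)) (⟨4, by decide⟩ : Fin 8) = grp 8 a_E3 :=
  by rw [a_2_eq]; exact a_2_lev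

theorem a_leO2 : grp 8 a_E2 ≤ grp 8 a_O :=
  a_2_eq.le.trans (grp_cons_le ((a_le22.trans (a_le15.trans (le_refl (grp 8 a_O)))) (a_le25 (toPerm_mem_grp (E := a_V24) (by simp [a_V24])))) a_leO3)

theorem a_1_fix : grp 8 a_E2 ≤ MulAction.stabilizer (Equiv.Perm (Fin 8)) (⟨1, by decide⟩ : Fin 8) :=
  grp_le_stab a_E2_ok (by decide : 1 < 8) (by decide +kernel)

noncomputable def a_1_ts : List ℕ := [nat_lit 0, nat_lit 1]

noncomputable def a_1_ds : List ℕ := [nat_lit 1, nat_lit 4]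

theorem a_1_dist : Dist 8 a_E2 a_G1 (⟨1, by decide⟩ : Fin 8) a_1_ts a_1_ds :=
  dist_of_distB (k := 1) a_hn a_E2_ok a_G1_ok (by decide : 1 < 8) (by decide +kernel)

noncomputable def a_1_sl0 : SL := (SL.cons (nat_lit 1) (nat_lit 4) (Ch.cons (nat_lit 3) [nat_lit 7, nat_lit 9, nat_lit 11] Ch.nil) [nat_lit 2306, nat_lit 2305, nat_lit 257] SL.nil)

theorem a_1_sc0 : SCs 8 a_E2 a_G1 (⟨1, by decide⟩ : Fin 8) (SL.words a_1_sl0) :=
  scs_of_ok a_hn (det_lab a_hk ⊤) a_E2_ok a_G1_ok le_top le_top (by decide : 1 < 8) a_1_fix a_card2.le (by decide +kernel)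

noncomputable def a_1_l : List ℕ := (appL (SL.words a_1_sl0) [])

theorem a_1_scs : SCs 8 a_E2 a_G1 (⟨1, by decide⟩ : Fin 8) a_1_l :=
  (SCs.append a_1_sc0 SCs.nil)

noncomputable def a_1_rl0_0 : RL := (RL.cons (nat_lit 0) (nat_lit 1) (nat_lit 0) (nat_lit 5) (nat_lit 1) (nat_lit 5) (RL.cons (nat_lit 1) (nat_lit 4) (nat_lit 0) (nat_lit 0) (nat_lit 0) (nat_lit 0) (RL.cons (nat_lit 1) (nat_lit 3) (nat_lit 1) (nat_lit 0) (nat_lit 1) (nat_lit 1794) (RL.cons (nat_lit 1) (nat_lit 5) (nat_lit 257) (nat_lit 263) (nat_lit 1) (nat_lit 590081) RL.nil))))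

theorem a_1_good0_0 : GoodSet 8 a_E2 a_G1 (⟨1, by decide⟩ : Fin 8) a_1_ts (nat_lit 1) (RL.pts a_1_rl0_0) :=
  goodSet_of_ok a_hn (det_lab a_hk ⊤) a_E2_ok a_G1_ok le_top le_top (by decide : 1 < 8) (sepAt_lab a_hk _) (by decide +kernel)

theorem a_1_step0 : Step 8 a_E2 a_G1 a_1_ts (2 * 0 + 1) :=
  step_of_cover a_E2_ok a_1_dist (by decide +kernel) a_1_scs (by decide +kernel) a_1_good0_0 (kw := [nat_lit 7, nat_lit 9, nat_lit 11])
    (conj_mem_of_scs a_E2_ok a_G1_ok (by decide : 1 < 8) a_1_scs (c := 0) (d := 4) (by decide +kernel)) (by decide +kernel)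

theorem a_1_lev : grp 8 a_G1 ⊓ MulAction.stabilizer (Equiv.Perm (Fin 8)) (⟨1, by decide⟩ : Fin 8) = grp 8 a_E2 :=
  sims_level (gs := a_V17) rfl (by decide) a_1_fix a_1_dist (forall_lt_one a_1_step0)

theorem a_1_cardG : Nat.card (grp 8 a_G1) = 168 :=
  card_of_level a_hn a_G1_ok (by decide : 1 < 8) a_1_lev a_card2 (m := 7) (by decide +kernel)

theorem a_le37 : grp 8 a_E1 ≤ grp 8 a_G1 :=
  grp_le_of_memB a_hn a_hk a_G1_ok a_E1_ok (ws := [nat_lit 1, nat_lit 0x9070101, nat_lit 0xd030104, nat_lit 2819, nat_lit 3, nat_lit 5, nat_lit 7, nat_lit 9, nat_lit 11, nat_lit 13]) (by decide +kernel)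

theorem a_le38 : grp 8 a_G1 ≤ grp 8 a_E1 :=
  grp_le_of_memB a_hn a_hk a_E1_ok a_G1_ok (ws := [nat_lit 1, nat_lit 9, nat_lit 11, nat_lit 13, nat_lit 15, nat_lit 17, nat_lit 19]) (by decide +kernel)

theorem a_1_eq : grp 8 a_E1 = grp 8 a_G1 :=
  le_antisymm a_le37 a_le38

theorem a_card1 : Nat.card (grp 8 a_E1) = 168 :=
  by rw [a_1_eq]; exact a_1_cardG

theorem a_stab1 : grp 8 a_E1 ⊓ MulAction.stabilizer (Equiv.Perm (Fin 8)) (⟨1, by decide⟩ : Fin 8) = grp 8 a_E2 :=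
  by rw [a_1_eq]; exact a_1_lev

theorem a_leO1 : grp 8 a_E1 ≤ grp 8 a_O :=
  a_1_eq.le.trans (grp_cons_le ((a_le15.trans (le_refl (grp 8 a_O))) (a_le18 (toPerm_mem_grp (E := a_V17) (by simp [a_V17])))) a_leO2)

theorem a_0_fix : grp 8 a_E1 ≤ MulAction.stabilizer (Equiv.Perm (Fin 8)) (⟨0, by decide⟩ : Fin 8) :=
  grp_le_stab a_E1_ok (by decide : 0 < 8) (by decide +kernel)

noncomputable def a_0_ts : List ℕ := [nat_lit 0, nat_lit 1]

noncomputable def a_0_ds : List ℕ := [nat_lit 0, nat_lit 1]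

theorem a_0_dist : Dist 8 a_E1 a_G0 (⟨0, by decide⟩ : Fin 8) a_0_ts a_0_ds :=
  dist_of_distB (k := 1) a_hn a_E1_ok a_G0_ok (by decide : 0 < 8) (by decide +kernel)

noncomputable def a_0_sl0 : SL := (SL.cons (nat_lit 1) (nat_lit 1) (Ch.cons (nat_lit 4) [nat_lit 9, nat_lit 11, nat_lit 13] (Ch.cons (nat_lit 3) [nat_lit 15, nat_lit 17, nat_lit 19] Ch.nil)) [nat_lit 9, nat_lit 10, nat_lit 13, nat_lit 15, nat_lit 17, nat_lit 19] SL.nil)

theorem a_0_sc0 : SCs 8 a_E1 a_G0 (⟨0, by decide⟩ : Fin 8) (SL.words a_0_sl0) :=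
  scs_of_ok a_hn (det_lab a_hk ⊤) a_E1_ok a_G0_ok le_top le_top (by decide : 0 < 8) a_0_fix a_card1.le (by decide +kernel)

noncomputable def a_0_l : List ℕ := (appL (SL.words a_0_sl0) [])

theorem a_0_scs : SCs 8 a_E1 a_G0 (⟨0, by decide⟩ : Fin 8) a_0_l :=
  (SCs.append a_0_sc0 SCs.nil)

noncomputable def a_0_rl0_0 : RL := (RL.cons (nat_lit 0) (nat_lit 0) (nat_lit 0) (nat_lit 0) (nat_lit 1) (nat_lit 0) (RL.cons (nat_lit 1) (nat_lit 1) (nat_lit 0) (nat_lit 0) (nat_lit 0) (nat_lit 0) (RL.cons (nat_lit 1) (nat_lit 4) (nat_lit 1) (nat_lit 261) (nat_lit 1) (nat_lit 593669) RL.nil)))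

theorem a_0_good0_0 : GoodSet 8 a_E1 a_G0 (⟨0, by decide⟩ : Fin 8) a_0_ts (nat_lit 1) (RL.pts a_0_rl0_0) :=
  goodSet_of_ok a_hn (det_lab a_hk ⊤) a_E1_ok a_G0_ok le_top le_top (by decide : 0 < 8) (sepAt_lab a_hk _) (by decide +kernel)

theorem a_0_step0 : Step 8 a_E1 a_G0 a_0_ts (2 * 0 + 1) :=
  step_of_cover a_E1_ok a_0_dist (by decide +kernel) a_0_scs (by decide +kernel) a_0_good0_0 (kw := [nat_lit 9, nat_lit 11, nat_lit 13, nat_lit 15, nat_lit 17, nat_lit 19])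
    (conj_mem_of_scs a_E1_ok a_G0_ok (by decide : 0 < 8) a_0_scs (c := 0) (d := 1) (by decide +kernel)) (by decide +kernel)

theorem a_0_lev : grp 8 a_G0 ⊓ MulAction.stabilizer (Equiv.Perm (Fin 8)) (⟨0, by decide⟩ : Fin 8) = grp 8 a_E1 :=
  sims_level (gs := a_V9) rfl (by decide) a_0_fix a_0_dist (forall_lt_one a_0_step0)

theorem a_0_cardG : Nat.card (grp 8 a_G0) = 1344 :=
  card_of_level a_hn a_G0_ok (by decide : 0 < 8) a_0_lev a_card1 (m := 8) (by decide +kernel)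

theorem a_le39 : grp 8 a_E0 ≤ grp 8 a_G0 :=
  grp_le_of_memB a_hn a_hk a_G0_ok a_E0_ok (ws := [nat_lit 1, nat_lit 0x150f070107, nat_lit 0xc040105, nat_lit 5391, nat_lit 262403, nat_lit 0x1304010301, nat_lit 0x130b0b07, nat_lit 4876, nat_lit 3, nat_lit 5, nat_lit 7, nat_lit 9, nat_lit 11, nat_lit 13, nat_lit 15, nat_lit 17, nat_lit 19, nat_lit 21]) (by decide +kernel)

theorem a_le40 : grp 8 a_G0 ≤ grp 8 a_E0 :=
  grp_le_of_memB a_hn a_hk a_E0_ok a_G0_ok (ws := [nat_lit 1, nat_lit 17, nat_lit 19, nat_lit 21, nat_lit 23, nat_lit 25, nat_lit 27, nat_lit 29, nat_lit 31, nat_lit 33, nat_lit 35]) (by decide +kernel)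

theorem a_0_eq : grp 8 a_E0 = grp 8 a_G0 :=
  le_antisymm a_le39 a_le40

theorem a_card0 : Nat.card (grp 8 a_E0) = 1344 :=
  by rw [a_0_eq]; exact a_0_cardG

theorem a_stab0 : grp 8 a_E0 ⊓ MulAction.stabilizer (Equiv.Perm (Fin 8)) (⟨0, by decide⟩ : Fin 8) = grp 8 a_E1 :=
  by rw [a_0_eq]; exact a_0_lev

theorem a_leO0 : grp 8 a_E0 ≤ grp 8 a_O :=
  a_0_eq.le.trans (grp_cons_le ((le_refl (grp 8 a_O)) (a_le10 (toPerm_mem_grp (E := a_V9) (by simp [a_V9])))) a_leO1)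

theorem a_le41 : grp 8 a_O ≤ grp 8 a_E0 :=
  grp_le_of_memB a_hn a_hk a_E0_ok a_O_ok (ws := [nat_lit 1, nat_lit 3, nat_lit 5, nat_lit 7, nat_lit 9, nat_lit 11, nat_lit 13, nat_lit 15]) (by decide +kernel)

theorem a_eq : grp 8 a_O = grp 8 a_E0 :=
  le_antisymm a_le41 a_leO0

theorem a_card : Nat.card (grp 8 a_O) = 1344 :=
  by rw [a_eq]; exact a_card0

noncomputable def a_ch : Ch := (Ch.cons (nat_lit 0) [nat_lit 1, nat_lit 3, nat_lit 5, nat_lit 7, nat_lit 9, nat_lit 11, nat_lit 13, nat_lit 15] (Ch.cons (nat_lit 1) [nat_lit 17, nat_lit 19, nat_lit 21, nat_lit 23] (Ch.cons (nat_lit 4) [nat_lit 25, nat_lit 27, nat_lit 29] (Ch.cons (nat_lit 3) [nat_lit 31, nat_lit 33, nat_lit 35] Ch.nil))))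

theorem a_exact : Ch.Exact 8 a_E0 a_ch (grp 8 a_E0) :=
  Ch.exact (k := 3) (L := (lab 8 3)) a_hn a_E0_ok (by decide +kernel) (wgrp_le_grp _ _ _) a_card0.le

theorem raw_a : Raw2 0 := raw a_hn a_hk a_O_ok a_card (by decide +kernel)

theorem b_hn : NOk 8 := by decide

theorem b_hk : 8 ≤ 2 ^ 3 := by decide

noncomputable def b_g1 : Net := (Net.cons (nat_lit 1) (nat_lit 80) (Net.cons (nat_lit 4) (nat_lit 10) (Net.cons (nat_lit 2) (nat_lit 17) (Net.cons (nat_lit 1) (nat_lit 80) Net.nil))))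

theorem b_g1_ok : Net.ok 8 b_g1 = true := by decide +kernel

noncomputable def b_g2 : Net := (Net.cons (nat_lit 1) (nat_lit 80) (Net.cons (nat_lit 4) (nat_lit 2) (Net.cons (nat_lit 2) (nat_lit 16) (Net.cons (nat_lit 1) (nat_lit 80) Net.nil))))

theorem b_g2_ok : Net.ok 8 b_g2 = true := by decide +kernel

noncomputable def b_g3 : Net := (Net.cons (nat_lit 1) (nat_lit 80) (Net.cons (nat_lit 2) (nat_lit 48) (Net.cons (nat_lit 4) (nat_lit 6) (Net.cons (nat_lit 2) (nat_lit 3) (Net.cons (nat_lit 1) (nat_lit 5) Net.nil)))))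

theorem b_g3_ok : Net.ok 8 b_g3 = true := by decide +kernel

noncomputable def b_g4 : Net := (Net.cons (nat_lit 1) (nat_lit 64) (Net.cons (nat_lit 2) (nat_lit 48) (Net.cons (nat_lit 4) (nat_lit 6) (Net.cons (nat_lit 2) (nat_lit 3) (Net.cons (nat_lit 1) (nat_lit 21) Net.nil)))))

theorem b_g4_ok : Net.ok 8 b_g4 = true := by decide +kernel

noncomputable def b_g5 : Net := (Net.cons (nat_lit 1) (nat_lit 80) (Net.cons (nat_lit 4) (nat_lit 10) (Net.cons (nat_lit 1) (nat_lit 80) Net.nil)))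

theorem b_g5_ok : Net.ok 8 b_g5 = true := by decide +kernel

noncomputable def b_g6 : Net := (Net.cons (nat_lit 4) (nat_lit 15) (Net.cons (nat_lit 2) (nat_lit 51) (Net.cons (nat_lit 1) (nat_lit 85) Net.nil)))

theorem b_g6_ok : Net.ok 8 b_g6 = true := by decide +kernel

noncomputable def b_g7 : Net := (Net.cons (nat_lit 1) (nat_lit 20) (Net.cons (nat_lit 4) (nat_lit 2) (Net.cons (nat_lit 2) (nat_lit 1) (Net.cons (nat_lit 1) (nat_lit 20) Net.nil))))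

theorem b_g7_ok : Net.ok 8 b_g7 = true := by decide +kernel

noncomputable def b_g8 : Net := (Net.cons (nat_lit 1) (nat_lit 4) (Net.cons (nat_lit 2) (nat_lit 16) (Net.cons (nat_lit 4) (nat_lit 6) (Net.cons (nat_lit 2) (nat_lit 19) (Net.cons (nat_lit 1) (nat_lit 81) Net.nil)))))

theorem b_g8_ok : Net.ok 8 b_g8 = true := by decide +kernel

noncomputable def b_O : List Net := [b_g1, b_g2, b_g3, b_g4, b_g5, b_g6, b_g7, b_g8]

theorem b_O_ok : okE 8 b_O = true := (okE_cons.2 ⟨b_g1_ok, (okE_cons.2 ⟨b_g2_ok, (okE_cons.2 ⟨b_g3_ok, (okE_cons.2 ⟨b_g4_ok, (okE_cons.2 ⟨b_g5_ok, (okE_cons.2 ⟨b_g6_ok, (okE_cons.2 ⟨b_g7_ok, (okE_cons.2 ⟨b_g8_ok, (okE_nil 8)⟩)⟩)⟩)⟩)⟩)⟩)⟩)⟩)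

noncomputable def b_g9 : Net := (Net.cons (nat_lit 1) (nat_lit 80) (Net.cons (nat_lit 2) (nat_lit 48) (Net.cons (nat_lit 4) (nat_lit 9) (Net.cons (nat_lit 2) (nat_lit 3) (Net.cons (nat_lit 1) (nat_lit 5) Net.nil)))))

theorem b_g9_ok : Net.ok 8 b_g9 = true := by decide +kernel

noncomputable def b_V10 : List Net := [b_g9]

theorem b_V10_ok : okE 8 b_V10 = true := (okE_cons.2 ⟨b_g9_ok, (okE_nil 8)⟩)

noncomputable def b_g12 : Net := (Net.cons (nat_lit 1) (nat_lit 16) (Net.cons (nat_lit 4) (nat_lit 6) (Net.cons (nat_lit 1) (nat_lit 16) Net.nil)))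

theorem b_g12_ok : Net.ok 8 b_g12 = true := by decide +kernel

noncomputable def b_g13 : Net := (Net.cons (nat_lit 4) (nat_lit 12) (Net.cons (nat_lit 2) (nat_lit 2) (Net.cons (nat_lit 1) (nat_lit 84) Net.nil)))

theorem b_g13_ok : Net.ok 8 b_g13 = true := by decide +kernel

noncomputable def b_V14 : List Net := [b_g12, b_g13]

theorem b_V14_ok : okE 8 b_V14 = true := (okE_cons.2 ⟨b_g12_ok, (okE_cons.2 ⟨b_g13_ok, (okE_nil 8)⟩)⟩)

noncomputable def b_V16 : List Net := [b_g13]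

theorem b_V16_ok : okE 8 b_V16 = true := (okE_cons.2 ⟨b_g13_ok, (okE_nil 8)⟩)

noncomputable def b_g18 : Net := (Net.cons (nat_lit 1) (nat_lit 16) (Net.cons (nat_lit 4) (nat_lit 12) (Net.cons (nat_lit 2) (nat_lit 16) (Net.cons (nat_lit 1) (nat_lit 80) Net.nil))))

theorem b_g18_ok : Net.ok 8 b_g18 = true := by decide +kernel

noncomputable def b_g19 : Net := (Net.cons (nat_lit 1) (nat_lit 64) (Net.cons (nat_lit 4) (nat_lit 6) (Net.cons (nat_lit 2) (nat_lit 32) (Net.cons (nat_lit 1) (nat_lit 68) Net.nil))))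

theorem b_g19_ok : Net.ok 8 b_g19 = true := by decide +kernel

noncomputable def b_V20 : List Net := [b_g18, b_g19]

theorem b_V20_ok : okE 8 b_V20 = true := (okE_cons.2 ⟨b_g18_ok, (okE_cons.2 ⟨b_g19_ok, (okE_nil 8)⟩)⟩)

noncomputable def b_V22 : List Net := [b_g19]

theorem b_V22_ok : okE 8 b_V22 = true := (okE_cons.2 ⟨b_g19_ok, (okE_nil 8)⟩)

noncomputable def b_g24 : Net := (Net.cons (nat_lit 1) (nat_lit 64) (Net.cons (nat_lit 4) (nat_lit 8) (Net.cons (nat_lit 1) (nat_lit 68) Net.nil)))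

theorem b_g24_ok : Net.ok 8 b_g24 = true := by decide +kernel

noncomputable def b_g25 : Net := (Net.cons (nat_lit 4) (nat_lit 12) (Net.cons (nat_lit 2) (nat_lit 2) (Net.cons (nat_lit 1) (nat_lit 64) Net.nil)))

theorem b_g25_ok : Net.ok 8 b_g25 = true := by decide +kernel

noncomputable def b_V26 : List Net := [b_g24, b_g25]

theorem b_V26_ok : okE 8 b_V26 = true := (okE_cons.2 ⟨b_g24_ok, (okE_cons.2 ⟨b_g25_ok, (okE_nil 8)⟩)⟩)

noncomputable def b_g28 : Net := (Net.cons (nat_lit 1) (nat_lit 4) (Net.cons (nat_lit 4) (nat_lit 8) (Net.cons (nat_lit 2) (nat_lit 2) (Net.cons (nat_lit 1) (nat_lit 4) Net.nil))))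

theorem b_g28_ok : Net.ok 8 b_g28 = true := by decide +kernel

noncomputable def b_V29 : List Net := [b_g28]

theorem b_V29_ok : okE 8 b_V29 = true := (okE_cons.2 ⟨b_g28_ok, (okE_nil 8)⟩)

noncomputable def b_g31 : Net := (Net.cons (nat_lit 4) (nat_lit 4) (Net.cons (nat_lit 1) (nat_lit 64) Net.nil))

theorem b_g31_ok : Net.ok 8 b_g31 = true := by decide +kernel

noncomputable def b_g32 : Net := (Net.cons (nat_lit 1) (nat_lit 64) (Net.cons (nat_lit 4) (nat_lit 8) Net.nil))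

theorem b_g32_ok : Net.ok 8 b_g32 = true := by decide +kernel

noncomputable def b_V33 : List Net := [b_g31, b_g32]

theorem b_V33_ok : okE 8 b_V33 = true := (okE_cons.2 ⟨b_g31_ok, (okE_cons.2 ⟨b_g32_ok, (okE_nil 8)⟩)⟩)

noncomputable def b_V35 : List Net := [b_g24]

theorem b_V35_ok : okE 8 b_V35 = true := (okE_cons.2 ⟨b_g24_ok, (okE_nil 8)⟩)

noncomputable def b_g37 : Net := (Net.cons (nat_lit 4) (nat_lit 8) (Net.cons (nat_lit 1) (nat_lit 64) Net.nil))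

theorem b_g37_ok : Net.ok 8 b_g37 = true := by decide +kernel

noncomputable def b_V38 : List Net := [b_g37, b_g37]

theorem b_V38_ok : okE 8 b_V38 = true := (okE_cons.2 ⟨b_g37_ok, (okE_cons.2 ⟨b_g37_ok, (okE_nil 8)⟩)⟩)

noncomputable def b_V40 : List Net := [b_g37]

theorem b_V40_ok : okE 8 b_V40 = true := (okE_cons.2 ⟨b_g37_ok, (okE_nil 8)⟩)

noncomputable def b_E6 : List Net := []

theorem b_E6_ok : okE 8 b_E6 = true := (okE_nil 8)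

noncomputable def b_G5 : List Net := [b_g37]

theorem b_G5_ok : okE 8 b_G5 = true := (okE_cons.2 ⟨b_g37_ok, (okE_nil 8)⟩)

noncomputable def b_E5 : List Net := [b_g37]

theorem b_E5_ok : okE 8 b_E5 = true := (okE_cons.2 ⟨b_g37_ok, (okE_nil 8)⟩)

noncomputable def b_G4 : List Net := [b_g24, b_g37]

theorem b_G4_ok : okE 8 b_G4 = true := (okE_cons.2 ⟨b_g24_ok, (okE_cons.2 ⟨b_g37_ok, (okE_nil 8)⟩)⟩)

noncomputable def b_E4 : List Net := [b_g24, b_g31, b_g32, b_g37]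

theorem b_E4_ok : okE 8 b_E4 = true := (okE_cons.2 ⟨b_g24_ok, (okE_cons.2 ⟨b_g31_ok, (okE_cons.2 ⟨b_g32_ok, (okE_cons.2 ⟨b_g37_ok, (okE_nil 8)⟩)⟩)⟩)⟩)

noncomputable def b_G3 : List Net := [b_g28, b_g24, b_g31, b_g32, b_g37]

theorem b_G3_ok : okE 8 b_G3 = true := (okE_cons.2 ⟨b_g28_ok, (okE_cons.2 ⟨b_g24_ok, (okE_cons.2 ⟨b_g31_ok, (okE_cons.2 ⟨b_g32_ok, (okE_cons.2 ⟨b_g37_ok, (okE_nil 8)⟩)⟩)⟩)⟩)⟩)

noncomputable def b_E3 : List Net := [b_g28, b_g25, b_g24, b_g31, b_g32, b_g37]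

theorem b_E3_ok : okE 8 b_E3 = true := (okE_cons.2 ⟨b_g28_ok, (okE_cons.2 ⟨b_g25_ok, (okE_cons.2 ⟨b_g24_ok, (okE_cons.2 ⟨b_g31_ok, (okE_cons.2 ⟨b_g32_ok, (okE_cons.2 ⟨b_g37_ok, (okE_nil 8)⟩)⟩)⟩)⟩)⟩)⟩)

noncomputable def b_G2 : List Net := [b_g19, b_g28, b_g25, b_g24, b_g31, b_g32, b_g37]

theorem b_G2_ok : okE 8 b_G2 = true := (okE_cons.2 ⟨b_g19_ok, (okE_cons.2 ⟨b_g28_ok, (okE_cons.2 ⟨b_g25_ok, (okE_cons.2 ⟨b_g24_ok, (okE_cons.2 ⟨b_g31_ok, (okE_cons.2 ⟨b_g32_ok, (okE_cons.2 ⟨b_g37_ok, (okE_nil 8)⟩)⟩)⟩)⟩)⟩)⟩)⟩)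

noncomputable def b_E2 : List Net := [b_g19, b_g18, b_g28, b_g25, b_g24, b_g31, b_g32, b_g37]

theorem b_E2_ok : okE 8 b_E2 = true := (okE_cons.2 ⟨b_g19_ok, (okE_cons.2 ⟨b_g18_ok, (okE_cons.2 ⟨b_g28_ok, (okE_cons.2 ⟨b_g25_ok, (okE_cons.2 ⟨b_g24_ok, (okE_cons.2 ⟨b_g31_ok, (okE_cons.2 ⟨b_g32_ok, (okE_cons.2 ⟨b_g37_ok, (okE_nil 8)⟩)⟩)⟩)⟩)⟩)⟩)⟩)⟩)

noncomputable def b_G1 : List Net := [b_g13, b_g19, b_g18, b_g28, b_g25, b_g24, b_g31, b_g32, b_g37]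

theorem b_G1_ok : okE 8 b_G1 = true := (okE_cons.2 ⟨b_g13_ok, (okE_cons.2 ⟨b_g19_ok, (okE_cons.2 ⟨b_g18_ok, (okE_cons.2 ⟨b_g28_ok, (okE_cons.2 ⟨b_g25_ok, (okE_cons.2 ⟨b_g24_ok, (okE_cons.2 ⟨b_g31_ok, (okE_cons.2 ⟨b_g32_ok, (okE_cons.2 ⟨b_g37_ok, (okE_nil 8)⟩)⟩)⟩)⟩)⟩)⟩)⟩)⟩)⟩)

noncomputable def b_E1 : List Net := [b_g13, b_g12, b_g19, b_g18, b_g28, b_g25, b_g24, b_g31, b_g32, b_g37]

theorem b_E1_ok : okE 8 b_E1 = true := (okE_cons.2 ⟨b_g13_ok, (okE_cons.2 ⟨b_g12_ok, (okE_cons.2 ⟨b_g19_ok, (okE_cons.2 ⟨b_g18_ok, (okE_cons.2 ⟨b_g28_ok, (okE_cons.2 ⟨b_g25_ok, (okE_cons.2 ⟨b_g24_ok, (okE_cons.2 ⟨b_g31_ok, (okE_cons.2 ⟨b_g32_ok, (okE_cons.2 ⟨b_g37_ok, (okE_nil 8)⟩)⟩)⟩)⟩)⟩)⟩)⟩)⟩)⟩)⟩)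

noncomputable def b_G0 : List Net := [b_g9, b_g13, b_g12, b_g19, b_g18, b_g28, b_g25, b_g24, b_g31, b_g32, b_g37]

theorem b_G0_ok : okE 8 b_G0 = true := (okE_cons.2 ⟨b_g9_ok, (okE_cons.2 ⟨b_g13_ok, (okE_cons.2 ⟨b_g12_ok, (okE_cons.2 ⟨b_g19_ok, (okE_cons.2 ⟨b_g18_ok, (okE_cons.2 ⟨b_g28_ok, (okE_cons.2 ⟨b_g25_ok, (okE_cons.2 ⟨b_g24_ok, (okE_cons.2 ⟨b_g31_ok, (okE_cons.2 ⟨b_g32_ok, (okE_cons.2 ⟨b_g37_ok, (okE_nil 8)⟩)⟩)⟩)⟩)⟩)⟩)⟩)⟩)⟩)⟩)⟩)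

noncomputable def b_E0 : List Net := [b_g9, b_g1, b_g2, b_g3, b_g4, b_g5, b_g6, b_g7, b_g8, b_g13, b_g12, b_g19, b_g18, b_g28, b_g25, b_g24, b_g31, b_g32, b_g37]

theorem b_E0_ok : okE 8 b_E0 = true := (okE_cons.2 ⟨b_g9_ok, (okE_cons.2 ⟨b_g1_ok, (okE_cons.2 ⟨b_g2_ok, (okE_cons.2 ⟨b_g3_ok, (okE_cons.2 ⟨b_g4_ok, (okE_cons.2 ⟨b_g5_ok, (okE_cons.2 ⟨b_g6_ok, (okE_cons.2 ⟨b_g7_ok, (okE_cons.2 ⟨b_g8_ok, (okE_cons.2 ⟨b_g13_ok, (okE_cons.2 ⟨b_g12_ok, (okE_cons.2 ⟨b_g19_ok, (okE_cons.2 ⟨b_g18_ok, (okE_cons.2 ⟨b_g28_ok, (okE_cons.2 ⟨b_g25_ok, (okE_cons.2 ⟨b_g24_ok, (okE_cons.2 ⟨b_g31_ok, (okE_cons.2 ⟨b_g32_ok, (okE_cons.2 ⟨b_g37_ok, (okE_nil 8)⟩)⟩)⟩)⟩)⟩)⟩)⟩)⟩)⟩)⟩)⟩)⟩)⟩)⟩)⟩)⟩)⟩)⟩)⟩)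

theorem b_le11 : grp 8 b_V10 ≤ grp 8 b_O :=
  grp_le_of_memB b_hn b_hk b_O_ok b_V10_ok (ws := [nat_lit 1291]) (by decide +kernel)

theorem b_le15 : grp 8 b_V14 ≤ grp 8 b_O :=
  grp_le_of_memB b_hn b_hk b_O_ok b_V14_ok (ws := [nat_lit 0xe0205010b070504020c0602, nat_lit 0x801040906100d1004]) (by decide +kernel)

theorem b_le17 : grp 8 b_V16 ≤ grp 8 b_V14 :=
  grp_le_of_memB b_hn b_hk b_V14_ok b_V16_ok (ws := [nat_lit 3]) (by decide +kernel)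

theorem b_le21 : grp 8 b_V20 ≤ grp 8 b_V14 :=
  grp_le_of_memB b_hn b_hk b_V14_ok b_V20_ok (ws := [nat_lit 0x30204010301040104020402, nat_lit 0x10303010302]) (by decide +kernel)

theorem b_le23 : grp 8 b_V22 ≤ grp 8 b_V20 :=
  grp_le_of_memB b_hn b_hk b_V20_ok b_V22_ok (ws := [nat_lit 3]) (by decide +kernel)

theorem b_le27 : grp 8 b_V26 ≤ grp 8 b_V20 :=
  grp_le_of_memB b_hn b_hk b_V20_ok b_V26_ok (ws := [nat_lit 0x1040401010302, nat_lit 196868]) (by decide +kernel)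

theorem b_le30 : grp 8 b_V29 ≤ grp 8 b_V26 :=
  grp_le_of_memB b_hn b_hk b_V26_ok b_V29_ok (ws := [nat_lit 770]) (by decide +kernel)

theorem b_le34 : grp 8 b_V33 ≤ grp 8 b_V26 :=
  grp_le_of_memB b_hn b_hk b_V26_ok b_V33_ok (ws := [nat_lit 0x3020202030204, nat_lit 0x10103030204]) (by decide +kernel)

theorem b_le36 : grp 8 b_V35 ≤ grp 8 b_V33 :=
  grp_le_of_memB b_hn b_hk b_V33_ok b_V35_ok (ws := [nat_lit 260]) (by decide +kernel)

theorem b_le39 : grp 8 b_V38 ≤ grp 8 b_V33 :=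
  grp_le_of_memB b_hn b_hk b_V33_ok b_V38_ok (ws := [nat_lit 0x1030303030202, nat_lit 0x2020202020301]) (by decide +kernel)

theorem b_le41 : grp 8 b_V40 ≤ grp 8 b_V38 :=
  grp_le_of_memB b_hn b_hk b_V38_ok b_V40_ok (ws := [nat_lit 1]) (by decide +kernel)

theorem b_card6 : Nat.card (grp 8 b_E6) = 1 :=
  card_grp_nil 8

theorem b_leO6 : grp 8 b_E6 ≤ grp 8 b_O :=
  grp_nil_le _

theorem b_5_fix : grp 8 b_E6 ≤ MulAction.stabilizer (Equiv.Perm (Fin 8)) (⟨3, by decide⟩ : Fin 8) :=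
  grp_le_stab b_E6_ok (by decide : 3 < 8) (by decide +kernel)

noncomputable def b_5_ts : List ℕ := [nat_lit 0, nat_lit 1, nat_lit 2]

noncomputable def b_5_ds : List ℕ := [nat_lit 3, nat_lit 6, nat_lit 7]

theorem b_5_dist : Dist 8 b_E6 b_G5 (⟨3, by decide⟩ : Fin 8) b_5_ts b_5_ds :=
  dist_of_distB (k := 2) b_hn b_E6_ok b_G5_ok (by decide : 3 < 8) (by decide +kernel)

noncomputable def b_5_sl0 : SL := (SL.cons (nat_lit 1) (nat_lit 6) Ch.nil [] (SL.cons (nat_lit 2) (nat_lit 7) Ch.nil [] SL.nil))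

theorem b_5_sc0 : SCs 8 b_E6 b_G5 (⟨3, by decide⟩ : Fin 8) (SL.words b_5_sl0) :=
  scs_of_ok b_hn (det_lab b_hk ⊤) b_E6_ok b_G5_ok le_top le_top (by decide : 3 < 8) b_5_fix b_card6.le (by decide +kernel)

noncomputable def b_5_l : List ℕ := (appL (SL.words b_5_sl0) [])

theorem b_5_scs : SCs 8 b_E6 b_G5 (⟨3, by decide⟩ : Fin 8) b_5_l :=
  (SCs.append b_5_sc0 SCs.nil)

noncomputable def b_5_rl0_0 : RL := (RL.cons (nat_lit 0) (nat_lit 3) (nat_lit 0) (nat_lit 0) (nat_lit 2) (nat_lit 0) (RL.cons (nat_lit 1) (nat_lit 6) (nat_lit 0) (nat_lit 0) (nat_lit 0) (nat_lit 0) (RL.cons (nat_lit 2) (nat_lit 7) (nat_lit 0) (nat_lit 0) (nat_lit 1) (nat_lit 0) RL.nil)))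

theorem b_5_good0_0 : GoodSet 8 b_E6 b_G5 (⟨3, by decide⟩ : Fin 8) b_5_ts (nat_lit 1) (RL.pts b_5_rl0_0) :=
  goodSet_of_ok b_hn (det_lab b_hk ⊤) b_E6_ok b_G5_ok le_top le_top (by decide : 3 < 8) (sepAt_lab b_hk _) (by decide +kernel)

theorem b_5_step0 : Step 8 b_E6 b_G5 b_5_ts (2 * 0 + 1) :=
  step_of_cover b_E6_ok b_5_dist (by decide +kernel) b_5_scs (by decide +kernel) b_5_good0_0 (kw := [])
    (conj_mem_of_scs b_E6_ok b_G5_ok (by decide : 3 < 8) b_5_scs (c := 0) (d := 6) (by decide +kernel)) (by decide +kernel)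

theorem b_5_lev : grp 8 b_G5 ⊓ MulAction.stabilizer (Equiv.Perm (Fin 8)) (⟨3, by decide⟩ : Fin 8) = grp 8 b_E6 :=
  sims_level (gs := b_V40) rfl (by decide) b_5_fix b_5_dist (forall_lt_one b_5_step0)

theorem b_5_cardG : Nat.card (grp 8 b_G5) = 3 :=
  card_of_level b_hn b_G5_ok (by decide : 3 < 8) b_5_lev b_card6 (m := 3) (by decide +kernel)

theorem b_le42 : grp 8 b_E5 ≤ grp 8 b_G5 :=
  grp_le_of_memB b_hn b_hk b_G5_ok b_E5_ok (ws := [nat_lit 1]) (by decide +kernel)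

theorem b_le43 : grp 8 b_G5 ≤ grp 8 b_E5 :=
  grp_le_of_memB b_hn b_hk b_E5_ok b_G5_ok (ws := [nat_lit 1]) (by decide +kernel)

theorem b_5_eq : grp 8 b_E5 = grp 8 b_G5 :=
  le_antisymm b_le42 b_le43

theorem b_card5 : Nat.card (grp 8 b_E5) = 3 :=
  by rw [b_5_eq]; exact b_5_cardG

theorem b_stab5 : grp 8 b_E5 ⊓ MulAction.stabilizer (Equiv.Perm (Fin 8)) (⟨3, by decide⟩ : Fin 8) = grp 8 b_E6 :=
  by rw [b_5_eq]; exact b_5_lev

theorem b_leO5 : grp 8 b_E5 ≤ grp 8 b_O :=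
  b_5_eq.le.trans (grp_cons_le ((b_le39.trans (b_le34.trans (b_le27.trans (b_le21.trans (b_le15.trans (le_refl (grp 8 b_O))))))) (b_le41 (toPerm_mem_grp (E := b_V40) (by simp [b_V40])))) b_leO6)

theorem b_4_fix : grp 8 b_E5 ≤ MulAction.stabilizer (Equiv.Perm (Fin 8)) (⟨2, by decide⟩ : Fin 8) :=
  grp_le_stab b_E5_ok (by decide : 2 < 8) (by decide +kernel)

noncomputable def b_4_ts : List ℕ := [nat_lit 0, nat_lit 1]

noncomputable def b_4_ds : List ℕ := [nat_lit 2, nat_lit 3]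

theorem b_4_dist : Dist 8 b_E5 b_G4 (⟨2, by decide⟩ : Fin 8) b_4_ts b_4_ds :=
  dist_of_distB (k := 1) b_hn b_E5_ok b_G4_ok (by decide : 2 < 8) (by decide +kernel)

noncomputable def b_4_sl0 : SL := (SL.cons (nat_lit 1) (nat_lit 3) Ch.nil [] SL.nil)

theorem b_4_sc0 : SCs 8 b_E5 b_G4 (⟨2, by decide⟩ : Fin 8) (SL.words b_4_sl0) :=
  scs_of_ok b_hn (det_lab b_hk ⊤) b_E5_ok b_G4_ok le_top le_top (by decide : 2 < 8) b_4_fix b_card5.le (by decide +kernel)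

noncomputable def b_4_l : List ℕ := (appL (SL.words b_4_sl0) [])

theorem b_4_scs : SCs 8 b_E5 b_G4 (⟨2, by decide⟩ : Fin 8) b_4_l :=
  (SCs.append b_4_sc0 SCs.nil)

noncomputable def b_4_rl0_0 : RL := (RL.cons (nat_lit 0) (nat_lit 2) (nat_lit 0) (nat_lit 1) (nat_lit 1) (nat_lit 1) (RL.cons (nat_lit 1) (nat_lit 3) (nat_lit 0) (nat_lit 0) (nat_lit 0) (nat_lit 0) (RL.cons (nat_lit 1) (nat_lit 6) (nat_lit 1) (nat_lit 0) (nat_lit 1) (nat_lit 2) (RL.cons (nat_lit 1) (nat_lit 7) (nat_lit 2) (nat_lit 2) (nat_lit 1) (nat_lit 1) RL.nil))))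

theorem b_4_good0_0 : GoodSet 8 b_E5 b_G4 (⟨2, by decide⟩ : Fin 8) b_4_ts (nat_lit 1) (RL.pts b_4_rl0_0) :=
  goodSet_of_ok b_hn (det_lab b_hk ⊤) b_E5_ok b_G4_ok le_top le_top (by decide : 2 < 8) (sepAt_lab b_hk _) (by decide +kernel)

theorem b_4_step0 : Step 8 b_E5 b_G4 b_4_ts (2 * 0 + 1) :=
  step_of_cover b_E5_ok b_4_dist (by decide +kernel) b_4_scs (by decide +kernel) b_4_good0_0 (kw := [])
    (conj_mem_of_scs b_E5_ok b_G4_ok (by decide : 2 < 8) b_4_scs (c := 0) (d := 3) (by decide +kernel)) (by decide +kernel)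

theorem b_4_lev : grp 8 b_G4 ⊓ MulAction.stabilizer (Equiv.Perm (Fin 8)) (⟨2, by decide⟩ : Fin 8) = grp 8 b_E5 :=
  sims_level (gs := b_V35) rfl (by decide) b_4_fix b_4_dist (forall_lt_one b_4_step0)

theorem b_4_cardG : Nat.card (grp 8 b_G4) = 12 :=
  card_of_level b_hn b_G4_ok (by decide : 2 < 8) b_4_lev b_card5 (m := 4) (by decide +kernel)

theorem b_le44 : grp 8 b_E4 ≤ grp 8 b_G4 :=
  grp_le_of_memB b_hn b_hk b_G4_ok b_E4_ok (ws := [nat_lit 1, nat_lit 260, nat_lit 4, nat_lit 3]) (by decide +kernel)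

theorem b_le45 : grp 8 b_G4 ≤ grp 8 b_E4 :=
  grp_le_of_memB b_hn b_hk b_E4_ok b_G4_ok (ws := [nat_lit 1, nat_lit 7]) (by decide +kernel)

theorem b_4_eq : grp 8 b_E4 = grp 8 b_G4 :=
  le_antisymm b_le44 b_le45

theorem b_card4 : Nat.card (grp 8 b_E4) = 12 :=
  by rw [b_4_eq]; exact b_4_cardG

theorem b_stab4 : grp 8 b_E4 ⊓ MulAction.stabilizer (Equiv.Perm (Fin 8)) (⟨2, by decide⟩ : Fin 8) = grp 8 b_E5 :=
  by rw [b_4_eq]; exact b_4_lev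

theorem b_leO4 : grp 8 b_E4 ≤ grp 8 b_O :=
  b_4_eq.le.trans (grp_cons_le ((b_le34.trans (b_le27.trans (b_le21.trans (b_le15.trans (le_refl (grp 8 b_O)))))) (b_le36 (toPerm_mem_grp (E := b_V35) (by simp [b_V35])))) b_leO5)

theorem b_3_fix : grp 8 b_E4 ≤ MulAction.stabilizer (Equiv.Perm (Fin 8)) (⟨1, by decide⟩ : Fin 8) :=
  grp_le_stab b_E4_ok (by decide : 1 < 8) (by decide +kernel)

noncomputable def b_3_ts : List ℕ := [nat_lit 0, nat_lit 1]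

noncomputable def b_3_ds : List ℕ := [nat_lit 1, nat_lit 2]

theorem b_3_dist : Dist 8 b_E4 b_G3 (⟨1, by decide⟩ : Fin 8) b_3_ts b_3_ds :=
  dist_of_distB (k := 1) b_hn b_E4_ok b_G3_ok (by decide : 1 < 8) (by decide +kernel)

noncomputable def b_3_sl0 : SL := (SL.cons (nat_lit 1) (nat_lit 2) (Ch.cons (nat_lit 3) [nat_lit 7] Ch.nil) [nat_lit 1] SL.nil)

theorem b_3_sc0 : SCs 8 b_E4 b_G3 (⟨1, by decide⟩ : Fin 8) (SL.words b_3_sl0) :=
  scs_of_ok b_hn (det_lab b_hk ⊤) b_E4_ok b_G3_ok le_top le_top (by decide : 1 < 8) b_3_fix b_card4.le (by decide +kernel)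

noncomputable def b_3_l : List ℕ := (appL (SL.words b_3_sl0) [])

theorem b_3_scs : SCs 8 b_E4 b_G3 (⟨1, by decide⟩ : Fin 8) b_3_l :=
  (SCs.append b_3_sc0 SCs.nil)

noncomputable def b_3_rl0_0 : RL := (RL.cons (nat_lit 0) (nat_lit 1) (nat_lit 0) (nat_lit 3) (nat_lit 1) (nat_lit 3) (RL.cons (nat_lit 1) (nat_lit 2) (nat_lit 0) (nat_lit 0) (nat_lit 0) (nat_lit 0) (RL.cons (nat_lit 1) (nat_lit 3) (nat_lit 1) (nat_lit 1) (nat_lit 1) (nat_lit 1794) RL.nil)))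

theorem b_3_good0_0 : GoodSet 8 b_E4 b_G3 (⟨1, by decide⟩ : Fin 8) b_3_ts (nat_lit 1) (RL.pts b_3_rl0_0) :=
  goodSet_of_ok b_hn (det_lab b_hk ⊤) b_E4_ok b_G3_ok le_top le_top (by decide : 1 < 8) (sepAt_lab b_hk _) (by decide +kernel)

theorem b_3_step0 : Step 8 b_E4 b_G3 b_3_ts (2 * 0 + 1) :=
  step_of_cover b_E4_ok b_3_dist (by decide +kernel) b_3_scs (by decide +kernel) b_3_good0_0 (kw := [nat_lit 7])
    (conj_mem_of_scs b_E4_ok b_G3_ok (by decide : 1 < 8) b_3_scs (c := 0) (d := 2) (by decide +kernel)) (by decide +kernel)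

theorem b_3_lev : grp 8 b_G3 ⊓ MulAction.stabilizer (Equiv.Perm (Fin 8)) (⟨1, by decide⟩ : Fin 8) = grp 8 b_E4 :=
  sims_level (gs := b_V29) rfl (by decide) b_3_fix b_3_dist (forall_lt_one b_3_step0)

theorem b_3_cardG : Nat.card (grp 8 b_G3) = 60 :=
  card_of_level b_hn b_G3_ok (by decide : 1 < 8) b_3_lev b_card4 (m := 5) (by decide +kernel)

theorem b_le46 : grp 8 b_E3 ≤ grp 8 b_G3 :=
  grp_le_of_memB b_hn b_hk b_G3_ok b_E3_ok (ws := [nat_lit 1, nat_lit 259, nat_lit 3, nat_lit 5, nat_lit 7, nat_lit 9]) (by decide +kernel)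

theorem b_le47 : grp 8 b_G3 ≤ grp 8 b_E3 :=
  grp_le_of_memB b_hn b_hk b_E3_ok b_G3_ok (ws := [nat_lit 1, nat_lit 5, nat_lit 7, nat_lit 9, nat_lit 11]) (by decide +kernel)

theorem b_3_eq : grp 8 b_E3 = grp 8 b_G3 :=
  le_antisymm b_le46 b_le47

theorem b_card3 : Nat.card (grp 8 b_E3) = 60 :=
  by rw [b_3_eq]; exact b_3_cardG

theorem b_stab3 : grp 8 b_E3 ⊓ MulAction.stabilizer (Equiv.Perm (Fin 8)) (⟨1, by decide⟩ : Fin 8) = grp 8 b_E4 :=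
  by rw [b_3_eq]; exact b_3_lev

theorem b_leO3 : grp 8 b_E3 ≤ grp 8 b_O :=
  b_3_eq.le.trans (grp_cons_le ((b_le27.trans (b_le21.trans (b_le15.trans (le_refl (grp 8 b_O))))) (b_le30 (toPerm_mem_grp (E := b_V29) (by simp [b_V29])))) b_leO4)

theorem b_2_fix : grp 8 b_E3 ≤ MulAction.stabilizer (Equiv.Perm (Fin 8)) (⟨5, by decide⟩ : Fin 8) :=
  grp_le_stab b_E3_ok (by decide : 5 < 8) (by decide +kernel)

noncomputable def b_2_ts : List ℕ := [nat_lit 0, nat_lit 1]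

noncomputable def b_2_ds : List ℕ := [nat_lit 5, nat_lit 1]

theorem b_2_dist : Dist 8 b_E3 b_G2 (⟨5, by decide⟩ : Fin 8) b_2_ts b_2_ds :=
  dist_of_distB (k := 1) b_hn b_E3_ok b_G2_ok (by decide : 5 < 8) (by decide +kernel)

noncomputable def b_2_sl0 : SL := (SL.cons (nat_lit 1) (nat_lit 1) (Ch.cons (nat_lit 2) [nat_lit 5, nat_lit 7, nat_lit 9] (Ch.cons (nat_lit 3) [nat_lit 11] Ch.nil)) [nat_lit 1539, nat_lit 788227, nat_lit 2, nat_lit 1] SL.nil)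

theorem b_2_sc0 : SCs 8 b_E3 b_G2 (⟨5, by decide⟩ : Fin 8) (SL.words b_2_sl0) :=
  scs_of_ok b_hn (det_lab b_hk ⊤) b_E3_ok b_G2_ok le_top le_top (by decide : 5 < 8) b_2_fix b_card3.le (by decide +kernel)

noncomputable def b_2_l : List ℕ := (appL (SL.words b_2_sl0) [])

theorem b_2_scs : SCs 8 b_E3 b_G2 (⟨5, by decide⟩ : Fin 8) b_2_l :=
  (SCs.append b_2_sc0 SCs.nil)

noncomputable def b_2_rl0_0 : RL := (RL.cons (nat_lit 0) (nat_lit 5) (nat_lit 0) (nat_lit 260) (nat_lit 1) (nat_lit 0xb050104) (RL.cons (nat_lit 1) (nat_lit 1) (nat_lit 0) (nat_lit 0) (nat_lit 0) (nat_lit 0) (RL.cons (nat_lit 1) (nat_lit 2) (nat_lit 1) (nat_lit 3) (nat_lit 1) (nat_lit 787969) RL.nil)))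

theorem b_2_good0_0 : GoodSet 8 b_E3 b_G2 (⟨5, by decide⟩ : Fin 8) b_2_ts (nat_lit 1) (RL.pts b_2_rl0_0) :=
  goodSet_of_ok b_hn (det_lab b_hk ⊤) b_E3_ok b_G2_ok le_top le_top (by decide : 5 < 8) (sepAt_lab b_hk _) (by decide +kernel)

theorem b_2_step0 : Step 8 b_E3 b_G2 b_2_ts (2 * 0 + 1) :=
  step_of_cover b_E3_ok b_2_dist (by decide +kernel) b_2_scs (by decide +kernel) b_2_good0_0 (kw := [nat_lit 5, nat_lit 7, nat_lit 9, nat_lit 11])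
    (conj_mem_of_scs b_E3_ok b_G2_ok (by decide : 5 < 8) b_2_scs (c := 0) (d := 1) (by decide +kernel)) (by decide +kernel)

theorem b_2_lev : grp 8 b_G2 ⊓ MulAction.stabilizer (Equiv.Perm (Fin 8)) (⟨5, by decide⟩ : Fin 8) = grp 8 b_E3 :=
  sims_level (gs := b_V22) rfl (by decide) b_2_fix b_2_dist (forall_lt_one b_2_step0)

theorem b_2_cardG : Nat.card (grp 8 b_G2) = 360 :=
  card_of_level b_hn b_G2_ok (by decide : 5 < 8) b_2_lev b_card3 (m := 6) (by decide +kernel)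

theorem b_le48 : grp 8 b_E2 ≤ grp 8 b_G2 :=
  grp_le_of_memB b_hn b_hk b_G2_ok b_E2_ok (ws := [nat_lit 1, nat_lit 0xe07050104, nat_lit 3, nat_lit 5, nat_lit 7, nat_lit 9, nat_lit 11, nat_lit 13]) (by decide +kernel)

theorem b_le49 : grp 8 b_G2 ≤ grp 8 b_E2 :=
  grp_le_of_memB b_hn b_hk b_E2_ok b_G2_ok (ws := [nat_lit 1, nat_lit 5, nat_lit 7, nat_lit 9, nat_lit 11, nat_lit 13, nat_lit 15]) (by decide +kernel)

theorem b_2_eq : grp 8 b_E2 = grp 8 b_G2 :=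
  le_antisymm b_le48 b_le49

theorem b_card2 : Nat.card (grp 8 b_E2) = 360 :=
  by rw [b_2_eq]; exact b_2_cardG

theorem b_stab2 : grp 8 b_E2 ⊓ MulAction.stabilizer (Equiv.Perm (Fin 8)) (⟨5, by decide⟩ : Fin 8) = grp 8 b_E3 :=
  by rw [b_2_eq]; exact b_2_lev

theorem b_leO2 : grp 8 b_E2 ≤ grp 8 b_O :=
  b_2_eq.le.trans (grp_cons_le ((b_le21.trans (b_le15.trans (le_refl (grp 8 b_O)))) (b_le23 (toPerm_mem_grp (E := b_V22) (by simp [b_V22])))) b_leO3)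

theorem b_1_fix : grp 8 b_E2 ≤ MulAction.stabilizer (Equiv.Perm (Fin 8)) (⟨4, by decide⟩ : Fin 8) :=
  grp_le_stab b_E2_ok (by decide : 4 < 8) (by decide +kernel)

noncomputable def b_1_ts : List ℕ := [nat_lit 0, nat_lit 1]

noncomputable def b_1_ds : List ℕ := [nat_lit 4, nat_lit 5]

theorem b_1_dist : Dist 8 b_E2 b_G1 (⟨4, by decide⟩ : Fin 8) b_1_ts b_1_ds :=
  dist_of_distB (k := 1) b_hn b_E2_ok b_G1_ok (by decide : 4 < 8) (by decide +kernel)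

noncomputable def b_1_sl0 : SL := (SL.cons (nat_lit 1) (nat_lit 5) (Ch.cons (nat_lit 1) [nat_lit 5, nat_lit 7] (Ch.cons (nat_lit 2) [nat_lit 9, nat_lit 11, nat_lit 13] (Ch.cons (nat_lit 3) [nat_lit 15] Ch.nil))) [nat_lit 5, nat_lit 4101, nat_lit 1288, nat_lit 0x100905, nat_lit 9, nat_lit 10] SL.nil)

theorem b_1_sc0 : SCs 8 b_E2 b_G1 (⟨4, by decide⟩ : Fin 8) (SL.words b_1_sl0) :=
  scs_of_ok b_hn (det_lab b_hk ⊤) b_E2_ok b_G1_ok le_top le_top (by decide : 4 < 8) b_1_fix b_card2.le (by decide +kernel)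

noncomputable def b_1_l : List ℕ := (appL (SL.words b_1_sl0) [])

theorem b_1_scs : SCs 8 b_E2 b_G1 (⟨4, by decide⟩ : Fin 8) b_1_l :=
  (SCs.append b_1_sc0 SCs.nil)

noncomputable def b_1_rl0_0 : RL := (RL.cons (nat_lit 0) (nat_lit 4) (nat_lit 0) (nat_lit 0) (nat_lit 1) (nat_lit 5) (RL.cons (nat_lit 1) (nat_lit 5) (nat_lit 0) (nat_lit 0) (nat_lit 0) (nat_lit 0) (RL.cons (nat_lit 1) (nat_lit 1) (nat_lit 1) (nat_lit 3) (nat_lit 1) (nat_lit 984577) RL.nil)))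

theorem b_1_good0_0 : GoodSet 8 b_E2 b_G1 (⟨4, by decide⟩ : Fin 8) b_1_ts (nat_lit 1) (RL.pts b_1_rl0_0) :=
  goodSet_of_ok b_hn (det_lab b_hk ⊤) b_E2_ok b_G1_ok le_top le_top (by decide : 4 < 8) (sepAt_lab b_hk _) (by decide +kernel)

theorem b_1_step0 : Step 8 b_E2 b_G1 b_1_ts (2 * 0 + 1) :=
  step_of_cover b_E2_ok b_1_dist (by decide +kernel) b_1_scs (by decide +kernel) b_1_good0_0 (kw := [nat_lit 5, nat_lit 7, nat_lit 9, nat_lit 11, nat_lit 13, nat_lit 15])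
    (conj_mem_of_scs b_E2_ok b_G1_ok (by decide : 4 < 8) b_1_scs (c := 0) (d := 5) (by decide +kernel)) (by decide +kernel)

theorem b_1_lev : grp 8 b_G1 ⊓ MulAction.stabilizer (Equiv.Perm (Fin 8)) (⟨4, by decide⟩ : Fin 8) = grp 8 b_E2 :=
  sims_level (gs := b_V16) rfl (by decide) b_1_fix b_1_dist (forall_lt_one b_1_step0)

theorem b_1_cardG : Nat.card (grp 8 b_G1) = 2520 :=
  card_of_level b_hn b_G1_ok (by decide : 4 < 8) b_1_lev b_card2 (m := 7) (by decide +kernel)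

theorem b_le50 : grp 8 b_E1 ≤ grp 8 b_G1 :=
  grp_le_of_memB b_hn b_hk b_G1_ok b_E1_ok (ws := [nat_lit 1, nat_lit 0x110c070a03090103, nat_lit 3, nat_lit 5, nat_lit 7, nat_lit 9, nat_lit 11, nat_lit 13, nat_lit 15, nat_lit 17]) (by decide +kernel)

theorem b_le51 : grp 8 b_G1 ≤ grp 8 b_E1 :=
  grp_le_of_memB b_hn b_hk b_E1_ok b_G1_ok (ws := [nat_lit 1, nat_lit 5, nat_lit 7, nat_lit 9, nat_lit 11, nat_lit 13, nat_lit 15, nat_lit 17, nat_lit 19]) (by decide +kernel)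

theorem b_1_eq : grp 8 b_E1 = grp 8 b_G1 :=
  le_antisymm b_le50 b_le51

theorem b_card1 : Nat.card (grp 8 b_E1) = 2520 :=
  by rw [b_1_eq]; exact b_1_cardG

theorem b_stab1 : grp 8 b_E1 ⊓ MulAction.stabilizer (Equiv.Perm (Fin 8)) (⟨4, by decide⟩ : Fin 8) = grp 8 b_E2 :=
  by rw [b_1_eq]; exact b_1_lev

theorem b_leO1 : grp 8 b_E1 ≤ grp 8 b_O :=
  b_1_eq.le.trans (grp_cons_le ((b_le15.trans (le_refl (grp 8 b_O))) (b_le17 (toPerm_mem_grp (E := b_V16) (by simp [b_V16])))) b_leO2)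

theorem b_0_fix : grp 8 b_E1 ≤ MulAction.stabilizer (Equiv.Perm (Fin 8)) (⟨0, by decide⟩ : Fin 8) :=
  grp_le_stab b_E1_ok (by decide : 0 < 8) (by decide +kernel)

noncomputable def b_0_ts : List ℕ := [nat_lit 0, nat_lit 1]

noncomputable def b_0_ds : List ℕ := [nat_lit 0, nat_lit 4]

theorem b_0_dist : Dist 8 b_E1 b_G0 (⟨0, by decide⟩ : Fin 8) b_0_ts b_0_ds :=
  dist_of_distB (k := 1) b_hn b_E1_ok b_G0_ok (by decide : 0 < 8) (by decide +kernel)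

noncomputable def b_0_sl0 : SL := (SL.cons (nat_lit 1) (nat_lit 4) (Ch.cons (nat_lit 5) [nat_lit 5, nat_lit 7] (Ch.cons (nat_lit 1) [nat_lit 9, nat_lit 11] (Ch.cons (nat_lit 2) [nat_lit 13, nat_lit 15, nat_lit 17] (Ch.cons (nat_lit 3) [nat_lit 19] Ch.nil)))) [nat_lit 985350, nat_lit 0x130d05, nat_lit 0x140f0b, nat_lit 985605, nat_lit 0x130d0905, nat_lit 854533, nat_lit 3591, nat_lit 0xf09050b] SL.nil)

theorem b_0_sc0 : SCs 8 b_E1 b_G0 (⟨0, by decide⟩ : Fin 8) (SL.words b_0_sl0) :=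
  scs_of_ok b_hn (det_lab b_hk ⊤) b_E1_ok b_G0_ok le_top le_top (by decide : 0 < 8) b_0_fix b_card1.le (by decide +kernel)

noncomputable def b_0_l : List ℕ := (appL (SL.words b_0_sl0) [])

theorem b_0_scs : SCs 8 b_E1 b_G0 (⟨0, by decide⟩ : Fin 8) b_0_l :=
  (SCs.append b_0_sc0 SCs.nil)

noncomputable def b_0_rl0_0 : RL := (RL.cons (nat_lit 0) (nat_lit 0) (nat_lit 0) (nat_lit 0) (nat_lit 1) (nat_lit 0) (RL.cons (nat_lit 1) (nat_lit 4) (nat_lit 0) (nat_lit 0) (nat_lit 0) (nat_lit 0) (RL.cons (nat_lit 1) (nat_lit 5) (nat_lit 1) (nat_lit 262) (nat_lit 1) (nat_lit 0x140e090c070106) RL.nil)))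

theorem b_0_good0_0 : GoodSet 8 b_E1 b_G0 (⟨0, by decide⟩ : Fin 8) b_0_ts (nat_lit 1) (RL.pts b_0_rl0_0) :=
  goodSet_of_ok b_hn (det_lab b_hk ⊤) b_E1_ok b_G0_ok le_top le_top (by decide : 0 < 8) (sepAt_lab b_hk _) (by decide +kernel)

theorem b_0_step0 : Step 8 b_E1 b_G0 b_0_ts (2 * 0 + 1) :=
  step_of_cover b_E1_ok b_0_dist (by decide +kernel) b_0_scs (by decide +kernel) b_0_good0_0 (kw := [nat_lit 5, nat_lit 7, nat_lit 9, nat_lit 11, nat_lit 13, nat_lit 15, nat_lit 17, nat_lit 19])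
    (conj_mem_of_scs b_E1_ok b_G0_ok (by decide : 0 < 8) b_0_scs (c := 0) (d := 4) (by decide +kernel)) (by decide +kernel)

theorem b_0_lev : grp 8 b_G0 ⊓ MulAction.stabilizer (Equiv.Perm (Fin 8)) (⟨0, by decide⟩ : Fin 8) = grp 8 b_E1 :=
  sims_level (gs := b_V10) rfl (by decide) b_0_fix b_0_dist (forall_lt_one b_0_step0)

theorem b_0_cardG : Nat.card (grp 8 b_G0) = 20160 :=
  card_of_level b_hn b_G0_ok (by decide : 0 < 8) b_0_lev b_card1 (m := 8) (by decide +kernel)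

theorem b_le52 : grp 8 b_E0 ≤ grp 8 b_G0 :=
  grp_le_of_memB b_hn b_hk b_G0_ok b_E0_ok (ws := [nat_lit 1, nat_lit 0x16110d050d01030a, nat_lit 0x160f0905, nat_lit 0x160b080301050d, nat_lit 0x16100b050d01050d, nat_lit 4101, nat_lit 0xf0b0905010309, nat_lit 0x150f070d050d01050d, nat_lit 0x15100b08050d01030a, nat_lit 3, nat_lit 5, nat_lit 7, nat_lit 9, nat_lit 11, nat_lit 13, nat_lit 15, nat_lit 17, nat_lit 19, nat_lit 21]) (by decide +kernel)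

theorem b_le53 : grp 8 b_G0 ≤ grp 8 b_E0 :=
  grp_le_of_memB b_hn b_hk b_E0_ok b_G0_ok (ws := [nat_lit 1, nat_lit 19, nat_lit 21, nat_lit 23, nat_lit 25, nat_lit 27, nat_lit 29, nat_lit 31, nat_lit 33, nat_lit 35, nat_lit 37]) (by decide +kernel)

theorem b_0_eq : grp 8 b_E0 = grp 8 b_G0 :=
  le_antisymm b_le52 b_le53

theorem b_card0 : Nat.card (grp 8 b_E0) = 20160 :=
  by rw [b_0_eq]; exact b_0_cardG

theorem b_stab0 : grp 8 b_E0 ⊓ MulAction.stabilizer (Equiv.Perm (Fin 8)) (⟨0, by decide⟩ : Fin 8) = grp 8 b_E1 :=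
  by rw [b_0_eq]; exact b_0_lev

theorem b_leO0 : grp 8 b_E0 ≤ grp 8 b_O :=
  b_0_eq.le.trans (grp_cons_le ((le_refl (grp 8 b_O)) (b_le11 (toPerm_mem_grp (E := b_V10) (by simp [b_V10])))) b_leO1)

theorem b_le54 : grp 8 b_O ≤ grp 8 b_E0 :=
  grp_le_of_memB b_hn b_hk b_E0_ok b_O_ok (ws := [nat_lit 3, nat_lit 5, nat_lit 7, nat_lit 9, nat_lit 11, nat_lit 13, nat_lit 15, nat_lit 17]) (by decide +kernel)

theorem b_eq : grp 8 b_O = grp 8 b_E0 :=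
  le_antisymm b_le54 b_leO0

theorem b_card : Nat.card (grp 8 b_O) = 20160 :=
  by rw [b_eq]; exact b_card0

noncomputable def b_ch : Ch := (Ch.cons (nat_lit 0) [nat_lit 1, nat_lit 3, nat_lit 5, nat_lit 7, nat_lit 9, nat_lit 11, nat_lit 13, nat_lit 15, nat_lit 17] (Ch.cons (nat_lit 4) [nat_lit 19, nat_lit 21] (Ch.cons (nat_lit 5) [nat_lit 23, nat_lit 25] (Ch.cons (nat_lit 1) [nat_lit 27, nat_lit 29] (Ch.cons (nat_lit 2) [nat_lit 31, nat_lit 33, nat_lit 35] (Ch.cons (nat_lit 3) [nat_lit 37] Ch.nil))))))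

theorem b_exact : Ch.Exact 8 b_E0 b_ch (grp 8 b_E0) :=
  Ch.exact (k := 3) (L := (lab 8 3)) b_hn b_E0_ok (by decide +kernel) (wgrp_le_grp _ _ _) b_card0.le

theorem raw_b : Raw2 1 := raw b_hn b_hk b_O_ok b_card (by decide +kernel)

theorem c_hn : NOk 27 := by decide

theorem c_hk : 27 ≤ 2 ^ 5 := by decide

noncomputable def c_g1 : Net := (Net.cons (nat_lit 1) (nat_lit 65540) (Net.cons (nat_lit 2) (nat_lit 131584) (Net.cons (nat_lit 4) (nat_lit 196609) (Net.cons (nat_lit 8) (nat_lit 131088) (Net.cons (nat_lit 16) (nat_lit 2045) (Net.cons (nat_lit 8) (nat_lit 131122) (Net.cons (nat_lit 4) (nat_lit 66051) (Net.cons (nat_lit 2) (nat_lit 131584) (Net.cons (nat_lit 1) (nat_lit 0x114014) Net.nil)))))))))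

theorem c_g1_ok : Net.ok 27 c_g1 = true := by decide +kernel

noncomputable def c_g2 : Net := (Net.cons (nat_lit 1) (nat_lit 0x1151400) (Net.cons (nat_lit 2) (nat_lit 0x1201220) (Net.cons (nat_lit 4) (nat_lit 262144) (Net.cons (nat_lit 8) (nat_lit 262144) (Net.cons (nat_lit 16) (nat_lit 2042) (Net.cons (nat_lit 8) (nat_lit 262212) (Net.cons (nat_lit 4) (nat_lit 525324) (Net.cons (nat_lit 2) (nat_lit 0x1201220) (Net.cons (nat_lit 1) (nat_lit 0x1551440) Net.nil)))))))))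

theorem c_g2_ok : Net.ok 27 c_g2 = true := by decide +kernel

noncomputable def c_g3 : Net := (Net.cons (nat_lit 1) (nat_lit 0x1440410) (Net.cons (nat_lit 2) (nat_lit 0x220010) (Net.cons (nat_lit 4) (nat_lit 396544) (Net.cons (nat_lit 8) (nat_lit 96) (Net.cons (nat_lit 16) (nat_lit 96) (Net.cons (nat_lit 8) (nat_lit 393456) (Net.cons (nat_lit 4) (nat_lit 462084) (Net.cons (nat_lit 2) (nat_lit 0x220012) (Net.cons (nat_lit 1) (nat_lit 0x1444410) Net.nil)))))))))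

theorem c_g3_ok : Net.ok 27 c_g3 = true := by decide +kernel

noncomputable def c_g4 : Net := (Net.cons (nat_lit 1) (nat_lit 0x451450) (Net.cons (nat_lit 2) (nat_lit 512) (Net.cons (nat_lit 8) (nat_lit 65536) (Net.cons (nat_lit 16) (nat_lit 1791) (Net.cons (nat_lit 8) (nat_lit 458758) (Net.cons (nat_lit 4) (nat_lit 524552) (Net.cons (nat_lit 2) (nat_lit 0x100210) (Net.cons (nat_lit 1) (nat_lit 0x1455451) Net.nil))))))))

theorem c_g4_ok : Net.ok 27 c_g4 = true := by decide +kernel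

noncomputable def c_g5 : Net := (Net.cons (nat_lit 1) (nat_lit 0x140500) (Net.cons (nat_lit 2) (nat_lit 73984) (Net.cons (nat_lit 4) (nat_lit 66048) (Net.cons (nat_lit 8) (nat_lit 196608) (Net.cons (nat_lit 16) (nat_lit 1016) (Net.cons (nat_lit 8) (nat_lit 196608) (Net.cons (nat_lit 4) (nat_lit 66048) (Net.cons (nat_lit 2) (nat_lit 0x1013300) (Net.cons (nat_lit 1) (nat_lit 0x540540) Net.nil)))))))))

theorem c_g5_ok : Net.ok 27 c_g5 = true := by decide +kernel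

noncomputable def c_g6 : Net := (Net.cons (nat_lit 1) (nat_lit 0x1440140) (Net.cons (nat_lit 2) (nat_lit 0x222202) (Net.cons (nat_lit 4) (nat_lit 131078) (Net.cons (nat_lit 8) (nat_lit 64) (Net.cons (nat_lit 16) (nat_lit 1124) (Net.cons (nat_lit 8) (nat_lit 393436) (Net.cons (nat_lit 4) (nat_lit 921102) (Net.cons (nat_lit 2) (nat_lit 0x222202) (Net.cons (nat_lit 1) (nat_lit 0x1440140) Net.nil)))))))))

theorem c_g6_ok : Net.ok 27 c_g6 = true := by decide +kernel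

noncomputable def c_g7 : Net := (Net.cons (nat_lit 1) (nat_lit 0x1411541) (Net.cons (nat_lit 2) (nat_lit 0x1031300) (Net.cons (nat_lit 4) (nat_lit 1282) (Net.cons (nat_lit 8) (nat_lit 65544) (Net.cons (nat_lit 16) (nat_lit 521) (Net.cons (nat_lit 8) (nat_lit 327740) (Net.cons (nat_lit 4) (nat_lit 132362) (Net.cons (nat_lit 2) (nat_lit 0x1131300) (Net.cons (nat_lit 1) (nat_lit 0x1411541) Net.nil)))))))))

theorem c_g7_ok : Net.ok 27 c_g7 = true := by decide +kernel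

noncomputable def c_g8 : Net := (Net.cons (nat_lit 1) (nat_lit 16385) (Net.cons (nat_lit 4) (nat_lit 260) (Net.cons (nat_lit 16) (nat_lit 1536) (Net.cons (nat_lit 8) (nat_lit 73) (Net.cons (nat_lit 4) (nat_lit 260) (Net.cons (nat_lit 2) (nat_lit 12289) (Net.cons (nat_lit 1) (nat_lit 0x154011) Net.nil)))))))

theorem c_g8_ok : Net.ok 27 c_g8 = true := by decide +kernel

noncomputable def c_O : List Net := [c_g1, c_g2, c_g3, c_g4, c_g5, c_g6, c_g7, c_g8]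

theorem c_O_ok : okE 27 c_O = true := (okE_cons.2 ⟨c_g1_ok, (okE_cons.2 ⟨c_g2_ok, (okE_cons.2 ⟨c_g3_ok, (okE_cons.2 ⟨c_g4_ok, (okE_cons.2 ⟨c_g5_ok, (okE_cons.2 ⟨c_g6_ok, (okE_cons.2 ⟨c_g7_ok, (okE_cons.2 ⟨c_g8_ok, (okE_nil 27)⟩)⟩)⟩)⟩)⟩)⟩)⟩)⟩)

noncomputable def c_g9 : Net := (Net.cons (nat_lit 1) (nat_lit 0x1511144) (Net.cons (nat_lit 2) (nat_lit 0x1011222) (Net.cons (nat_lit 4) (nat_lit 262913) (Net.cons (nat_lit 8) (nat_lit 131136) (Net.cons (nat_lit 16) (nat_lit 832) (Net.cons (nat_lit 8) (nat_lit 114) (Net.cons (nat_lit 4) (nat_lit 790273) (Net.cons (nat_lit 2) (nat_lit 0x113330) (Net.cons (nat_lit 1) (nat_lit 0x155114) Net.nil)))))))))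

theorem c_g9_ok : Net.ok 27 c_g9 = true := by decide +kernel

noncomputable def c_V10 : List Net := [c_g9]

theorem c_V10_ok : okE 27 c_V10 = true := (okE_cons.2 ⟨c_g9_ok, (okE_nil 27)⟩)

noncomputable def c_g12 : Net := (Net.cons (nat_lit 1) (nat_lit 0x1510400) (Net.cons (nat_lit 2) (nat_lit 139552) (Net.cons (nat_lit 4) (nat_lit 788486) (Net.cons (nat_lit 8) (nat_lit 131200) (Net.cons (nat_lit 16) (nat_lit 1278) (Net.cons (nat_lit 8) (nat_lit 393228) (Net.cons (nat_lit 4) (nat_lit 262158) (Net.cons (nat_lit 2) (nat_lit 139552) (Net.cons (nat_lit 1) (nat_lit 0x1514400) Net.nil)))))))))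

theorem c_g12_ok : Net.ok 27 c_g12 = true := by decide +kernel

noncomputable def c_g13 : Net := (Net.cons (nat_lit 1) (nat_lit 0x101004) (Net.cons (nat_lit 2) (nat_lit 0x200012) (Net.cons (nat_lit 4) (nat_lit 131328) (Net.cons (nat_lit 8) (nat_lit 65544) (Net.cons (nat_lit 16) (nat_lit 2046) (Net.cons (nat_lit 8) (nat_lit 65696) (Net.cons (nat_lit 4) (nat_lit 264458) (Net.cons (nat_lit 2) (nat_lit 0x1100120) (Net.cons (nat_lit 1) (nat_lit 0x1145114) Net.nil)))))))))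

theorem c_g13_ok : Net.ok 27 c_g13 = true := by decide +kernel

noncomputable def c_g14 : Net := (Net.cons (nat_lit 1) (nat_lit 0x1444144) (Net.cons (nat_lit 2) (nat_lit 0x331320) (Net.cons (nat_lit 4) (nat_lit 459012) (Net.cons (nat_lit 8) (nat_lit 196680) (Net.cons (nat_lit 16) (nat_lit 462) (Net.cons (nat_lit 8) (nat_lit 327928) (Net.cons (nat_lit 4) (nat_lit 852482) (Net.cons (nat_lit 2) (nat_lit 4402) (Net.cons (nat_lit 1) (nat_lit 0x1555154) Net.nil)))))))))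

theorem c_g14_ok : Net.ok 27 c_g14 = true := by decide +kernel

noncomputable def c_g15 : Net := (Net.cons (nat_lit 1) (nat_lit 20480) (Net.cons (nat_lit 2) (nat_lit 18) (Net.cons (nat_lit 4) (nat_lit 786435) (Net.cons (nat_lit 8) (nat_lit 176) (Net.cons (nat_lit 16) (nat_lit 2039) (Net.cons (nat_lit 8) (nat_lit 216) (Net.cons (nat_lit 4) (nat_lit 851975) (Net.cons (nat_lit 2) (nat_lit 0x112002) (Net.cons (nat_lit 1) (nat_lit 0x140004) Net.nil)))))))))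

theorem c_g15_ok : Net.ok 27 c_g15 = true := by decide +kernel

noncomputable def c_V16 : List Net := [c_g12, c_g13, c_g14, c_g15]

theorem c_V16_ok : okE 27 c_V16 = true := (okE_cons.2 ⟨c_g12_ok, (okE_cons.2 ⟨c_g13_ok, (okE_cons.2 ⟨c_g14_ok, (okE_cons.2 ⟨c_g15_ok, (okE_nil 27)⟩)⟩)⟩)⟩)

noncomputable def c_g18 : Net := (Net.cons (nat_lit 1) (nat_lit 0x1515140) (Net.cons (nat_lit 2) (nat_lit 0x220222) (Net.cons (nat_lit 4) (nat_lit 459268) (Net.cons (nat_lit 8) (nat_lit 48) (Net.cons (nat_lit 16) (nat_lit 436) (Net.cons (nat_lit 8) (nat_lit 393374) (Net.cons (nat_lit 4) (nat_lit 918028) (Net.cons (nat_lit 2) (nat_lit 0x230000) (Net.cons (nat_lit 1) (nat_lit 344084) Net.nil)))))))))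

theorem c_g18_ok : Net.ok 27 c_g18 = true := by decide +kernel

noncomputable def c_V19 : List Net := [c_g18]

theorem c_V19_ok : okE 27 c_V19 = true := (okE_cons.2 ⟨c_g18_ok, (okE_nil 27)⟩)

noncomputable def c_g21 : Net := (Net.cons (nat_lit 1) (nat_lit 0x110010) (Net.cons (nat_lit 2) (nat_lit 0x202020) (Net.cons (nat_lit 4) (nat_lit 131074) (Net.cons (nat_lit 8) (nat_lit 32) (Net.cons (nat_lit 16) (nat_lit 32) (Net.cons (nat_lit 8) (nat_lit 131106) (Net.cons (nat_lit 4) (nat_lit 657418) (Net.cons (nat_lit 2) (nat_lit 0x232020) (Net.cons (nat_lit 1) (nat_lit 0x1141114) Net.nil)))))))))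

theorem c_g21_ok : Net.ok 27 c_g21 = true := by decide +kernel

noncomputable def c_g22 : Net := (Net.cons (nat_lit 1) (nat_lit 0x1454010) (Net.cons (nat_lit 2) (nat_lit 0x1213100) (Net.cons (nat_lit 4) (nat_lit 393476) (Net.cons (nat_lit 8) (nat_lit 458760) (Net.cons (nat_lit 16) (nat_lit 1466) (Net.cons (nat_lit 8) (nat_lit 65710) (Net.cons (nat_lit 4) (nat_lit 327942) (Net.cons (nat_lit 2) (nat_lit 0x1003122) (Net.cons (nat_lit 1) (nat_lit 0x541104) Net.nil)))))))))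

theorem c_g22_ok : Net.ok 27 c_g22 = true := by decide +kernel

noncomputable def c_g23 : Net := (Net.cons (nat_lit 1) (nat_lit 21504) (Net.cons (nat_lit 2) (nat_lit 0x313010) (Net.cons (nat_lit 4) (nat_lit 722944) (Net.cons (nat_lit 8) (nat_lit 16) (Net.cons (nat_lit 16) (nat_lit 658) (Net.cons (nat_lit 8) (nat_lit 56) (Net.cons (nat_lit 4) (nat_lit 330766) (Net.cons (nat_lit 2) (nat_lit 0x131032) (Net.cons (nat_lit 1) (nat_lit 0x115400) Net.nil)))))))))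

theorem c_g23_ok : Net.ok 27 c_g23 = true := by decide +kernel

noncomputable def c_V24 : List Net := [c_g21, c_g22, c_g23]

theorem c_V24_ok : okE 27 c_V24 = true := (okE_cons.2 ⟨c_g21_ok, (okE_cons.2 ⟨c_g22_ok, (okE_cons.2 ⟨c_g23_ok, (okE_nil 27)⟩)⟩)⟩)

noncomputable def c_V26 : List Net := [c_g22]

theorem c_V26_ok : okE 27 c_V26 = true := (okE_cons.2 ⟨c_g22_ok, (okE_nil 27)⟩)

noncomputable def c_g28 : Net := (Net.cons (nat_lit 1) (nat_lit 0x1505010) (Net.cons (nat_lit 2) (nat_lit 0x130020) (Net.cons (nat_lit 4) (nat_lit 327682) (Net.cons (nat_lit 8) (nat_lit 196672) (Net.cons (nat_lit 16) (nat_lit 354) (Net.cons (nat_lit 8) (nat_lit 196816) (Net.cons (nat_lit 4) (nat_lit 196618) (Net.cons (nat_lit 2) (nat_lit 0x130020) (Net.cons (nat_lit 1) (nat_lit 0x504110) Net.nil)))))))))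

theorem c_g28_ok : Net.ok 27 c_g28 = true := by decide +kernel

noncomputable def c_g29 : Net := (Net.cons (nat_lit 1) (nat_lit 0x105010) (Net.cons (nat_lit 2) (nat_lit 0x102000) (Net.cons (nat_lit 4) (nat_lit 131072) (Net.cons (nat_lit 8) (nat_lit 64) (Net.cons (nat_lit 16) (nat_lit 450) (Net.cons (nat_lit 8) (nat_lit 112) (Net.cons (nat_lit 4) (nat_lit 133120) (Net.cons (nat_lit 2) (nat_lit 0x132000) (Net.cons (nat_lit 1) (nat_lit 0x105014) Net.nil)))))))))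

theorem c_g29_ok : Net.ok 27 c_g29 = true := by decide +kernel

noncomputable def c_V30 : List Net := [c_g28, c_g29]

theorem c_V30_ok : okE 27 c_V30 = true := (okE_cons.2 ⟨c_g28_ok, (okE_cons.2 ⟨c_g29_ok, (okE_nil 27)⟩)⟩)

noncomputable def c_V32 : List Net := [c_g28]

theorem c_V32_ok : okE 27 c_V32 = true := (okE_cons.2 ⟨c_g28_ok, (okE_nil 27)⟩)

noncomputable def c_V34 : List Net := [c_g29, c_g29]

theorem c_V34_ok : okE 27 c_V34 = true := (okE_cons.2 ⟨c_g29_ok, (okE_cons.2 ⟨c_g29_ok, (okE_nil 27)⟩)⟩)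

noncomputable def c_V36 : List Net := [c_g29]

theorem c_V36_ok : okE 27 c_V36 = true := (okE_cons.2 ⟨c_g29_ok, (okE_nil 27)⟩)

noncomputable def c_E5 : List Net := []

theorem c_E5_ok : okE 27 c_E5 = true := (okE_nil 27)

noncomputable def c_G4 : List Net := [c_g29]

theorem c_G4_ok : okE 27 c_G4 = true := (okE_cons.2 ⟨c_g29_ok, (okE_nil 27)⟩)

noncomputable def c_E4 : List Net := [c_g29]

theorem c_E4_ok : okE 27 c_E4 = true := (okE_cons.2 ⟨c_g29_ok, (okE_nil 27)⟩)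

noncomputable def c_G3 : List Net := [c_g28, c_g29]

theorem c_G3_ok : okE 27 c_G3 = true := (okE_cons.2 ⟨c_g28_ok, (okE_cons.2 ⟨c_g29_ok, (okE_nil 27)⟩)⟩)

noncomputable def c_E3 : List Net := [c_g28, c_g29]

theorem c_E3_ok : okE 27 c_E3 = true := (okE_cons.2 ⟨c_g28_ok, (okE_cons.2 ⟨c_g29_ok, (okE_nil 27)⟩)⟩)

noncomputable def c_G2 : List Net := [c_g22, c_g28, c_g29]

theorem c_G2_ok : okE 27 c_G2 = true := (okE_cons.2 ⟨c_g22_ok, (okE_cons.2 ⟨c_g28_ok, (okE_cons.2 ⟨c_g29_ok, (okE_nil 27)⟩)⟩)⟩)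

noncomputable def c_E2 : List Net := [c_g22, c_g21, c_g23, c_g28, c_g29]

theorem c_E2_ok : okE 27 c_E2 = true := (okE_cons.2 ⟨c_g22_ok, (okE_cons.2 ⟨c_g21_ok, (okE_cons.2 ⟨c_g23_ok, (okE_cons.2 ⟨c_g28_ok, (okE_cons.2 ⟨c_g29_ok, (okE_nil 27)⟩)⟩)⟩)⟩)⟩)

noncomputable def c_G1 : List Net := [c_g18, c_g22, c_g21, c_g23, c_g28, c_g29]

theorem c_G1_ok : okE 27 c_G1 = true := (okE_cons.2 ⟨c_g18_ok, (okE_cons.2 ⟨c_g22_ok, (okE_cons.2 ⟨c_g21_ok, (okE_cons.2 ⟨c_g23_ok, (okE_cons.2 ⟨c_g28_ok, (okE_cons.2 ⟨c_g29_ok, (okE_nil 27)⟩)⟩)⟩)⟩)⟩)⟩)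

noncomputable def c_E1 : List Net := [c_g18, c_g12, c_g13, c_g14, c_g15, c_g22, c_g21, c_g23, c_g28, c_g29]

theorem c_E1_ok : okE 27 c_E1 = true := (okE_cons.2 ⟨c_g18_ok, (okE_cons.2 ⟨c_g12_ok, (okE_cons.2 ⟨c_g13_ok, (okE_cons.2 ⟨c_g14_ok, (okE_cons.2 ⟨c_g15_ok, (okE_cons.2 ⟨c_g22_ok, (okE_cons.2 ⟨c_g21_ok, (okE_cons.2 ⟨c_g23_ok, (okE_cons.2 ⟨c_g28_ok, (okE_cons.2 ⟨c_g29_ok, (okE_nil 27)⟩)⟩)⟩)⟩)⟩)⟩)⟩)⟩)⟩)⟩)

noncomputable def c_G0 : List Net := [c_g9, c_g18, c_g12, c_g13, c_g14, c_g15, c_g22, c_g21, c_g23, c_g28, c_g29]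

theorem c_G0_ok : okE 27 c_G0 = true := (okE_cons.2 ⟨c_g9_ok, (okE_cons.2 ⟨c_g18_ok, (okE_cons.2 ⟨c_g12_ok, (okE_cons.2 ⟨c_g13_ok, (okE_cons.2 ⟨c_g14_ok, (okE_cons.2 ⟨c_g15_ok, (okE_cons.2 ⟨c_g22_ok, (okE_cons.2 ⟨c_g21_ok, (okE_cons.2 ⟨c_g23_ok, (okE_cons.2 ⟨c_g28_ok, (okE_cons.2 ⟨c_g29_ok, (okE_nil 27)⟩)⟩)⟩)⟩)⟩)⟩)⟩)⟩)⟩)⟩)⟩)

noncomputable def c_E0 : List Net := [c_g9, c_g1, c_g2, c_g3, c_g4, c_g5, c_g6, c_g7, c_g8, c_g18, c_g12, c_g13, c_g14, c_g15, c_g22, c_g21, c_g23, c_g28, c_g29]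

theorem c_E0_ok : okE 27 c_E0 = true := (okE_cons.2 ⟨c_g9_ok, (okE_cons.2 ⟨c_g1_ok, (okE_cons.2 ⟨c_g2_ok, (okE_cons.2 ⟨c_g3_ok, (okE_cons.2 ⟨c_g4_ok, (okE_cons.2 ⟨c_g5_ok, (okE_cons.2 ⟨c_g6_ok, (okE_cons.2 ⟨c_g7_ok, (okE_cons.2 ⟨c_g8_ok, (okE_cons.2 ⟨c_g18_ok, (okE_cons.2 ⟨c_g12_ok, (okE_cons.2 ⟨c_g13_ok, (okE_cons.2 ⟨c_g14_ok, (okE_cons.2 ⟨c_g15_ok, (okE_cons.2 ⟨c_g22_ok, (okE_cons.2 ⟨c_g21_ok, (okE_cons.2 ⟨c_g23_ok, (okE_cons.2 ⟨c_g28_ok, (okE_cons.2 ⟨c_g29_ok, (okE_nil 27)⟩)⟩)⟩)⟩)⟩)⟩)⟩)⟩)⟩)⟩)⟩)⟩)⟩)⟩)⟩)⟩)⟩)⟩)⟩)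

theorem c_le11 : grp 27 c_V10 ≤ grp 27 c_O :=
  grp_le_of_memB c_hn c_hk c_O_ok c_V10_ok (ws := [nat_lit 0x70d0f07]) (by decide +kernel)

theorem c_le17 : grp 27 c_V16 ≤ grp 27 c_O :=
  grp_le_of_memB c_hn c_hk c_O_ok c_V16_ok (ws := [nat_lit 0x7090206080c0a0b01, nat_lit 0x7050e0f0c05070e0f0c08100e, nat_lit 0x701100a0c100c080a, nat_lit 0x10802080d070e050f050808]) (by decide +kernel)

theorem c_le20 : grp 27 c_V19 ≤ grp 27 c_V16 :=
  grp_le_of_memB c_hn c_hk c_V16_ok c_V19_ok (ws := [nat_lit 259]) (by decide +kernel)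

theorem c_le25 : grp 27 c_V24 ≤ grp 27 c_V16 :=
  grp_le_of_memB c_hn c_hk c_V16_ok c_V24_ok (ws := [nat_lit 0x301030507050106010402, nat_lit 0x5040107060702040803, nat_lit 0x7060206060205]) (by decide +kernel)

theorem c_le27 : grp 27 c_V26 ≤ grp 27 c_V24 :=
  grp_le_of_memB c_hn c_hk c_V24_ok c_V26_ok (ws := [nat_lit 3]) (by decide +kernel)

theorem c_le31 : grp 27 c_V30 ≤ grp 27 c_V24 :=
  grp_le_of_memB c_hn c_hk c_V24_ok c_V30_ok (ws := [nat_lit 0x10606020205, nat_lit 0x30504060602040204]) (by decide +kernel)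

theorem c_le33 : grp 27 c_V32 ≤ grp 27 c_V30 :=
  grp_le_of_memB c_hn c_hk c_V30_ok c_V32_ok (ws := [nat_lit 1]) (by decide +kernel)

theorem c_le35 : grp 27 c_V34 ≤ grp 27 c_V30 :=
  grp_le_of_memB c_hn c_hk c_V30_ok c_V34_ok (ws := [nat_lit 0x202030303030203, nat_lit 3]) (by decide +kernel)

theorem c_le37 : grp 27 c_V36 ≤ grp 27 c_V34 :=
  grp_le_of_memB c_hn c_hk c_V34_ok c_V36_ok (ws := [nat_lit 1]) (by decide +kernel)

theorem c_card5 : Nat.card (grp 27 c_E5) = 1 :=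
  card_grp_nil 27

theorem c_leO5 : grp 27 c_E5 ≤ grp 27 c_O :=
  grp_nil_le _

theorem c_4_fix : grp 27 c_E5 ≤ MulAction.stabilizer (Equiv.Perm (Fin 27)) (⟨8, by decide⟩ : Fin 27) :=
  grp_le_stab c_E5_ok (by decide : 8 < 27) (by decide +kernel)

noncomputable def c_4_ts : List ℕ := [nat_lit 0, nat_lit 1]

noncomputable def c_4_ds : List ℕ := [nat_lit 8, nat_lit 24]

theorem c_4_dist : Dist 27 c_E5 c_G4 (⟨8, by decide⟩ : Fin 27) c_4_ts c_4_ds :=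
  dist_of_distB (k := 1) c_hn c_E5_ok c_G4_ok (by decide : 8 < 27) (by decide +kernel)

noncomputable def c_4_sl0 : SL := (SL.cons (nat_lit 1) (nat_lit 24) Ch.nil [] SL.nil)

theorem c_4_sc0 : SCs 27 c_E5 c_G4 (⟨8, by decide⟩ : Fin 27) (SL.words c_4_sl0) :=
  scs_of_ok c_hn (det_lab c_hk ⊤) c_E5_ok c_G4_ok le_top le_top (by decide : 8 < 27) c_4_fix c_card5.le (by decide +kernel)

noncomputable def c_4_l : List ℕ := (appL (SL.words c_4_sl0) [])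

theorem c_4_scs : SCs 27 c_E5 c_G4 (⟨8, by decide⟩ : Fin 27) c_4_l :=
  (SCs.append c_4_sc0 SCs.nil)

noncomputable def c_4_rl0_0 : RL := (RL.cons (nat_lit 0) (nat_lit 8) (nat_lit 0) (nat_lit 0) (nat_lit 1) (nat_lit 0) (RL.cons (nat_lit 1) (nat_lit 24) (nat_lit 0) (nat_lit 0) (nat_lit 0) (nat_lit 0) RL.nil))

theorem c_4_good0_0 : GoodSet 27 c_E5 c_G4 (⟨8, by decide⟩ : Fin 27) c_4_ts (nat_lit 1) (RL.pts c_4_rl0_0) :=
  goodSet_of_ok c_hn (det_lab c_hk ⊤) c_E5_ok c_G4_ok le_top le_top (by decide : 8 < 27) (sepAt_lab c_hk _) (by decide +kernel)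

theorem c_4_step0 : Step 27 c_E5 c_G4 c_4_ts (2 * 0 + 1) :=
  step_of_cover c_E5_ok c_4_dist (by decide +kernel) c_4_scs (by decide +kernel) c_4_good0_0 (kw := [])
    (conj_mem_of_scs c_E5_ok c_G4_ok (by decide : 8 < 27) c_4_scs (c := 0) (d := 24) (by decide +kernel)) (by decide +kernel)

theorem c_4_lev : grp 27 c_G4 ⊓ MulAction.stabilizer (Equiv.Perm (Fin 27)) (⟨8, by decide⟩ : Fin 27) = grp 27 c_E5 :=
  sims_level (gs := c_V36) rfl (by decide) c_4_fix c_4_dist (forall_lt_one c_4_step0)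

theorem c_4_cardG : Nat.card (grp 27 c_G4) = 2 :=
  card_of_level c_hn c_G4_ok (by decide : 8 < 27) c_4_lev c_card5 (m := 2) (by decide +kernel)

theorem c_le38 : grp 27 c_E4 ≤ grp 27 c_G4 :=
  grp_le_of_memB c_hn c_hk c_G4_ok c_E4_ok (ws := [nat_lit 1]) (by decide +kernel)

theorem c_le39 : grp 27 c_G4 ≤ grp 27 c_E4 :=
  grp_le_of_memB c_hn c_hk c_E4_ok c_G4_ok (ws := [nat_lit 1]) (by decide +kernel)

theorem c_4_eq : grp 27 c_E4 = grp 27 c_G4 :=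
  le_antisymm c_le38 c_le39

theorem c_card4 : Nat.card (grp 27 c_E4) = 2 :=
  by rw [c_4_eq]; exact c_4_cardG

theorem c_stab4 : grp 27 c_E4 ⊓ MulAction.stabilizer (Equiv.Perm (Fin 27)) (⟨8, by decide⟩ : Fin 27) = grp 27 c_E5 :=
  by rw [c_4_eq]; exact c_4_lev

theorem c_leO4 : grp 27 c_E4 ≤ grp 27 c_O :=
  c_4_eq.le.trans (grp_cons_le ((c_le35.trans (c_le31.trans (c_le25.trans (c_le17.trans (le_refl (grp 27 c_O)))))) (c_le37 (toPerm_mem_grp (E := c_V36) (by simp [c_V36])))) c_leO5)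

theorem c_3_fix : grp 27 c_E4 ≤ MulAction.stabilizer (Equiv.Perm (Fin 27)) (⟨9, by decide⟩ : Fin 27) :=
  grp_le_stab c_E4_ok (by decide : 9 < 27) (by decide +kernel)

noncomputable def c_3_ts : List ℕ := [nat_lit 0, nat_lit 1, nat_lit 2, nat_lit 66306]

noncomputable def c_3_ds : List ℕ := [nat_lit 9, nat_lit 8, nat_lit 23, nat_lit 25]

theorem c_3_dist : Dist 27 c_E4 c_G3 (⟨9, by decide⟩ : Fin 27) c_3_ts c_3_ds :=
  dist_of_distB (k := 2) c_hn c_E4_ok c_G3_ok (by decide : 9 < 27) (by decide +kernel)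

noncomputable def c_3_sl0 : SL := (SL.cons (nat_lit 1) (nat_lit 8) Ch.nil [] (SL.cons (nat_lit 2) (nat_lit 23) Ch.nil [] (SL.cons (nat_lit 66306) (nat_lit 25) (Ch.cons (nat_lit 1) [nat_lit 1] Ch.nil) [nat_lit 1] SL.nil)))

theorem c_3_sc0 : SCs 27 c_E4 c_G3 (⟨9, by decide⟩ : Fin 27) (SL.words c_3_sl0) :=
  scs_of_ok c_hn (det_lab c_hk ⊤) c_E4_ok c_G3_ok le_top le_top (by decide : 9 < 27) c_3_fix c_card4.le (by decide +kernel)

noncomputable def c_3_l : List ℕ := (appL (SL.words c_3_sl0) [])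

theorem c_3_scs : SCs 27 c_E4 c_G3 (⟨9, by decide⟩ : Fin 27) c_3_l :=
  (SCs.append c_3_sc0 SCs.nil)

noncomputable def c_3_rl0_0 : RL := (RL.cons (nat_lit 0) (nat_lit 9) (nat_lit 0) (nat_lit 0) (nat_lit 2) (nat_lit 0) (RL.cons (nat_lit 1) (nat_lit 8) (nat_lit 0) (nat_lit 0) (nat_lit 0) (nat_lit 0) (RL.cons (nat_lit 1) (nat_lit 24) (nat_lit 1) (nat_lit 0) (nat_lit 3) (nat_lit 0) (RL.cons (nat_lit 2) (nat_lit 23) (nat_lit 0) (nat_lit 0) (nat_lit 1) (nat_lit 0) (RL.cons (nat_lit 2) (nat_lit 7) (nat_lit 1) (nat_lit 1) (nat_lit 1) (nat_lit 1) (RL.cons (nat_lit 3) (nat_lit 25) (nat_lit 0) (nat_lit 1) (nat_lit 2) (nat_lit 1) RL.nil))))))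

theorem c_3_good0_0 : GoodSet 27 c_E4 c_G3 (⟨9, by decide⟩ : Fin 27) c_3_ts (nat_lit 1) (RL.pts c_3_rl0_0) :=
  goodSet_of_ok c_hn (det_lab c_hk ⊤) c_E4_ok c_G3_ok le_top le_top (by decide : 9 < 27) (sepAt_lab c_hk _) (by decide +kernel)

theorem c_3_step0 : Step 27 c_E4 c_G3 c_3_ts (2 * 0 + 1) :=
  step_of_cover c_E4_ok c_3_dist (by decide +kernel) c_3_scs (by decide +kernel) c_3_good0_0 (kw := [])
    (conj_mem_of_scs c_E4_ok c_G3_ok (by decide : 9 < 27) c_3_scs (c := 0) (d := 8) (by decide +kernel)) (by decide +kernel)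

theorem c_3_lev : grp 27 c_G3 ⊓ MulAction.stabilizer (Equiv.Perm (Fin 27)) (⟨9, by decide⟩ : Fin 27) = grp 27 c_E4 :=
  sims_level (gs := c_V32) rfl (by decide) c_3_fix c_3_dist (forall_lt_one c_3_step0)

theorem c_3_cardG : Nat.card (grp 27 c_G3) = 12 :=
  card_of_level c_hn c_G3_ok (by decide : 9 < 27) c_3_lev c_card4 (m := 6) (by decide +kernel)

theorem c_le40 : grp 27 c_E3 ≤ grp 27 c_G3 :=
  grp_le_of_memB c_hn c_hk c_G3_ok c_E3_ok (ws := [nat_lit 1, nat_lit 3]) (by decide +kernel)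

theorem c_le41 : grp 27 c_G3 ≤ grp 27 c_E3 :=
  grp_le_of_memB c_hn c_hk c_E3_ok c_G3_ok (ws := [nat_lit 1, nat_lit 3]) (by decide +kernel)

theorem c_3_eq : grp 27 c_E3 = grp 27 c_G3 :=
  le_antisymm c_le40 c_le41

theorem c_card3 : Nat.card (grp 27 c_E3) = 12 :=
  by rw [c_3_eq]; exact c_3_cardG

theorem c_stab3 : grp 27 c_E3 ⊓ MulAction.stabilizer (Equiv.Perm (Fin 27)) (⟨9, by decide⟩ : Fin 27) = grp 27 c_E4 :=
  by rw [c_3_eq]; exact c_3_lev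

theorem c_leO3 : grp 27 c_E3 ≤ grp 27 c_O :=
  c_3_eq.le.trans (grp_cons_le ((c_le31.trans (c_le25.trans (c_le17.trans (le_refl (grp 27 c_O))))) (c_le33 (toPerm_mem_grp (E := c_V32) (by simp [c_V32])))) c_leO4)

theorem c_2_fix : grp 27 c_E3 ≤ MulAction.stabilizer (Equiv.Perm (Fin 27)) (⟨6, by decide⟩ : Fin 27) :=
  grp_le_stab c_E3_ok (by decide : 6 < 27) (by decide +kernel)

noncomputable def c_2_ts : List ℕ := [nat_lit 0, nat_lit 1, nat_lit 65793]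

noncomputable def c_2_ds : List ℕ := [nat_lit 6, nat_lit 9, nat_lit 22]

theorem c_2_dist : Dist 27 c_E3 c_G2 (⟨6, by decide⟩ : Fin 27) c_2_ts c_2_ds :=
  dist_of_distB (k := 2) c_hn c_E3_ok c_G2_ok (by decide : 6 < 27) (by decide +kernel)

noncomputable def c_2_sl0 : SL := (SL.cons (nat_lit 1) (nat_lit 9) (Ch.cons (nat_lit 8) [nat_lit 3] Ch.nil) [nat_lit 66306] (SL.cons (nat_lit 65793) (nat_lit 22) (Ch.cons (nat_lit 7) [nat_lit 2] (Ch.cons (nat_lit 1) [nat_lit 66306] Ch.nil)) [nat_lit 2, nat_lit 66306] SL.nil))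

theorem c_2_sc0 : SCs 27 c_E3 c_G2 (⟨6, by decide⟩ : Fin 27) (SL.words c_2_sl0) :=
  scs_of_ok c_hn (det_lab c_hk ⊤) c_E3_ok c_G2_ok le_top le_top (by decide : 6 < 27) c_2_fix c_card3.le (by decide +kernel)

noncomputable def c_2_l : List ℕ := (appL (SL.words c_2_sl0) [])

theorem c_2_scs : SCs 27 c_E3 c_G2 (⟨6, by decide⟩ : Fin 27) c_2_l :=
  (SCs.append c_2_sc0 SCs.nil)

noncomputable def c_2_rl0_0 : RL := (RL.cons (nat_lit 0) (nat_lit 6) (nat_lit 0) (nat_lit 2) (nat_lit 1) (nat_lit 2) (RL.cons (nat_lit 1) (nat_lit 9) (nat_lit 0) (nat_lit 0) (nat_lit 0) (nat_lit 0) (RL.cons (nat_lit 1) (nat_lit 8) (nat_lit 1) (nat_lit 259) (nat_lit 1) (nat_lit 197123) (RL.cons (nat_lit 1) (nat_lit 23) (nat_lit 2) (nat_lit 66306) (nat_lit 1) (nat_lit 769) (RL.cons (nat_lit 1) (nat_lit 25) (nat_lit 66306) (nat_lit 0) (nat_lit 2) (nat_lit 0x3010302) (RL.cons (nat_lit 2) (nat_lit 22)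 (nat_lit 0) (nat_lit 515) (nat_lit 1) (nat_lit 515) RL.nil))))))

theorem c_2_good0_0 : GoodSet 27 c_E3 c_G2 (⟨6, by decide⟩ : Fin 27) c_2_ts (nat_lit 1) (RL.pts c_2_rl0_0) :=
  goodSet_of_ok c_hn (det_lab c_hk ⊤) c_E3_ok c_G2_ok le_top le_top (by decide : 6 < 27) (sepAt_lab c_hk _) (by decide +kernel)

theorem c_2_step0 : Step 27 c_E3 c_G2 c_2_ts (2 * 0 + 1) :=
  step_of_cover c_E3_ok c_2_dist (by decide +kernel) c_2_scs (by decide +kernel) c_2_good0_0 (kw := [nat_lit 3])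
    (conj_mem_of_scs c_E3_ok c_G2_ok (by decide : 6 < 27) c_2_scs (c := 0) (d := 9) (by decide +kernel)) (by decide +kernel)

theorem c_2_lev : grp 27 c_G2 ⊓ MulAction.stabilizer (Equiv.Perm (Fin 27)) (⟨6, by decide⟩ : Fin 27) = grp 27 c_E3 :=
  sims_level (gs := c_V26) rfl (by decide) c_2_fix c_2_dist (forall_lt_one c_2_step0)

theorem c_2_cardG : Nat.card (grp 27 c_G2) = 96 :=
  card_of_level c_hn c_G2_ok (by decide : 6 < 27) c_2_lev c_card3 (m := 8) (by decide +kernel)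

theorem c_le42 : grp 27 c_E2 ≤ grp 27 c_G2 :=
  grp_le_of_memB c_hn c_hk c_G2_ok c_E2_ok (ws := [nat_lit 1, nat_lit 1029, nat_lit 0x5030504, nat_lit 3, nat_lit 5]) (by decide +kernel)

theorem c_le43 : grp 27 c_G2 ≤ grp 27 c_E2 :=
  grp_le_of_memB c_hn c_hk c_E2_ok c_G2_ok (ws := [nat_lit 1, nat_lit 7, nat_lit 9]) (by decide +kernel)

theorem c_2_eq : grp 27 c_E2 = grp 27 c_G2 :=
  le_antisymm c_le42 c_le43

theorem c_card2 : Nat.card (grp 27 c_E2) = 96 :=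
  by rw [c_2_eq]; exact c_2_cardG

theorem c_stab2 : grp 27 c_E2 ⊓ MulAction.stabilizer (Equiv.Perm (Fin 27)) (⟨6, by decide⟩ : Fin 27) = grp 27 c_E3 :=
  by rw [c_2_eq]; exact c_2_lev

theorem c_leO2 : grp 27 c_E2 ≤ grp 27 c_O :=
  c_2_eq.le.trans (grp_cons_le ((c_le25.trans (c_le17.trans (le_refl (grp 27 c_O)))) (c_le27 (toPerm_mem_grp (E := c_V26) (by simp [c_V26])))) c_leO3)

theorem c_1_fix : grp 27 c_E2 ≤ MulAction.stabilizer (Equiv.Perm (Fin 27)) (⟨10, by decide⟩ : Fin 27) :=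
  grp_le_stab c_E2_ok (by decide : 10 < 27) (by decide +kernel)

noncomputable def c_1_ts : List ℕ := [nat_lit 0, nat_lit 1, nat_lit 132865]

noncomputable def c_1_ds : List ℕ := [nat_lit 10, nat_lit 6, nat_lit 26]

theorem c_1_dist : Dist 27 c_E2 c_G1 (⟨10, by decide⟩ : Fin 27) c_1_ts c_1_ds :=
  dist_of_distB (k := 2) c_hn c_E2_ok c_G1_ok (by decide : 10 < 27) (by decide +kernel)

noncomputable def c_1_sl0 : SL := (SL.cons (nat_lit 1) (nat_lit 6) (Ch.cons (nat_lit 9) [nat_lit 7] (Ch.cons (nat_lit 8) [nat_lit 9] Ch.nil)) [nat_lit 0x7090105, nat_lit 461064] (SL.cons (nat_lit 132865) (nat_lit 26) (Ch.cons (nat_lit 1) [nat_lit 7] (Ch.cons (nat_lit 2) [nat_lit 2311] (Ch.cons (nat_lit 3) [nat_lit 461058] Ch.nil))) [nat_lit 1801, nat_lit 591625, nat_lit 1794] SL.nil))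

theorem c_1_sc0 : SCs 27 c_E2 c_G1 (⟨10, by decide⟩ : Fin 27) (SL.words c_1_sl0) :=
  scs_of_ok c_hn (det_lab c_hk ⊤) c_E2_ok c_G1_ok le_top le_top (by decide : 10 < 27) c_1_fix c_card2.le (by decide +kernel)

noncomputable def c_1_l : List ℕ := (appL (SL.words c_1_sl0) [])

theorem c_1_scs : SCs 27 c_E2 c_G1 (⟨10, by decide⟩ : Fin 27) c_1_l :=
  (SCs.append c_1_sc0 SCs.nil)

noncomputable def c_1_rl0_0 : RL := (RL.cons (nat_lit 0) (nat_lit 10) (nat_lit 0) (nat_lit 2) (nat_lit 1) (nat_lit 2) (RL.cons (nat_lit 1) (nat_lit 6) (nat_lit 0) (nat_lit 0) (nat_lit 0) (nat_lit 0) (RL.cons (nat_lit 1) (nat_lit 9) (nat_lit 1) (nat_lit 0) (nat_lit 1) (nat_lit 0x908090105) (RL.cons (nat_lit 1) (nat_lit 22) (nat_lit 65793) (nat_lit 0) (nat_lit 2) (nat_lit 0x9010101) (RL.cons (nat_lit 2) (nat_lit 26) (nat_lit 0) (nat_lit 257) (nat_lit 1) (nat_lit 0x907090802) RL.nil)))))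

theorem c_1_good0_0 : GoodSet 27 c_E2 c_G1 (⟨10, by decide⟩ : Fin 27) c_1_ts (nat_lit 1) (RL.pts c_1_rl0_0) :=
  goodSet_of_ok c_hn (det_lab c_hk ⊤) c_E2_ok c_G1_ok le_top le_top (by decide : 10 < 27) (sepAt_lab c_hk _) (by decide +kernel)

theorem c_1_step0 : Step 27 c_E2 c_G1 c_1_ts (2 * 0 + 1) :=
  step_of_cover c_E2_ok c_1_dist (by decide +kernel) c_1_scs (by decide +kernel) c_1_good0_0 (kw := [nat_lit 7, nat_lit 9])
    (conj_mem_of_scs c_E2_ok c_G1_ok (by decide : 10 < 27) c_1_scs (c := 0) (d := 6) (by decide +kernel)) (by decide +kernel)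

theorem c_1_lev : grp 27 c_G1 ⊓ MulAction.stabilizer (Equiv.Perm (Fin 27)) (⟨10, by decide⟩ : Fin 27) = grp 27 c_E2 :=
  sims_level (gs := c_V19) rfl (by decide) c_1_fix c_1_dist (forall_lt_one c_1_step0)

theorem c_1_cardG : Nat.card (grp 27 c_G1) = 960 :=
  card_of_level c_hn c_G1_ok (by decide : 10 < 27) c_1_lev c_card2 (m := 10) (by decide +kernel)

theorem c_le44 : grp 27 c_E1 ≤ grp 27 c_G1 :=
  grp_le_of_memB c_hn c_hk c_G1_ok c_E1_ok (ws := [nat_lit 1, nat_lit 0xb090b0306020402, nat_lit 0xb090b03060204, nat_lit 0xb0903030207, nat_lit 0xb030303020701, nat_lit 3, nat_lit 5, nat_lit 7, nat_lit 9, nat_lit 11]) (by decide +kernel)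

theorem c_le45 : grp 27 c_G1 ≤ grp 27 c_E1 :=
  grp_le_of_memB c_hn c_hk c_E1_ok c_G1_ok (ws := [nat_lit 1, nat_lit 11, nat_lit 13, nat_lit 15, nat_lit 17, nat_lit 19]) (by decide +kernel)

theorem c_1_eq : grp 27 c_E1 = grp 27 c_G1 :=
  le_antisymm c_le44 c_le45

theorem c_card1 : Nat.card (grp 27 c_E1) = 960 :=
  by rw [c_1_eq]; exact c_1_cardG

theorem c_stab1 : grp 27 c_E1 ⊓ MulAction.stabilizer (Equiv.Perm (Fin 27)) (⟨10, by decide⟩ : Fin 27) = grp 27 c_E2 :=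
  by rw [c_1_eq]; exact c_1_lev

theorem c_leO1 : grp 27 c_E1 ≤ grp 27 c_O :=
  c_1_eq.le.trans (grp_cons_le ((c_le17.trans (le_refl (grp 27 c_O))) (c_le20 (toPerm_mem_grp (E := c_V19) (by simp [c_V19])))) c_leO2)

theorem c_0_fix : grp 27 c_E1 ≤ MulAction.stabilizer (Equiv.Perm (Fin 27)) (⟨0, by decide⟩ : Fin 27) :=
  grp_le_stab c_E1_ok (by decide : 0 < 27) (by decide +kernel)

noncomputable def c_0_ts : List ℕ := [nat_lit 0, nat_lit 1, nat_lit 257]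

noncomputable def c_0_ds : List ℕ := [nat_lit 0, nat_lit 10, nat_lit 13]

theorem c_0_dist : Dist 27 c_E1 c_G0 (⟨0, by decide⟩ : Fin 27) c_0_ts c_0_ds :=
  dist_of_distB (k := 2) c_hn c_E1_ok c_G0_ok (by decide : 0 < 27) (by decide +kernel)

noncomputable def c_0_sl0 : SL := (SL.cons (nat_lit 1) (nat_lit 10) (Ch.cons (nat_lit 6) [nat_lit 11, nat_lit 13, nat_lit 15] (Ch.cons (nat_lit 9) [nat_lit 17] (Ch.cons (nat_lit 8) [nat_lit 19] Ch.nil))) [nat_lit 724487, nat_lit 0x120b0f01, nat_lit 0x130c01, nat_lit 0x1311130c0d07, nat_lit 4871] (SL.cons (nat_lit 257) (nat_lit 13) (Ch.cons (nat_lit 2) [nat_lit 0x130b07] (Ch.cons (nat_lit 3) [nat_lit 4876, nat_lit 0x120b0b0b06] Ch.nil)) [nat_lit 0x1311130b0b07, nat_lit 2830, nat_lit 0x13110b0f05] SL.nil))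

theorem c_0_sc0 : SCs 27 c_E1 c_G0 (⟨0, by decide⟩ : Fin 27) (SL.words c_0_sl0) :=
  scs_of_ok c_hn (det_lab c_hk ⊤) c_E1_ok c_G0_ok le_top le_top (by decide : 0 < 27) c_0_fix c_card1.le (by decide +kernel)

noncomputable def c_0_l : List ℕ := (appL (SL.words c_0_sl0) [])

theorem c_0_scs : SCs 27 c_E1 c_G0 (⟨0, by decide⟩ : Fin 27) c_0_l :=
  (SCs.append c_0_sc0 SCs.nil)

noncomputable def c_0_rl0_0 : RL := (RL.cons (nat_lit 0) (nat_lit 0) (nat_lit 0) (nat_lit 257) (nat_lit 1) (nat_lit 0x1113120b0101) (RL.cons (nat_lit 1) (nat_lit 10) (nat_lit 0) (nat_lit 0) (nat_lit 0) (nat_lit 0) (RL.cons (nat_lit 1) (nat_lit 6) (nat_lit 1) (nat_lit 267) (nat_lit 2) (nat_lit 4867) (RL.cons (nat_lit 1) (nat_lit 26) (nat_lit 9) (nat_lit 5) (nat_lit 1) (nat_lit 0x1113120c01) (RL.cons (nat_lit 2) (nat_lit 13) (nat_lit 0) (nat_lit 0) (nat_lit 1) (nat_lit 0) (RL.cons (nat_lit 2) (nat_lit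 20) (nat_lit 1) (nat_lit 1) (nat_lit 2) (nat_lit 0x131113120b0b06) RL.nil))))))

theorem c_0_good0_0 : GoodSet 27 c_E1 c_G0 (⟨0, by decide⟩ : Fin 27) c_0_ts (nat_lit 1) (RL.pts c_0_rl0_0) :=
  goodSet_of_ok c_hn (det_lab c_hk ⊤) c_E1_ok c_G0_ok le_top le_top (by decide : 0 < 27) (sepAt_lab c_hk _) (by decide +kernel)

theorem c_0_step0 : Step 27 c_E1 c_G0 c_0_ts (2 * 0 + 1) :=
  step_of_cover c_E1_ok c_0_dist (by decide +kernel) c_0_scs (by decide +kernel) c_0_good0_0 (kw := [nat_lit 11, nat_lit 13, nat_lit 15, nat_lit 17, nat_lit 19])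
    (conj_mem_of_scs c_E1_ok c_G0_ok (by decide : 0 < 27) c_0_scs (c := 0) (d := 10) (by decide +kernel)) (by decide +kernel)

theorem c_0_lev : grp 27 c_G0 ⊓ MulAction.stabilizer (Equiv.Perm (Fin 27)) (⟨0, by decide⟩ : Fin 27) = grp 27 c_E1 :=
  sims_level (gs := c_V10) rfl (by decide) c_0_fix c_0_dist (forall_lt_one c_0_step0)

theorem c_0_cardG : Nat.card (grp 27 c_G0) = 25920 :=
  card_of_level c_hn c_G0_ok (by decide : 0 < 27) c_0_lev c_card1 (m := 27) (by decide +kernel)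

theorem c_le46 : grp 27 c_E0 ≤ grp 27 c_G0 :=
  grp_le_of_memB c_hn c_hk c_G0_ok c_E0_ok (ws := [nat_lit 1, nat_lit 0x151315140b, nat_lit 918282, nat_lit 5385, nat_lit 0x1315140107, nat_lit 0x13150d0d08, nat_lit 0x1513150d0d04, nat_lit 0x14150d100b01010e, nat_lit 0x151315140d0d0d0b, nat_lit 3, nat_lit 5, nat_lit 7, nat_lit 9, nat_lit 11, nat_lit 13, nat_lit 15, nat_lit 17, nat_lit 19, nat_lit 21]) (by decide +kernel)

theorem c_le47 : grp 27 c_G0 ≤ grp 27 c_E0 :=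
  grp_le_of_memB c_hn c_hk c_E0_ok c_G0_ok (ws := [nat_lit 1, nat_lit 19, nat_lit 21, nat_lit 23, nat_lit 25, nat_lit 27, nat_lit 29, nat_lit 31, nat_lit 33, nat_lit 35, nat_lit 37]) (by decide +kernel)

theorem c_0_eq : grp 27 c_E0 = grp 27 c_G0 :=
  le_antisymm c_le46 c_le47

theorem c_card0 : Nat.card (grp 27 c_E0) = 25920 :=
  by rw [c_0_eq]; exact c_0_cardG

theorem c_stab0 : grp 27 c_E0 ⊓ MulAction.stabilizer (Equiv.Perm (Fin 27)) (⟨0, by decide⟩ : Fin 27) = grp 27 c_E1 :=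
  by rw [c_0_eq]; exact c_0_lev

theorem c_leO0 : grp 27 c_E0 ≤ grp 27 c_O :=
  c_0_eq.le.trans (grp_cons_le ((le_refl (grp 27 c_O)) (c_le11 (toPerm_mem_grp (E := c_V10) (by simp [c_V10])))) c_leO1)

theorem c_le48 : grp 27 c_O ≤ grp 27 c_E0 :=
  grp_le_of_memB c_hn c_hk c_E0_ok c_O_ok (ws := [nat_lit 3, nat_lit 5, nat_lit 7, nat_lit 9, nat_lit 11, nat_lit 13, nat_lit 15, nat_lit 17]) (by decide +kernel)

theorem c_eq : grp 27 c_O = grp 27 c_E0 :=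
  le_antisymm c_le48 c_leO0

theorem c_card : Nat.card (grp 27 c_O) = 25920 :=
  by rw [c_eq]; exact c_card0

noncomputable def c_ch : Ch := (Ch.cons (nat_lit 0) [nat_lit 1, nat_lit 3, nat_lit 5, nat_lit 7, nat_lit 9, nat_lit 11, nat_lit 13, nat_lit 15, nat_lit 17] (Ch.cons (nat_lit 10) [nat_lit 19, nat_lit 21, nat_lit 23, nat_lit 25, nat_lit 27] (Ch.cons (nat_lit 6) [nat_lit 29, nat_lit 31, nat_lit 33] (Ch.cons (nat_lit 9) [nat_lit 35] (Ch.cons (nat_lit 8) [nat_lit 37] Ch.nil)))))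

theorem c_exact : Ch.Exact 27 c_E0 c_ch (grp 27 c_E0) :=
  Ch.exact (k := 5) (L := (lab 27 5)) c_hn c_E0_ok (by decide +kernel) (wgrp_le_grp _ _ _) c_card0.le

theorem raw_c : Raw2 2 := raw c_hn c_hk c_O_ok c_card (by decide +kernel)

theorem raw2 : ∀ k, Raw2 k := fun k => by
  fin_cases k
  exacts [raw_a, raw_b, raw_c]

end Cfsg.Agent.H28.U4R2
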