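import Mathlib
import Cfsg.Agent.H28.U6Defs
import Cfsg.Agent.H34.UKit0

/-! # The group `U₆(2)`: the basic calculus (copy of `H34.UKit0`) -/

set_option autoImplicit false
set_option linter.unusedSectionVars false
set_option linter.style.haveILetI false

namespace Cfsg.Agent.H28.U6

open Cfsg Cfsg.Agent.H63 Cfsg.Agent.H63.SL Cfsg.Agent.H34 Cfsg.Agent.H34.TW Cfsg.Agent.H34.UM
  Cfsg.Agent.H31 Subgroup Module
open Cfsg.Agent.H27.End (mem_C comm_of_C eq_one_of_is2 is2_of_sq)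
open scoped commutatorElement

universe u v

variable {F E V : Type v} [Field F] [Field E] [AddCommGroup V] [Module E V] {i : F →+* E}
  {σ : E ≃+* E} {B : V →ₛₗ[(σ : E →+* E)] V →ₗ[E] E} {G : Type u} [Group G] {φ : sisom B →* G}
  {L : Subgroup G}

namespace UCtx

variable (c : UCtx i φ L)
include c

theorem herm : IsHerm B := c.mod.herm

theorem symm (x y : V) : σ (B x y) = B y x := c.herm.symm x y

theorem flip {x y : V} (h : B x y = 0) : B y x = 0 := c.herm.toIsHermSymm.flip_zero h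

theorem flip1 {x y : V} (h : B x y = 1) : B y x = 1 := c.herm.toIsHermSymm.flip_one h

theorem add_self (x : V) : x + x = 0 := by rw [← two_smul E, c.qf.two, zero_smul]

theorem sub_eq (x y : V) : x - y = x + y := by
  rw [sub_eq_add_neg, neg_eq_of_add_eq_zero_left (c.add_self y)]

theorem four : 4 ≤ finrank E V := c.dim.elim (·.2) fun h => by have := h.2; omega

theorem mem (s : sisom B) : φ s ∈ L := c.mod.rng ▸ ⟨s, rfl⟩

theorem surj {g : G} (h : g ∈ L) : ∃ s, φ s = g := by rwa [← c.mod.rng] at h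

theorem iso_add {u w : V} (hu : B u u = 0) (hw : B w w = 0) (h : B u w = 0) : B (u + w) (u + w) = 0 := by
  simp [hu, hw, h, c.flip h]

theorem θ_σ {f : V ≃+ V} {θ : E ≃+* E} (h : Semi B f θ) (a : E) : θ (σ a) = σ (θ a) := by
  have : Nontrivial V := Module.nontrivial_of_finrank_pos (R := E) (by have := c.four; omega)
  obtain ⟨x, hx⟩ := exists_ne (0 : V)
  obtain ⟨y, hy⟩ := c.herm.exists_eq_one hx
  have h1 : B x (a • y) = a := by rw [sm_right, hy, mul_one]
  rw [← h1, c.symm, ← h.form, ← h.form, c.symm]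

theorem θ_i {f : V ≃+ V} {θ : E ≃+* E} (h : Semi B f θ) (a : F) : ∃ b, i b = θ (i a) :=
  ((c.qf.fix _).1 (by rw [← c.θ_σ h, c.qf.σ_i])).imp fun _ e => e.symm

variable [FiniteDimensional E V]

/-- An isometry of order a power of two is special. -/
theorem mk2 (f : V →ₗ[E] V) (h : ∀ x y, B (f x) (f y) = B x y) {k : ℕ} (e : f ^ 2 ^ k = 1) :
    ∃ s : sisom B, ∀ x, s.1 x = f x := by
  have hi : Function.Injective f := (injective_iff_map_eq_zero f).2 fun x hx =>
    c.herm.nondeg x fun y => by rw [← h, hx]; simp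
  refine ⟨⟨LinearEquiv.ofInjectiveEndo f hi, mem_sisom'.2 ⟨h, c.qf.eq_one_of_pow (k := k) ?_⟩⟩,
    fun _ => rfl⟩
  change LinearMap.det f ^ _ = 1
  rw [← map_pow, e, map_one]

theorem tt {v : V} (hv : B v v = 0) (a : F) :
    ∃ s : sisom B, (∀ x, s.1 x = x + (i a * B v x) • v) ∧ φ s = TT i φ v a := by
  have h : i a + (σ : E →+* E) (i a) = 0 := by
    rw [RingHom.coe_coe, c.qf.σ_i, c.qf.add_self]
  exact ⟨⟨_, c.herm.toIsHermSymm.tv_mem_sisom hv h⟩, fun _ => rfl, (el_eq _ fun _ => rfl).symm⟩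

theorem ee {v w : V} {d : E} (h1 : B v v = 0) (h2 : B v w = 0) (h3 : d + σ d = B w w) :
    ∃ s : sisom B, (∀ x, s.1 x = x + B v x • w + B w x • v + (d * B v x) • v) ∧ φ s = EE φ v w d := by
  have h4 := c.flip h2
  let f : V →ₗ[E] V := LinearMap.id + (B v).smulRight w + (B w).smulRight v + (d • B v).smulRight v
  have hf : ∀ x, f x = x + B v x • w + B w x • v + (d * B v x) • v := fun _ => rfl
  have h5 : ∀ x, f (f x) = x + (B w w * B v x) • v := fun x => by
    rw [hf (f x), hf x]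
    simp only [map_add, map_smul, h1, h2, h4, smul_eq_mul, mul_zero, add_zero]
    linear_combination (norm := module) c.add_self (B v x • w + B w x • v + (d * B v x) • v)
  obtain ⟨s, hs⟩ := c.mk2 f (fun x y => by
    simp only [hf, map_add, LinearMap.add_apply, sm_left, sm_right, h1, h2, h4, map_mul, c.symm]
    linear_combination (B x v * B v y) * h3 + (B v y * B x w + B w y * B x v + B x v * B v y * B w w) * c.qf.two)
    (k := 2) (LinearMap.ext fun x => by
      change f (f (f (f x))) = x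
      rw [h5, h5]
      simp only [map_add, map_smul, h1, smul_eq_mul, mul_zero, add_zero, add_assoc, c.add_self])
  exact ⟨s, fun x => (hs x).trans (hf x), (el_eq s fun x => (hs x).trans (hf x)).symm⟩

omit [FiniteDimensional E V] in
theorem scal {s : sisom B} (h : φ s ∈ C[L]) : ∃ d : E, d * σ d = 1 ∧ ∀ x, s.1 x = d • x := by
  obtain ⟨d, hd⟩ := c.mod.ker s h
  have : Nontrivial V := Module.nontrivial_of_finrank_pos (R := E) (by have := c.four; omega)
  obtain ⟨x, hx⟩ := exists_ne (0 : V)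
  obtain ⟨y, hy⟩ := c.herm.exists_eq_one hx
  have := iso_map s x y
  rw [hd, hd, sm_left, sm_right, hy] at this
  exact ⟨d, by linear_combination this, hd⟩

omit [FiniteDimensional E V] in
theorem mem_C_of_scal {s : sisom B} {d : E} (h : ∀ x, s.1 x = d • x) : φ s ∈ C[L] :=
  mem_C fun g hg => by
    obtain ⟨s', rfl⟩ := c.surj hg
    exact Commute.map (s_ext fun x => by rw [mul_app, mul_app, h, h, map_smul]) φ

variable [Finite E]

omit [FiniteDimensional E V] in
theorem pow_of_C {s : sisom B} (h : φ s ∈ C[L]) : s ^ (Nat.card F + 1) = 1 := by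
  obtain ⟨d, h1, h2⟩ := c.scal h
  have : ∀ n : ℕ, ∀ x, (s ^ n).1 x = d ^ n • x := fun n => by
    induction n with
    | zero => simp
    | succ n ih => intro x; rw [pow_succ, mul_app, ih, h2, smul_smul, pow_succ]
  exact s_ext fun x => by rw [this, c.qf.pow_of_norm h1, one_smul]; rfl

omit [FiniteDimensional E V] in
theorem odd_of_C {s : sisom B} (h : φ s ∈ C[L]) : Odd (orderOf s) :=
  c.qf.even_card.add_one.of_dvd_nat (orderOf_dvd_of_pow_eq_one (c.pow_of_C h))

omit [FiniteDimensional E V] in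
theorem zodd : ∀ z ∈ Z[L], Odd (orderOf z) := fun z hz => by
  obtain ⟨s, rfl⟩ := c.surj hz.1
  exact (c.odd_of_C hz.2).of_dvd_nat (orderOf_map_dvd φ s)

omit [FiniteDimensional E V] in
theorem one {s : sisom B} (h2 : Is2 s) (h : φ s ∈ C[L]) : s = 1 := eq_one_of_is2 h2 (c.odd_of_C h)

omit [FiniteDimensional E V] in
/-- `φ` is injective on `2`-elements. -/
theorem inj2 {s s' : sisom B} (h : Is2 s) (h' : Is2 s') (e : φ s = φ s') : s = s' := by
  have h1 : φ (s⁻¹ * s') ∈ C[L] := by rw [map_mul, map_inv, e, inv_mul_cancel]; exact one_mem _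
  obtain ⟨d, -, hd⟩ := c.scal h1
  have h2 : Commute s (s⁻¹ * s') := s_ext fun x => by rw [mul_app, mul_app _ s, hd, hd, map_smul]
  obtain ⟨k, hk⟩ := h
  obtain ⟨k', hk'⟩ := h'
  refine inv_mul_eq_one.1 (c.one ⟨k + k', ?_⟩ h1)
  have h3 := h2.mul_pow (2 ^ (k + k'))
  rw [mul_inv_cancel_left, pow_add, mul_comm, pow_mul, hk', one_pow, mul_comm, pow_mul s, hk, one_pow,
    one_mul] at h3
  rw [pow_add]; exact h3.symm

omit [FiniteDimensional E V] in
theorem lift2 {g : G} (h : g ∈ L) (h2 : Is2 g) : ∃ s, Is2 s ∧ φ s = g := by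
  obtain ⟨s, rfl⟩ := c.surj h
  obtain ⟨k, hk⟩ := h2
  have h1 := c.pow_of_C (s := s ^ 2 ^ k) (by rw [map_pow, hk]; exact one_mem _)
  obtain ⟨n, hn⟩ : ∃ n, (Nat.card F + 1) * n % 2 ^ k = 1 % 2 ^ k := by
    rcases (Nat.one_le_two_pow (n := k)).eq_or_lt with e | e
    · exact ⟨0, by rw [← e, Nat.mod_one, Nat.mod_one]⟩
    · obtain ⟨n, -, hn⟩ := Nat.exists_mul_mod_eq_one_of_coprime
        (c.qf.even_card.add_one.coprime_two_right.pow_right k) e
      exact ⟨n, by rw [hn, Nat.mod_eq_of_lt e]⟩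
  refine ⟨s ^ ((Nat.card F + 1) * n), ⟨k, ?_⟩, ?_⟩
  · rw [← pow_mul, mul_comm, ← mul_assoc, pow_mul, pow_mul, h1, one_pow]
  · rw [map_pow, pow_eq_pow_mod _ hk, hn, ← pow_eq_pow_mod _ hk, pow_one]

/-! ### Transvections -/

theorem TT_mem {v : V} (hv : B v v = 0) (a : F) : TT i φ v a ∈ L := by
  obtain ⟨s, -, e⟩ := c.tt hv a
  exact e ▸ c.mem s

theorem TT_add {v : V} (hv : B v v = 0) (a b : F) : TT i φ v (a + b) = TT i φ v a * TT i φ v b := by
  obtain ⟨s, h, e⟩ := c.tt hv a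
  obtain ⟨s', h', e'⟩ := c.tt hv b
  rw [← e, ← e', ← map_mul]
  refine el_eq _ fun x => ?_
  rw [mul_app, h, h']
  simp only [map_add, map_smul, hv, smul_eq_mul, mul_zero, add_zero]
  module

omit [FiniteDimensional E V] [Finite E] c in
theorem TT_zero (v : V) : TT i φ v 0 = 1 := (el_eq 1 fun x => by simp).trans (map_one φ)

omit [FiniteDimensional E V] [Finite E] c in
theorem TT_zero_left (a : F) : TT i φ 0 a = 1 := (el_eq 1 fun x => by simp).trans (map_one φ)

theorem TT_sq {v : V} (hv : B v v = 0) (a : F) : TT i φ v a * TT i φ v a = 1 := by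
  rw [← c.TT_add hv, ← two_mul, c.qf.twoF, zero_mul, TT_zero]

theorem tt_sq {v : V} (hv : B v v = 0) {a : F} {s : sisom B}
    (h : ∀ x, s.1 x = x + (i a * B v x) • v) : s * s = 1 := s_ext fun x => by
  rw [mul_app, h, h]
  simp only [map_add, map_smul, hv, smul_eq_mul, mul_zero, add_zero, add_assoc, c.add_self]
  rfl

theorem TT_inj {v : V} (hv : Pt B v) {a : F} (h : TT i φ v a ∈ C[L]) : a = 0 := by
  obtain ⟨s, h1, e⟩ := c.tt hv.1 a
  obtain ⟨x, hx⟩ := c.herm.exists_eq_one hv.2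
  have := h1 x
  rw [c.one (is2_of_sq (c.tt_sq hv.1 h1)) (e ▸ h), hx] at this
  simpa [hv.2] using this

theorem TT_eq_one {v : V} (hv : Pt B v) {a : F} (h : TT i φ v a = 1) : a = 0 :=
  c.TT_inj hv (h ▸ one_mem _)

omit [FiniteDimensional E V] [Finite E] c in
theorem TT_smul (v : V) {d : E} {n : F} (h : i n = d * σ d) (a : F) :
    TT i φ (d • v) a = TT i φ v (n * a) := by
  unfold TT
  congr 1
  funext x
  rw [sm_left, map_mul, h, smul_smul]
  congr 2; ring

theorem TT_conj (s : sisom B) {v : V} (hv : B v v = 0) (a : F) :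
    φ s * TT i φ v a * (φ s)⁻¹ = TT i φ (s.1 v) a := by
  obtain ⟨s', h, e⟩ := c.tt hv a
  rw [← e, ← map_inv, ← map_mul, ← map_mul]
  refine (el_eq _ fun x => ?_).symm
  rw [mul_app, mul_app, h, map_add, app_inv, map_smul, ← iso_map s, app_inv]

theorem TT_act {g : G} {f : V ≃+ V} {θ : E ≃+* E} (hs : Semi B f θ) (ha : Act φ g f) {v : V}
    (hv : B v v = 0) {a b : F} (e : i b = θ (i a)) :
    g * TT i φ v a * g⁻¹ = TT i φ (f v) b := by
  obtain ⟨s, h, e1⟩ := c.tt hv a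
  obtain ⟨s', h', e2⟩ := ha s
  rw [← e1, e2]
  refine (el_eq _ fun x => ?_).symm
  obtain ⟨x, rfl⟩ := f.surjective x
  rw [h', h, map_add, hs.smul, map_mul, hs.form, e]

theorem TT_comm {v w : V} (hv : B v v = 0) (hw : B w w = 0) (h : B v w = 0) (a b : F) :
    Commute (TT i φ v a) (TT i φ w b) := by
  obtain ⟨s, h1, e⟩ := c.tt hv a
  have := c.TT_conj s hw b
  rw [h1, h, mul_zero, zero_smul, add_zero, e] at this
  exact mul_inv_eq_iff_eq_mul.1 this

theorem mem_ZV {v : V} (hv : B v v = 0) {g : G} : g ∈ ZV i φ v ↔ ∃ a, g = TT i φ v a := by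
  refine ⟨fun h => ?_, fun ⟨a, e⟩ => e ▸ TT_mem_ZV v a⟩
  induction h using closure_induction with
  | mem g h => exact h.imp fun _ e => e.symm
  | one => exact ⟨0, (TT_zero v).symm⟩
  | mul _ _ _ _ h h' =>
    obtain ⟨a, rfl⟩ := h
    obtain ⟨b, rfl⟩ := h'
    exact ⟨_, (c.TT_add hv a b).symm⟩
  | inv _ _ h =>
    obtain ⟨a, rfl⟩ := h
    exact ⟨a, inv_eq_of_mul_eq_one_right (c.TT_sq hv a)⟩

theorem ZV_le {v : V} (hv : B v v = 0) : ZV i φ v ≤ L := fun g h => by
  obtain ⟨a, rfl⟩ := (c.mem_ZV hv).1 h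
  exact c.TT_mem hv a

theorem ZV_smul {v : V} (hv : B v v = 0) {d : E} (hd : d ≠ 0) : ZV i φ (d • v) = ZV i φ v := by
  obtain ⟨n, hn⟩ := c.qf.exists_norm d
  have n0 : n ≠ 0 := fun e => mul_ne_zero hd (by simpa using hd : σ d ≠ 0) (by rw [← hn, e, map_zero])
  ext g
  rw [c.mem_ZV hv, c.mem_ZV (isotropic_smul hv d)]
  exact ⟨fun ⟨a, e⟩ => ⟨_, e.trans (TT_smul v hn a)⟩, fun ⟨a, e⟩ =>
    ⟨n⁻¹ * a, by rw [TT_smul v hn, mul_inv_cancel_left₀ n0, e]⟩⟩

omit [FiniteDimensional E V] [Finite E] in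
theorem AS_span (v : V) : AS i φ (E ∙ v) = ZV i φ v := by
  refine le_antisymm ((closure_le _).2 ?_) (closure_mono ?_)
  · rintro _ ⟨x, hx, a, rfl⟩
    obtain ⟨d, rfl⟩ := Submodule.mem_span_singleton.1 hx
    obtain ⟨n, hn⟩ := c.qf.exists_norm d
    exact TT_smul (φ := φ) v hn a ▸ TT_mem_ZV v _
  · rintro _ ⟨a, rfl⟩
    exact ⟨v, Submodule.mem_span_singleton_self v, a, rfl⟩

theorem ZV_act {g : G} {f : V ≃+ V} {θ : E ≃+* E} (hs : Semi B f θ) (ha : Act φ g f) {v : V}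
    (hv : B v v = 0) : cj g (ZV i φ v) = ZV i φ (f v) := by
  haveI : Finite F := Finite.of_injective _ i.injective
  choose τ hτ using c.θ_i hs
  have hs' : Function.Surjective τ := Finite.injective_iff_surjective.1 fun a b e =>
    i.injective (θ.injective (by rw [← hτ, ← hτ, e]))
  ext z
  rw [c.mem_ZV (by rw [hs.form, hv, map_zero])]
  constructor
  · rintro ⟨z, hz, rfl⟩
    obtain ⟨a, rfl⟩ := (c.mem_ZV hv).1 hz
    exact ⟨_, c.TT_act hs ha hv (hτ a)⟩
  · rintro ⟨b, rfl⟩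
    obtain ⟨a, rfl⟩ := hs' b
    exact ⟨_, TT_mem_ZV v a, c.TT_act hs ha hv (hτ a)⟩

theorem ZV_conj (s : sisom B) {v : V} (hv : B v v = 0) : cj (φ s) (ZV i φ v) = ZV i φ (s.1 v) :=
  c.ZV_act (f := s.1.toAddEquiv) (θ := 1) ⟨fun d x => map_smul s.1 d x, iso_map s⟩
    (fun s' => ⟨s * s' * s⁻¹, fun x => by rw [mul_app, mul_app]; exact congrArg _ (congrArg _ (inv_app s x)),
      by rw [map_mul, map_mul, map_inv]⟩) hv

theorem gen {K : Subgroup G} (h : ∀ v, Pt B v → ∀ a, TT i φ v a ∈ K) : L ≤ K := fun g hg => by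
  obtain ⟨s, rfl⟩ := c.surj hg
  obtain ⟨s', h1, e⟩ := c.herm.sisom_le_of_hasTv (M := (K.comap φ).map (sisom B).subtype)
    (fun u d hu hd => by
      obtain ⟨a, rfl⟩ := (c.qf.fix d).1 (by
        have := c.qf.add_self d
        exact add_left_cancel (hd.trans this.symm))
      obtain ⟨s, h2, e⟩ := c.tt hu a
      refine ⟨s, ?_, LinearEquiv.ext h2⟩
      change φ s ∈ K
      rcases eq_or_ne u 0 with rfl | h0
      · rw [e, TT_zero_left]; exact one_mem _
      · exact e ▸ h u ⟨hu, h0⟩ a) (.inl (by have := c.four; omega)) s.2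
  exact (Subtype.ext e : s' = s) ▸ h1

/-! ### The Heisenberg group -/

theorem EE_mul {v w w' : V} {d d' : E} (h1 : B v v = 0) (h2 : B v w = 0) (h3 : d + σ d = B w w)
    (h2' : B v w' = 0) (h3' : d' + σ d' = B w' w') :
    EE φ v w d * EE φ v w' d' = EE φ v (w + w') (d + d' + B w w') := by
  obtain ⟨s, h, e⟩ := c.ee h1 h2 h3
  obtain ⟨s', h', e'⟩ := c.ee h1 h2' h3'
  rw [← e, ← e', ← map_mul]
  refine (el_eq _ fun x => ?_).symm
  rw [mul_app, h, h']
  simp only [map_add, map_smul, LinearMap.add_apply, h1, h2', c.flip h2, smul_eq_mul, mul_zero, add_zero]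
  module

theorem EE_conj (s : sisom B) {v w : V} {d : E} (h1 : B v v = 0) (h2 : B v w = 0)
    (h3 : d + σ d = B w w) : φ s * EE φ v w d * (φ s)⁻¹ = EE φ (s.1 v) (s.1 w) d := by
  obtain ⟨s', h, e⟩ := c.ee h1 h2 h3
  rw [← e, ← map_inv, ← map_mul, ← map_mul]
  refine (el_eq _ fun x => ?_).symm
  rw [mul_app, mul_app, h, ← iso_map s v, ← iso_map s w, app_inv]
  simp only [map_add, map_smul, app_inv]

theorem EE_act {g : G} {f : V ≃+ V} {θ : E ≃+* E} (hs : Semi B f θ) (ha : Act φ g f) {v w : V}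
    {d : E} (h1 : B v v = 0) (h2 : B v w = 0) (h3 : d + σ d = B w w) :
    g * EE φ v w d * g⁻¹ = EE φ (f v) (f w) (θ d) := by
  obtain ⟨s, h, e1⟩ := c.ee h1 h2 h3
  obtain ⟨s', h', e2⟩ := ha s
  rw [← e1, e2]
  refine (el_eq _ fun x => ?_).symm
  obtain ⟨x, rfl⟩ := f.surjective x
  simp only [h', h, map_add, hs.smul, map_mul, hs.form]

omit [FiniteDimensional E V] [Finite E] c in
theorem EE_zero (v : V) (a : F) : EE φ v 0 (i a) = TT i φ v a := by
  unfold EE TT
  congr 1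
  funext x
  simp

omit [FiniteDimensional E V] [Finite E] c in
theorem EE_shift (v w : V) (d e : E) : EE φ v (w + e • v) d = EE φ v w (d + e + σ e) := by
  unfold EE
  congr 1
  funext x
  simp only [map_add, LinearMap.add_apply, sm_left]
  module

omit [FiniteDimensional E V] [Finite E] in
theorem EE_smul (v w : V) (d e : E) : EE φ (e • v) w d = EE φ v (σ e • w) (d * (e * σ e)) := by
  unfold EE
  congr 1
  funext x
  simp only [sm_left, c.qf.sq]
  module

theorem EE_mem {v w : V} {d : E} (h1 : B v v = 0) (h2 : B v w = 0) (h3 : d + σ d = B w w) :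
    EE φ v w d ∈ L := by
  obtain ⟨s, -, e⟩ := c.ee h1 h2 h3
  exact e ▸ c.mem s

theorem BB_TT {u v : V} (hu : B u u = 0) (hv : B v v = 0) (h : B v u = 0) (a : F) :
    BB (TT i φ) u v a = EE φ v (i a • u) 0 := by
  obtain ⟨s1, h1, e1⟩ := c.tt (c.iso_add hv hu h) a
  obtain ⟨s2, h2, e2⟩ := c.tt hu a
  obtain ⟨s3, h3, e3⟩ := c.tt hv a
  rw [BB, add_comm u, ← e1, ← e2, ← e3, ← map_mul, ← map_mul]
  refine (el_eq _ fun x => ?_).symm
  rw [mul_app, mul_app, h1, h2, h3]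
  simp only [map_add, map_smul, LinearMap.add_apply, hu, hv, h, c.flip h, smul_eq_mul, mul_zero,
    add_zero, sm_left, c.qf.σ_i]
  linear_combination (norm := module) c.add_self ((i a * B v x) • v + (i a * B u x) • u)

theorem mem_QV {v : V} (hv : Pt B v) {g : G} :
    g ∈ QV φ v ↔ ∃ w d, B v w = 0 ∧ d + σ d = B w w ∧ g = EE φ v w d := by
  constructor
  · rintro ⟨s, ⟨h1, h2⟩, rfl⟩
    obtain ⟨v', k1, k2⟩ := c.herm.exists_hyperbolic' hv.1 hv.2
    have h3 := h1 v (Submodule.mem_span_singleton_self v)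
    obtain ⟨w, hw⟩ : ∃ w, s.1 v' = v' + w := ⟨s.1 v' - v', by abel⟩
    have h4 : B v w = 0 := by
      have := iso_map s v v'
      rwa [h3, hw, map_add, add_eq_left] at this
    have h5 : ∀ x, B v x = 0 → s.1 x = x + B w x • v := fun x hx => by
      obtain ⟨a, ha⟩ := Submodule.mem_span_singleton.1 (h2 x (mem_perp_span_singleton.2 hx))
      have h6 : s.1 x = x + a • v := by rw [ha]; abel
      have h7 := iso_map s v' x
      simp only [hw, h6, map_add, LinearMap.add_apply, sm_right, c.flip1 k2, c.flip h4] at h7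
      rw [h6, show a = B w x by linear_combination h7 - B w x * c.qf.two]
    refine ⟨w, B w v', h4, ?_, (el_eq s fun x => ?_).symm⟩
    · have := iso_map s v' v'
      simp only [hw, map_add, LinearMap.add_apply, k1] at this
      rw [c.symm]
      linear_combination this - B w w * c.qf.two
    · have := h5 (x - B v x • v') (by simp [k2])
      simp only [map_sub, map_smul, hw, smul_eq_mul] at this
      linear_combination (norm := module) this - c.add_self ((B w v' * B v x) • v)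
  · rintro ⟨w, d, h1, h2, rfl⟩
    obtain ⟨s, h, e⟩ := c.ee hv.1 h1 h2
    refine ⟨s, ⟨fun x hx => ?_, fun x hx => ?_⟩, e⟩
    · obtain ⟨a, rfl⟩ := Submodule.mem_span_singleton.1 hx
      simp [h, hv.1, c.flip h1]
    · rw [h, mem_perp_span_singleton.1 hx]
      exact Submodule.mem_span_singleton.2 ⟨B w x, by simp⟩

/-! ### Witt's theorem and frames -/

omit [Finite E] in
theorem wit {ι : Type*} [Finite ι] {u w : ι → V} (hu : LinearIndependent E u)
    (hw : LinearIndependent E w) (h : ∀ j k, B (u j) (u k) = B (w j) (w k)) {d : V} (hd : B d d ≠ 0)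
    (h0 : ∀ j, B d (u j) = 0) : ∃ s : sisom B, ∀ j, s.1 (u j) = w j := by
  obtain ⟨g, hg, e⟩ := c.herm.witt_family hu hw h
  obtain ⟨g', hg', e', -⟩ := c.herm.exists_sisom_of_isom hg hd
  exact ⟨⟨g', hg'⟩, fun j => (e' _ (h0 j)).trans (e j)⟩

omit [FiniteDimensional E V] [Finite E] in
theorem hyp {v : V} (hv : Pt B v) : ∃ v', B v' v' = 0 ∧ B v v' = 1 :=
  c.herm.exists_hyperbolic' hv.1 hv.2

omit [Finite E] in
theorem perp_pair {e f : V} (he : B e e = 0) (hef : B e f = 1) :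
    NondegOn B (perp B (Submodule.span E {e, f})) ∧
      finrank E (perp B (Submodule.span E {e, f})) + 2 = finrank E V := by
  have h := c.herm.toIsHermSymm.gram_hyperbolic he hef
  refine ⟨c.herm.nondegOn_perp (c.herm.toIsHermSymm.nondegOn_span_pair h), ?_⟩
  rw [← c.herm.finrank_add_finrank_perp (Submodule.span E {e, f}), finrank_span_pair_of_gram h, add_comm]

omit [FiniteDimensional E V] [Finite E] c in
theorem mem_perp_pair {e f x : V} : x ∈ perp B (Submodule.span E {e, f}) ↔ B e x = 0 ∧ B f x = 0 := by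
  simp [mem_perp_span]

/-- A hyperbolic pair extends to a frame. -/
theorem exists_fr2 {e f : V} (he : B e e = 0) (hf : B f f = 0) (hef : B e f = 1) :
    ∃ e' f', Fr2 B e f e' f' := by
  obtain ⟨h1, h2⟩ := c.perp_pair he hef
  obtain ⟨e', k1, k2, k3⟩ := c.herm.exists_isotropic h1 (by have := c.four; omega)
  obtain ⟨f', k4, k5, k6⟩ := c.herm.toIsHermSymm.exists_hyperbolic_of_nondegOn h1 k3 k2 k1
  rw [mem_perp_pair] at k1 k4
  exact ⟨e', f', he, hf, hef, k3, k5, k6, k1.1, k4.1, k1.2, k4.2⟩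

omit [Finite E] in
/-- Two independent orthogonal isotropic vectors extend to a frame. -/
theorem exists_fr2' {e e' : V} (he : Pt B e) (he' : B e' e' = 0) (h : B e e' = 0)
    (hi : e' ∉ E ∙ e) : ∃ f f', Fr2 B e f e' f' := by
  have e0 : e' ≠ 0 := fun k => hi (k ▸ Submodule.zero_mem _)
  obtain ⟨y, hy, hy'⟩ := c.herm.exists_perp_of_notMem (W := E ∙ e') (x := e) fun k => by
    obtain ⟨a, rfl⟩ := Submodule.mem_span_singleton.1 k
    have a0 : a ≠ 0 := fun k => he.2 (by rw [k, zero_smul])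
    exact hi (Submodule.mem_span_singleton.2 ⟨a⁻¹, by rw [smul_smul, inv_mul_cancel₀ a0, one_smul]⟩)
  obtain ⟨f, k1, k2, k3⟩ := c.herm.toIsHermSymm.exists_hyperbolic he.1
    (mem_perp_span_singleton.2 (c.flip h)) hy (c.herm.toIsHermSymm.flip_ne_zero hy')
  have k4 := c.flip (mem_perp_span_singleton.1 k1)
  obtain ⟨f', k5, k6, k7⟩ := c.herm.toIsHermSymm.exists_hyperbolic_of_nondegOn (c.perp_pair he.1 k3).1
    he' e0 (mem_perp_pair.2 ⟨h, k4⟩)
  rw [mem_perp_pair] at k5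
  exact ⟨f, f', he.1, k2, k3, he', k6, k7, h, k5.1, k4, k5.2⟩

theorem exists_pt : ∃ v, Pt B v := by
  obtain ⟨v, -, h1, h2⟩ := c.herm.exists_isotropic c.herm.nondegOn_top
    (by rw [finrank_top]; have := c.four; omega)
  exact ⟨v, h2, h1⟩

omit [Finite E] in
/-- A nonisotropic vector orthogonal to a hyperbolic pair. -/
theorem exists_aniso {e f : V} (he : B e e = 0) (hef : B e f = 1) :
    ∃ d, B d d ≠ 0 ∧ B d e = 0 ∧ B d f = 0 := by
  obtain ⟨h1, h2⟩ := c.perp_pair he hef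
  obtain ⟨d, k1, k2⟩ := c.herm.toIsHermSymm.exists_norm_ne_zero h1 fun e => by
    rw [e, finrank_bot] at h2; have := c.four; omega
  exact ⟨d, k2, c.flip (mem_perp_pair.1 k1).1, c.flip (mem_perp_pair.1 k1).2⟩

omit [Finite E] in
/-- Transitivity on hyperbolic pairs. -/
theorem trans2 {e f e' f' : V} (he : B e e = 0) (hf : B f f = 0) (hef : B e f = 1)
    (he' : B e' e' = 0) (hf' : B f' f' = 0) (hef' : B e' f' = 1) :
    ∃ s : sisom B, s.1 e = e' ∧ s.1 f = f' := by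
  obtain ⟨d, h1, h2, h3⟩ := c.exists_aniso he hef
  obtain ⟨s, hs⟩ := c.wit (u := ![e, f]) (w := ![e', f'])
    (linearIndependent_pair_of_gram (c.herm.toIsHermSymm.gram_hyperbolic he hef))
    (linearIndependent_pair_of_gram (c.herm.toIsHermSymm.gram_hyperbolic he' hef'))
    (by simp [Fin.forall_fin_two, he, hf, hef, he', hf', hef', c.flip1 hef, c.flip1 hef']) h1
    (by simp [Fin.forall_fin_two, h2, h3])
  exact ⟨s, hs 0, hs 1⟩

omit [Finite E] in
theorem trans {v w : V} (hv : Pt B v) (hw : Pt B w) : ∃ s : sisom B, s.1 v = w := by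
  obtain ⟨v', h1, h2⟩ := c.hyp hv
  obtain ⟨w', h3, h4⟩ := c.hyp hw
  exact (c.trans2 hv.1 h1 h2 hw.1 h3 h4).imp fun _ h => h.1

omit [Finite E] in
theorem swap1 {e f : V} (he : B e e = 0) (hf : B f f = 0) (hef : B e f = 1) :
    ∃ s : sisom B, s.1 e = f ∧ s.1 f = e ∧ ∀ x, B e x = 0 → B f x = 0 → s.1 x = x := by
  obtain ⟨s, h, -⟩ := c.tt (v := e + f) (by simp [he, hf, hef, c.flip1 hef, c.qf.add_self]) 1
  refine ⟨s, ?_, ?_, fun x h1 h2 => by simp [h, h1, h2]⟩
  · simp [h, he, c.flip1 hef, ← add_assoc, c.add_self]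
  · simp [h, hf, hef, add_left_comm f, c.add_self]

omit [Finite E] in
theorem swap2 {e f e' f' : V} (h : Fr2 B e f e' f') : ∃ s : sisom B, s.1 e = e' ∧ s.1 e' = e ∧
    s.1 f = f' ∧ s.1 f' = f ∧ ∀ x, B e x = 0 → B f x = 0 → B e' x = 0 → B f' x = 0 → s.1 x = x := by
  obtain ⟨h1, h2, h3, h4, h5, h6, h7, h8, h9, h10⟩ := h
  obtain ⟨s, h, -⟩ := c.ee (v := e + e') (w := f + f') (d := 0) (c.iso_add h1 h4 h7)
    (by simp [h3, h6, h8, c.flip h9, c.qf.add_self]) (by simp [h2, h5, h10, c.flip h10])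
  refine ⟨s, ?_, ?_, ?_, ?_, fun x k1 k2 k3 k4 => by simp [h, k1, k2, k3, k4]⟩
  · simp [h, h1, c.flip h7, c.flip1 h3, c.flip h8, ← add_assoc, c.add_self]
  · simp [h, h4, h7, h9, c.flip1 h6, add_left_comm e', c.add_self]
  · simp [h, h2, h3, c.flip h9, c.flip h10, ← add_assoc, c.add_self]
  · simp [h, h5, h6, h8, h10, add_left_comm f', c.add_self]

/-- The element `h_e(a)`. -/
theorem hv {e f : V} (he : B e e = 0) (hf : B f f = 0) (hef : B e f = 1) {a : F} (ha : a ≠ 0) :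
    ∃ s : sisom B, s.1 e = i a • e ∧ s.1 f = (i a)⁻¹ • f ∧
      ∀ x, B e x = 0 → B f x = 0 → s.1 x = x := by
  obtain ⟨d, hd⟩ := c.qf.norm_surj a
  have d0 : d ≠ 0 := by rintro rfl; exact ha (i.injective (by simpa using hd.symm))
  have d1 : σ d ≠ 0 := by simpa using d0
  obtain ⟨s, h1, h2, h3⟩ := c.swap1 he hf hef
  obtain ⟨s', k1, k2, k3⟩ := c.swap1 (isotropic_smul he d) (isotropic_smul hf (σ d)⁻¹)
    (by rw [sm_left, sm_right, hef]; field_simp)
  rw [map_smul] at k1 k2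
  refine ⟨s' * s, ?_, ?_, fun x e1 e2 => by
    rw [mul_app, h3 x e1 e2, k3 x (by rw [sm_left, e1, mul_zero]) (by rw [sm_left, e2, mul_zero])]⟩
  · rw [mul_app, h1, ← hd, mul_comm, ← smul_smul, ← k2, smul_smul, mul_inv_cancel₀ d1, one_smul]
  · rw [mul_app, h2, ← hd, mul_inv, ← smul_smul, ← k1, smul_smul, inv_mul_cancel₀ d0, one_smul]

theorem diag2 {e f e' f' : V} (h : Fr2 B e f e' f') {a b : E} (ha : a ≠ 0) (hb : b ≠ 0)
    (hab : σ (a * b) = a * b) : ∃ s : sisom B, s.1 e = a • e ∧ s.1 f = (σ a)⁻¹ • f ∧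
      s.1 e' = b • e' ∧ s.1 f' = (σ b)⁻¹ • f' ∧
      ∀ x, B e x = 0 → B f x = 0 → B e' x = 0 → B f' x = 0 → s.1 x = x := by
  have a1 : σ a ≠ 0 := by simpa using ha
  obtain ⟨n, hn⟩ := (c.qf.fix _).1 hab
  obtain ⟨s1, h1, h2, h3, h4, h5⟩ := c.swap2 h
  obtain ⟨s2, k1, k2, k3, k4, k5⟩ := c.swap2 (e := e) (f := f) (e' := a⁻¹ • e') (f' := σ a • f')
    ⟨h.ee, h.ff, h.ef, isotropic_smul h.ee' _, isotropic_smul h.ff' _, by
      rw [sm_left, sm_right, h.ef', map_inv₀]; field_simp, by simp [h.o1], by simp [h.o2],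
      by simp [h.o3], by simp [h.o4]⟩
  obtain ⟨s3, l1, l2, l3⟩ := c.hv h.ee' h.ff' h.ef' (a := n) (by
    rintro rfl; exact mul_ne_zero ha hb (by simpa using hn))
  rw [map_smul, inv_smul_eq_iff₀ ha] at k2
  rw [map_smul, ← eq_inv_smul_iff₀ a1] at k4
  refine ⟨s3 * s2 * s1, ?_, ?_, ?_, ?_, fun x e1 e2 e3 e4 => ?_⟩ <;> rw [mul_app, mul_app]
  · rw [h1, k2, map_smul, l3 e (c.flip h.o1) (c.flip h.o2)]
  · rw [h3, k4, map_smul, l3 f (c.flip h.o3) (c.flip h.o4)]
  · rw [h2, k1, map_smul, l1, smul_smul, ← hn, inv_mul_cancel_left₀ ha]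
  · rw [h4, k3, map_smul, l2, smul_smul, ← hn, ← hab, map_mul, mul_inv, mul_inv_cancel_left₀ a1]
  · rw [h5 x e1 e2 e3 e4, k5 x e1 e2 (by rw [sm_left, e3, mul_zero]) (by rw [sm_left, e4, mul_zero]),
      l3 x e3 e4]

/-! ### Consequences of the kit -/

theorem QV_le (v : V) : QV φ v ≤ L := by
  rintro _ ⟨s, -, rfl⟩
  exact c.mem s

/-- `CQ`. -/
theorem cQ (k : KitA i φ L) {v : V} (hv : Pt B v) {g : G} (h1 : g ∈ N[L]) (h2 : g ∈ C[QV φ v]) :
    ∃ a, ∃ z ∈ C[L], g = TT i φ v a * z := by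
  have h := k.fs (E ∙ v) (fun x hx y hy => by
    obtain ⟨a, rfl⟩ := Submodule.mem_span_singleton.1 hx
    obtain ⟨b, rfl⟩ := Submodule.mem_span_singleton.1 hy
    rw [sm_left, sm_right, hv.1, mul_zero, mul_zero]) (by simpa using hv.2) g ⟨h1, h2⟩
  rw [c.AS_span] at h
  have h3 : ZV i φ v ≤ N[C[L]] := fun a ha => centralizer_le_normalizer _ fun z hz =>
    (comm_of_C hz (c.ZV_le hv.1 ha)).eq
  obtain ⟨a, ha, z, hz, e⟩ := (coe_mul_of_left_le_normalizer_right _ C[L] h3).subset h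
  obtain ⟨a, rfl⟩ := (c.mem_ZV hv.1).1 ha
  exact ⟨a, z, hz, e.symm⟩

end UCtx

end Cfsg.Agent.H28.U6
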