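import Mathlib
import Cfsg.Agent.H28.U6Defs
import Cfsg.Agent.H28.U6Cls

/-! Project ENDU, piece ALT: the bound `AB` excludes the second class of graph involutions. -/

set_option autoImplicit false
set_option linter.unusedSectionVars false
set_option linter.style.haveILetI false

namespace Cfsg.Agent.H28.U6.H40.EAlt

open Cfsg.Agent.H40

open Cfsg Cfsg.Agent.H63 Cfsg.Agent.H63.SL Cfsg.Agent.H34 Cfsg.Agent.H34.TW Cfsg.Agent.H34.UM
  Cfsg.Agent.H34.UE Cfsg.Agent.H31 Subgroup Module
open Cfsg.Agent.H27.End (is2_of_sq)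
open Cfsg.Agent.H28.U6.H67.UCls (split f_split form act_mul act_phi semi_mul semi_phi)

universe u v

/-- A non-alternating symmetric form of even dimension has a frame of this shape. -/
theorem frame {F W : Type v} [Field F] [Finite F] [AddCommGroup W] [Module F W]
    [FiniteDimensional F W] (h2 : (2 : F) = 0) {b : LinearMap.BilinForm F W} (hs : b.IsSymm)
    (nd : b.Nondegenerate) (na : ¬ b.IsAlt) {k : ℕ} (o : Fin k) (hk : finrank F W = 2 * k) :
    ∃ u y : Fin k → W, (∀ a d, b (u a) (u d) = 0) ∧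
      (∀ a d, b (u a) (y d) = if a = d then 1 else 0) ∧ b (y o) (y o) = 1 := by
  let b0 : LinearMap.BilinForm F ((Fin k → F) × (Fin k → F)) := LinearMap.mk₂ F
    (fun x y => x.1 ⬝ᵥ y.2 + x.2 ⬝ᵥ y.1 + x.2 o * y.2 o)
    (fun x y z => by simp only [Prod.fst_add, Prod.snd_add, add_dotProduct, Pi.add_apply]; ring)
    (fun a x y => by
      simp only [Prod.smul_fst, Prod.smul_snd, smul_dotProduct, Pi.smul_apply, smul_eq_mul]; ring)
    (fun x y z => by simp only [Prod.fst_add, Prod.snd_add, dotProduct_add, Pi.add_apply]; ring)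
    (fun a x y => by
      simp only [Prod.smul_fst, Prod.smul_snd, dotProduct_smul, Pi.smul_apply, smul_eq_mul]; ring)
  have hb : ∀ x y, b0 x y = x.1 ⬝ᵥ y.2 + x.2 ⬝ᵥ y.1 + x.2 o * y.2 o := fun _ _ => rfl
  have s0 : b0.IsSymm := ⟨fun x y => by
    rw [hb, hb, dotProduct_comm x.1, dotProduct_comm x.2]; ring⟩
  have n0 : ∀ x, (∀ y, b0 x y = 0) → x = 0 := fun x hx => by
    have e2 : x.2 = 0 := funext fun j => by simpa [hb] using hx (Pi.single j 1, 0)
    have e1 : x.1 = 0 := funext fun j => by simpa [hb, e2] using hx (0, Pi.single j 1)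
    exact Prod.ext e1 e2
  obtain ⟨p, hp⟩ := H79.exists_equiv_symm h2 s0 ⟨n0, fun x hx => n0 x fun y => s0.isRefl _ _ (hx y)⟩
    hs nd (by simp [hk, two_mul]) (iff_of_false (fun h => by
      simpa [hb] using h (0, Pi.single o 1)) na)
  refine ⟨fun a => p (Pi.single a 1, 0), fun a => p (0, Pi.single a 1), fun a d => ?_, fun a d => ?_, ?_⟩
  · simp [hp, hb]
  · simp [hp, hb, Pi.single_apply, eq_comm]
  · simp [hp, hb]

variable {F E V : Type v} [Field F] [Field E] [AddCommGroup V] [Module E V] {i : F →+* E}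
  {σ : E ≃+* E} {B : V →ₛₗ[(σ : E →+* E)] V →ₗ[E] E} {G : Type u} [Group G] {φ : sisom B →* G}
  {L : Subgroup G}

variable (c : UCtx i φ L)
include c

/-- The frame inside the fixed vectors of a graph involution. -/
theorem frameV [Finite F] [Finite E] [Finite V] [FiniteDimensional E V] {f : V ≃+ V}
    (hf : Semi B f σ) (ff : ∀ x, f (f x) = x) (na : ¬ Alt B f) {k : ℕ} (o : Fin k)
    (hk : finrank E V = 2 * k) :
    ∃ u y : Fin k → V, (∀ a, f (u a) = u a) ∧ f (y o) = y o ∧ (∀ a d, B (u a) (u d) = 0) ∧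
      (∀ a d, B (u a) (y d) = if a = d then 1 else 0) ∧ B (y o) (y o) = 1 := by
  letI := Module.compHom V i
  obtain ⟨ω, hω⟩ := c.qf.tr
  obtain ⟨W, b, m, hb, hs, nd⟩ := form c hf ff hω
  have e : Nat.card (W × W) = Nat.card V := Nat.card_congr (Equiv.ofBijective
    (fun p : W × W => (p.1 : V) + ω • (p.2 : V)) ⟨fun p p' e1 => by
      have e2 := congrArg f e1
      simp only at e1 e2
      rw [f_split c hf hω ((m _).1 p.1.2) ((m _).1 p.2.2),
        f_split c hf hω ((m _).1 p'.1.2) ((m _).1 p'.2.2)] at e2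
      have e3 : (p.2 : V) = p'.2 := by linear_combination (norm := module) e2 - e1
      rw [e3] at e1
      exact Prod.ext (Subtype.ext (add_right_cancel e1)) (Subtype.ext e3), fun x => by
      obtain ⟨a, d, ha, hd, rfl⟩ := split c hf ff hω x
      exact ⟨(⟨a, (m _).2 ha⟩, ⟨d, (m _).2 hd⟩), rfl⟩⟩)
  rw [Nat.card_prod, Module.natCard_eq_pow_finrank (K := F) (V := W),
    Module.natCard_eq_pow_finrank (K := E) (V := V),
    c.qf.card, hk, ← pow_add, ← pow_mul] at e
  have e' := Nat.pow_right_injective (Finite.one_lt_card (α := F)) e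
  obtain ⟨u, y, h1, h2, h3⟩ := frame c.qf.twoF hs nd (fun h => na fun x hx => by
    rw [← hb ⟨x, (m _).2 hx⟩ ⟨x, (m _).2 hx⟩, h, map_zero]) o (by omega)
  refine ⟨fun a => u a, fun a => y a, fun a => (m _).1 (u a).2, (m _).1 (y o).2, fun a d => ?_,
    fun a d => ?_, ?_⟩
  · rw [← hb, h1, map_zero]
  · rw [← hb, h2]; split_ifs <;> simp
  · rw [← hb, h3, map_one]

section Mat

variable {k : ℕ} (u : Fin k → V)

omit c in
variable (i B) in
/-- The nilpotent map of a symmetric matrix. -/
def MM (C : Sym2 (Fin k) → F) : V →ₗ[E] V :=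
  ∑ a, ∑ d, (i (C s(a, d)) • B (u a)).smulRight (u d)

omit c in
theorem MM_apply (C : Sym2 (Fin k) → F) (x : V) :
    MM i B u C x = ∑ a, ∑ d, (i (C s(a, d)) * B (u a) x) • u d := by
  simp [MM, LinearMap.sum_apply]

omit c in
theorem MM_add (C C' : Sym2 (Fin k) → F) (x : V) :
    MM i B u (C + C') x = MM i B u C x + MM i B u C' x := by
  simp only [MM_apply, Pi.add_apply, map_add, add_mul, add_smul, Finset.sum_add_distrib]

variable {u} (uu : ∀ a d, B (u a) (u d) = 0)

omit c in
include uu in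
theorem MM_MM (C C' : Sym2 (Fin k) → F) (x : V) : MM i B u C (MM i B u C' x) = 0 := by
  rw [MM_apply]
  simp [MM_apply, map_sum, uu]

theorem MM_adj (C : Sym2 (Fin k) → F) (x y : V) : B (MM i B u C x) y = B x (MM i B u C y) := by
  simp only [MM_apply, map_sum, LinearMap.sum_apply, sm_left, sm_right, map_mul, c.symm, c.qf.σ_i]
  rw [Finset.sum_comm]
  refine Finset.sum_congr rfl fun a _ => Finset.sum_congr rfl fun d _ => ?_
  rw [Sym2.eq_swap]; ring

omit c in
theorem MM_f {f : V ≃+ V} (hf : Semi B f σ) (fu : ∀ a, f (u a) = u a) (hi : ∀ a, σ (i a) = i a)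
    (C : Sym2 (Fin k) → F) (x : V) : f (MM i B u C x) = MM i B u C (f x) := by
  simp only [MM_apply, map_sum, hf.smul, map_mul, hi, ← hf.form, fu]

include uu in
theorem exists_s [FiniteDimensional E V] (C : Sym2 (Fin k) → F) :
    ∃ s : sisom B, ∀ x, s.1 x = x + MM i B u C x :=
  c.mk2 (LinearMap.id + MM i B u C) (fun x y => by
    simp only [LinearMap.add_apply, LinearMap.id_apply, map_add, MM_adj c, MM_MM uu, map_zero]
    linear_combination B x (MM i B u C y) * c.qf.two) (k := 1) (LinearMap.ext fun x => by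
      change x + MM i B u C x + MM i B u C (x + MM i B u C x) = x
      rw [map_add, MM_MM uu, add_zero, add_assoc, c.add_self, add_zero])

end Mat

omit c in
theorem alt : AltStmt.{u, v} := by
  intro cl F E V _ _ _ _ _ _ _ _ i σ B G _ _ φ L c KA KB h6 odd t f gr k hk b hb ab
  by_contra na
  have k3 : 2 ≤ k := by have := c.four; omega
  let o : Fin k := ⟨0, by omega⟩
  obtain ⟨u, y, fu, fy, uu, uy, yy⟩ := frameV c gr.semi gr.ff na o hk
  classical
  choose S hS using exists_s c uu
  have Smul : ∀ C C', S (C + C') = S C * S C' := fun C C' => s_ext fun x => by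
    rw [mul_app, hS, hS, hS, map_add, MM_MM uu, MM_add]; abel
  have Ssq : ∀ C, S C * S C = 1 := fun C => s_ext fun x => by
    rw [mul_app, hS, hS, map_add, MM_MM uu, add_zero, add_assoc, c.add_self, add_zero]; rfl
  have Sf : ∀ C x, f ((S C).1 x) = (S C).1 (f x) := fun C x => by
    rw [hS, hS, map_add, MM_f gr.semi fu c.qf.σ_i]
  have St : ∀ C, Commute t (φ (S C)) := fun C => by
    obtain ⟨s', h1, h2⟩ := gr.act (S C)
    have : s' = S C := s_ext fun x => by
      obtain ⟨x, rfl⟩ := f.surjective x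
      rw [h1, Sf]
    exact mul_inv_eq_iff_eq_mul.1 (this ▸ h2)
  have yu : ∀ a d, B (y d) (u a) = if a = d then 1 else 0 := fun a d => by
    rw [← c.symm, uy]; split_ifs <;> simp
  have yM : ∀ C a d, B (y d) (MM i B u C (y a)) = i (C s(a, d)) := fun C a d => by
    simp [MM_apply, map_sum, uy, yu]
  let D := {p : Sym2 (Fin k) // ¬ p = s(o, o)}
  let ex : (D → F) → Sym2 (Fin k) → F := fun C p => if h : p = s(o, o) then 0 else C ⟨p, h⟩
  have exa : ∀ C C', ex (C + C') = ex C + ex C' := fun C C' => funext fun p => by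
    simp only [ex, Pi.add_apply]; split_ifs <;> simp
  let ψ : Multiplicative (D → F) →* G := MonoidHom.mk' (fun C => φ (S (ex C.toAdd)))
    fun C C' => by rw [toAdd_mul, exa, Smul, map_mul]
  have hψ : ∀ C, ψ C = φ (S (ex C.toAdd)) := fun _ => rfl
  have inj : Function.Injective ψ := (injective_iff_map_eq_one ψ).2 fun C hC => by
    have h1 := c.one (is2_of_sq (Ssq (ex C.toAdd))) (by rw [← hψ, hC]; exact one_mem _)
    refine toAdd_eq_zero.1 (funext fun ⟨p, hp⟩ => ?_)
    induction p using Sym2.ind with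
    | _ a d =>
      have h2 := hS (ex C.toAdd) (y a)
      rw [h1] at h2
      have h3 := yM (ex C.toAdd) a d
      rw [left_eq_add.1 h2, map_zero, eq_comm, map_eq_zero] at h3
      simpa only [ex, dif_neg hp, Pi.zero_apply] using h3
  obtain ⟨ω, hω⟩ := c.qf.tr
  have key := ab ψ.range (by
    rintro _ ⟨C, rfl⟩
    exact mem_centralizer_singleton_iff.2 (St _).symm) (by
    rintro _ ⟨C, rfl⟩
    rw [hψ, ← map_mul, Ssq, map_one]) (by
    rintro _ ⟨C, rfl⟩
    rw [hψ]
    have e0 : ex C.toAdd s(o, o) = 0 := dif_pos rfl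
    generalize ex C.toAdd = C' at e0
    have gr' : Gr φ L (t * φ (S C')) ((S C').1.toAddEquiv.trans f) :=
      ⟨mul_mem gr.mem (le_normalizer (c.mem _)), by
        rw [(St C').symm.mul_mul_mul_comm, gr.sq, ← map_mul, Ssq, map_one, one_mul],
        semi_mul gr.semi (semi_phi _), fun x => by
          change f ((S C').1 (f ((S C').1 x))) = x
          rw [Sf, gr.ff, ← mul_app, Ssq]; rfl, act_mul gr.act (act_phi _)⟩
    obtain ⟨m, -, e⟩ := cl i σ B φ L c KA KB h6 odd t f _ _ gr gr' (fun _ => iff_of_false na fun h => by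
      have h1 := h (y o + ω • MM i B u C' (y o)) (by
        change f ((S C').1 _) = _
        rw [hS]
        simp only [map_add, map_smul, MM_MM uu, smul_zero, add_zero, gr.semi.smul,
          MM_f gr.semi fu c.qf.σ_i, fy, hω]
        linear_combination (norm := module) c.add_self (MM i B u C' (y o)))
      simp only [map_add, LinearMap.add_apply, sm_left, sm_right, MM_adj c, MM_MM uu, yM, e0, yy,
        map_zero] at h1
      simp at h1) (by
      rw [← mul_assoc, gr.sq, one_mul]; exact mem_sup_left (c.mem _))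
    exact ⟨m, e.symm⟩)
  rw [← Nat.card_congr (MonoidHom.ofInjective inj).toEquiv, Nat.card_congr Multiplicative.toAdd,
    Nat.card_fun, Nat.card_eq_fintype_card (α := D), Fintype.card_subtype_compl, Sym2.card,
    Fintype.card_fin, Fintype.card_subtype_eq, Nat.choose_two_right, Nat.add_sub_cancel,
    mul_comm] at key
  omega

end Cfsg.Agent.H28.U6.H40.EAlt
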