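import Mathlib
import Cfsg.Agent.H28.U6Defs
import Cfsg.Agent.H37.KitS
import Cfsg.Agent.H37.KitE

/-!
# Standard subgroups of unitary type: the pieces SI and PF
-/

set_option autoImplicit false
set_option linter.unusedSectionVars false

namespace Cfsg.Agent.H28.U6.H29.UmSI

open Cfsg.Agent.H29

open Cfsg Cfsg.Agent.H63 Cfsg.Agent.H63.SL Cfsg.Agent.H34 Cfsg.Agent.H34.TW Cfsg.Agent.H34.UM
  Cfsg.Agent.H31 Subgroup Module
open Cfsg.Agent.H27.End (mem_C mem_C1 comm_of_C conj_mem eq_one_of_is2 is2_of_sq is2_of_mem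
  mem_N_of_conj comm_mem_left comm_mem_right odd_orderOf_of_mem)
open scoped commutatorElement

universe u v

/-- Additive maps of a finite field of characteristic two to `ZMod 2`. -/
theorem rep2 (K : Type v) [Field K] [Finite K] (h2 : (2 : K) = 0) :
    ∃ τ : K →+ ZMod 2, ∀ f : K →+ ZMod 2, ∃ α, ∀ a, f a = τ (α * a) := by
  haveI : Fact (Nat.Prime 2) := ⟨Nat.prime_two⟩
  haveI : CharP K 2 := CharTwo.of_one_ne_zero_of_two_eq_zero one_ne_zero h2
  letI := ZMod.algebra K 2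
  haveI : Module.Finite (ZMod 2) K := Module.Finite.of_finite
  refine ⟨(Algebra.trace (ZMod 2) K).toAddMonoidHom, fun f => ?_⟩
  obtain ⟨α, hα⟩ := ((Algebra.traceForm (ZMod 2) K).toDual
    (traceForm_nondegenerate (ZMod 2) K)).surjective (f.toZModLinearMap 2)
  refine ⟨α, fun a => ?_⟩
  exact (congrArg (fun g => g a) hα).symm

theorem exists_sq {K : Type v} [Field K] [Finite K] (h2 : (2 : K) = 0) (a : K) : ∃ t, t * t = a := by
  refine ((Finite.injective_iff_surjective (f := fun t : K => t * t)).1 fun x y e => ?_) a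
  have : (x - y) ^ 2 = 0 := by
    have e' : x * x = y * y := e
    linear_combination e' + (y * y - x * y) * h2
  exact sub_eq_zero.1 (pow_eq_zero_iff two_ne_zero |>.1 this)

theorem odd_exp (K : Type v) [Field K] [Finite K] (h2 : (2 : K) = 0) :
    ∃ n, Odd n ∧ ∀ c : K, c ≠ 0 → c ^ n = 1 := by
  classical
  haveI := Fintype.ofFinite K
  haveI : CharP K 2 := CharTwo.of_one_ne_zero_of_two_eq_zero one_ne_zero h2
  refine ⟨Fintype.card K - 1, ?_, fun c hc => FiniteField.pow_card_sub_one_eq_one c hc⟩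
  have h := FiniteField.even_card_of_char_two (F := K) (ringChar.eq K 2)
  have := Fintype.card_pos (α := K)
  rw [Nat.odd_iff]; omega

variable {F E V : Type v} [Field F] [Field E] [AddCommGroup V] [Module E V] [Finite F] [Finite E]
  [Finite V] [FiniteDimensional E V] {i : F →+* E} {σ : E ≃+* E}
  {B : V →ₛₗ[(σ : E →+* E)] V →ₗ[E] E} {G : Type u} [Group G] [Finite G] {φ : sisom B →* G}
  {L : Subgroup G}

theorem el_eq (s : sisom B) {N : V → V} (h : ∀ x, s.1 x = N x) : el φ N = φ s := by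
  have k : ∃ s : sisom B, ∀ x, s.1 x = N x := ⟨s, h⟩
  rw [el, dif_pos k]
  exact congrArg φ (Subtype.ext (LinearEquiv.ext fun x => (k.choose_spec x).trans (h x).symm))

theorem iso (s : sisom B) (x y : V) : B (s.1 x) (s.1 y) = B x y := s.2.1 x y

theorem sext {s t : sisom B} (h : ∀ x, s.1 x = t.1 x) : s = t := Subtype.ext (LinearEquiv.ext h)

theorem mul_ap (s t : sisom B) (x : V) : (s * t).1 x = s.1 (t.1 x) := rfl

theorem pow_scal {s : sisom B} {c : E} (h : ∀ x, s.1 x = c • x) (n : ℕ) (x : V) :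
    (s ^ n).1 x = c ^ n • x := by
  induction n with
  | zero => simp
  | succ n ih => rw [pow_succ', mul_ap, ih, map_smul, h, smul_smul, pow_succ]

variable (c : UCtx i φ L)
include c

theorem v2 (x : V) : x + x = 0 := by rw [← two_smul E x, c.qf.two, zero_smul]

theorem twoF : (2 : F) = 0 := i.injective (by rw [map_ofNat, map_zero, c.qf.two])

theorem si_fix (a : F) : σ (i a) = i a := (c.qf.fix _).2 ⟨a, rfl⟩

theorem four_le : 4 ≤ finrank E V := by rcases c.dim with h | h <;> omega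

theorem exists_ne : ∃ x : V, x ≠ 0 := by
  have := four_le c
  exact (finrank_pos_iff_exists_ne_zero (R := E)).1 (by omega)

theorem memL (s : sisom B) : φ s ∈ L := c.mod.rng ▸ ⟨s, rfl⟩

theorem lift {g : G} (hg : g ∈ L) : ∃ s, φ s = g := by
  rw [← c.mod.rng] at hg; exact hg

theorem tt {v : V} (hv : B v v = 0) (a : F) : ∃ s : sisom B,
    (∀ x, s.1 x = x + (i a * B v x) • v) ∧ TT i φ v a = φ s := by
  have hc : i a + (σ : E →+* E) (i a) = 0 := by
    rw [RingHom.coe_coe, si_fix c, ← two_mul, c.qf.two, zero_mul]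
  exact ⟨⟨tv B v (i a) hv hc, c.mod.herm.tv_mem_sisom hv hc⟩, fun _ => rfl, el_eq _ fun _ => rfl⟩

theorem scal {s : sisom B} (h : φ s ∈ C[L]) : ∃ n, Odd n ∧ s ^ n = 1 := by
  obtain ⟨a, ha⟩ := c.mod.ker s h
  obtain ⟨n, hn, k⟩ := odd_exp E c.qf.two
  obtain ⟨x, hx⟩ := exists_ne c
  refine ⟨n, hn, sext fun y => ?_⟩
  rw [pow_scal ha, k a fun e => hx (s.1.injective (by rw [ha, e, zero_smul, map_zero])), one_smul]
  rfl

theorem zodd {z : G} (hz : z ∈ Z[L]) : Odd (orderOf z) := by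
  obtain ⟨s, rfl⟩ := lift c hz.1
  obtain ⟨n, hn, e⟩ := scal c hz.2
  exact hn.of_dvd_nat (orderOf_dvd_of_pow_eq_one (by rw [← map_pow, e, map_one]))

theorem lift2 {b : G} (hb : b ∈ L) (h : b * b = 1) : ∃ s : sisom B, φ s = b ∧ s * s = 1 := by
  obtain ⟨s, rfl⟩ := lift c hb
  obtain ⟨n, ⟨k, rfl⟩, e⟩ := scal c (s := s * s) (by rw [map_mul, h]; exact one_mem _)
  refine ⟨s ^ (2 * k + 1), ?_, by rw [← (Commute.refl s).mul_pow, e]⟩
  rw [map_pow, pow_succ, pow_mul, pow_two, h, one_pow, one_mul]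

/-- An element whose image commutes with the image of an involution commutes with it. -/
theorem comm2 {s t : sisom B} (hs : s * s = 1) (h : Commute (φ t) (φ s)) : Commute t s := by
  obtain ⟨a, ha⟩ := c.mod.ker (t * s * t⁻¹ * s) (by
    rw [map_mul, map_mul, map_mul, map_inv, h.eq, mul_inv_cancel_right, ← map_mul, hs, map_one]
    exact one_mem _)
  have ss : ∀ x, s.1 (s.1 x) = x := fun x => by rw [← mul_ap, hs]; rfl
  have k : ∀ x, (t * s * t⁻¹).1 x = a • s.1 x := fun x => by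
    rw [← ha, mul_ap _ s, ss]
  obtain ⟨x, hx⟩ := exists_ne c
  have k2 : (a * a) • x = x := by
    have e : (t * s * t⁻¹ * (t * s * t⁻¹)).1 x = x := by
      rw [conj_mul, hs, mul_one, mul_inv_cancel]; rfl
    rwa [mul_ap, k, k, map_smul, ss, smul_smul] at e
  have k3 : a = 1 := by
    have e : a * a = 1 := by
      by_contra e
      exact hx (by
        have : (a * a - 1) • x = 0 := by rw [sub_smul, k2, one_smul, sub_self]
        exact (smul_eq_zero.1 this).resolve_left (sub_ne_zero.2 e))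
    have : (a - 1) ^ 2 = 0 := by linear_combination e + (1 - a) * c.qf.two
    exact sub_eq_zero.1 (pow_eq_zero_iff two_ne_zero |>.1 this)
  have : t * s * t⁻¹ = s := sext fun x => by rw [k, k3, one_smul]
  exact mul_inv_eq_iff_eq_mul.1 this

theorem TT_add {v : V} (hv : B v v = 0) (a b : F) : TT i φ v (a + b) = TT i φ v a * TT i φ v b := by
  obtain ⟨s, hs, e⟩ := tt c hv a
  obtain ⟨t, ht, e'⟩ := tt c hv b
  rw [e, e', ← map_mul]
  refine el_eq _ fun x => ?_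
  rw [mul_ap, hs, ht, map_add, smul_right, hv, map_add]
  module

theorem TT_zero (v : V) : TT i φ v 0 = 1 := by
  rw [← map_one φ]
  exact el_eq _ fun x => by simp

theorem mem_ZV {v : V} (hv : B v v = 0) {g : G} : g ∈ ZV i φ v ↔ ∃ a, g = TT i φ v a := by
  refine ⟨fun h => ?_, fun ⟨a, e⟩ => subset_closure ⟨a, e.symm⟩⟩
  induction h using closure_induction with
  | mem x hx => obtain ⟨a, rfl⟩ := hx; exact ⟨a, rfl⟩
  | one => exact ⟨0, (TT_zero c v).symm⟩
  | mul x y _ _ hx hy =>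
    obtain ⟨a, rfl⟩ := hx
    obtain ⟨b, rfl⟩ := hy
    exact ⟨a + b, (TT_add c hv a b).symm⟩
  | inv x _ hx =>
    obtain ⟨a, rfl⟩ := hx
    exact ⟨-a, by rw [eq_comm, ← mul_eq_one_iff_eq_inv, ← TT_add c hv, neg_add_cancel, TT_zero c]⟩

theorem TT_conj (s : sisom B) {v : V} (hv : B v v = 0) (a : F) :
    φ s * TT i φ v a * (φ s)⁻¹ = TT i φ (s.1 v) a := by
  obtain ⟨t, ht, e⟩ := tt c hv a
  rw [e, ← map_inv, ← map_mul, ← map_mul]
  refine (el_eq _ fun x => ?_).symm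
  obtain ⟨y, rfl⟩ := s.1.surjective x
  rw [mul_ap, mul_ap, show (s⁻¹).1 (s.1 y) = y from inv_apply_apply s.1 y, ht, map_add, map_smul, iso]

theorem TT_act {g : G} (hg : g ∈ N[L]) : ∃ f : V ≃+ V, (∀ x, B (f x) (f x) = 0 ↔ B x x = 0) ∧
    ∀ v, B v v = 0 → ∀ a, ∃ a', g * TT i φ v a * g⁻¹ = TT i φ (f v) a' := by
  obtain ⟨f, θ, h1, h2⟩ := c.mod.ext g hg
  refine ⟨f, fun x => by rw [h1.form, map_eq_zero], fun v hv a => ?_⟩
  obtain ⟨x, hx⟩ := exists_ne c
  obtain ⟨y, hy⟩ := c.mod.herm.exists_eq_one hx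
  obtain ⟨a', ha'⟩ := (c.qf.fix (θ (i a))).1 (by
    have e : B x (i a • y) = i a := by rw [smul_right, hy, mul_one]
    have e1 := c.mod.herm.symm (f x) (f (i a • y))
    rw [h1.form, h1.form, ← c.mod.herm.symm x, e, RingHom.coe_coe, si_fix c] at e1
    exact e1)
  obtain ⟨t, ht, e⟩ := tt c hv a
  obtain ⟨t', h3, h4⟩ := h2 t
  refine ⟨a', ?_⟩
  rw [e, h4]
  refine (el_eq _ fun z => ?_).symm
  obtain ⟨z, rfl⟩ := f.surjective z
  rw [h3, ht, map_add, h1.smul, map_mul, h1.form, ha']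

theorem trans {v w : V} (hv : Pt B v) (hw : Pt B w) : ∃ s : sisom B, s.1 v = w := by
  have hB := c.mod.herm
  obtain ⟨g, hg, e⟩ := hB.witt_one hv.2 hw.2 (hv.1.trans hw.1.symm)
  obtain ⟨d, hd, h⟩ : ∃ d ∈ perp B (E ∙ v), B d d ≠ 0 := by
    by_contra! k
    have h1 : perp B (E ∙ v) ≤ perp B (perp B (E ∙ v)) := fun x hx y hy =>
      hB.eq_zero_of_norm_zero k hy hx
    rw [hB.perp_perp] at h1
    have h2 := Submodule.finrank_mono h1
    have h3 := hB.finrank_add_finrank_perp (E ∙ v)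
    have := four_le c
    rw [finrank_span_singleton hv.2] at h2 h3
    omega
  obtain ⟨g', hg', h1, -⟩ := hB.exists_sisom_of_isom hg h
  exact ⟨⟨g', hg'⟩, (h1 v (hB.flip_zero (mem_perp_span_singleton.1 hd))).trans e⟩

theorem mem_rtz {v w : V} (hv : Pt B v) (hw : Pt B w) {a : F} (h : TT i φ w a ≠ 1) :
    TT i φ w a ∈ RtZ L (ZV i φ v) := by
  obtain ⟨s, rfl⟩ := trans c hv hw
  rw [← TT_conj c s hv.1] at h ⊢
  exact ⟨φ s, memL c s, _, (mem_ZV c hv.1).2 ⟨a, rfl⟩, fun e => h (by simp [e]), rfl⟩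

theorem nrs {v : V} (hv : Pt B v) {g : G} (hg : g ∈ N[L]) {r : G} (hr : r ∈ RtZ L (ZV i φ v)) :
    g * r * g⁻¹ ∈ RtZ L (ZV i φ v) := by
  obtain ⟨l, hl, z, hz, h1, rfl⟩ := hr
  obtain ⟨a, rfl⟩ := (mem_ZV c hv.1).1 hz
  obtain ⟨f, h2, h3⟩ := TT_act c (mul_mem hg (le_normalizer hl))
  obtain ⟨a', e⟩ := h3 v hv.1 a
  rw [show g * (l * TT i φ v a * l⁻¹) * g⁻¹ = g * l * TT i φ v a * (g * l)⁻¹ by group, e]
  exact mem_rtz c hv ⟨(h2 v).2 hv.1, (map_ne_zero_iff f f.injective).2 hv.2⟩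
    fun k => h1 (conj_eq_one_iff.1 (e.trans k))

/-- The number of isotropic vectors is even. -/
theorem even_iso {v : V} (hv : Pt B v) : 2 ∣ Nat.card {x : V // B x x = 0} := by
  classical
  haveI : Fact (Nat.Prime 2) := ⟨Nat.prime_two⟩
  haveI := Fintype.ofFinite {x : V // B x x = 0}
  let k : V → E := fun x => if B v x = 0 then 1 else B v x
  have k0 : ∀ x, k x ≠ 0 := fun x => by
    simp only [k]; split_ifs with h
    exacts [one_ne_zero, h]
  have k1 : ∀ x, k (x + k x • v) = k x := fun x => by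
    simp only [k, map_add, smul_right, hv.1, mul_zero, add_zero]
  let f : {x : V // B x x = 0} → {x : V // B x x = 0} := fun x => ⟨x.1 + k x.1 • v, by
    rw [add_left, map_add, map_add, smul_left, smul_left, smul_right, smul_right, x.2, hv.1,
      ← c.mod.herm.symm v x.1]
    simp only [k]; split_ifs with h
    · simp [h]
    · linear_combination (B v x.1 * (σ : E →+* E) (B v x.1)) * c.qf.two⟩
  have hf : Function.Involutive f := fun x => Subtype.ext (by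
    show x.1 + k x.1 • v + k (x.1 + k x.1 • v) • v = x.1
    rw [k1, add_assoc, v2 c, add_zero])
  by_contra h
  rw [Nat.card_eq_fintype_card] at h
  obtain ⟨x, hx⟩ := Equiv.Perm.exists_fixed_point_of_prime (n := 1) h (σ := hf.toPerm)
    (by ext x; simp [pow_two, hf x])
  have e : x.1 + k x.1 • v = x.1 := congrArg Subtype.val hx
  exact smul_ne_zero (k0 x.1) hv.2 (add_eq_left.1 e)

theorem two {v : V} (hv : Pt B v) {u : G} (hu : u ∈ N[L]) (h : u * u = 1) :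
    ∃ l ∈ L, l * u * l⁻¹ ∈ N[ZV i φ v] := by
  classical
  haveI : Fact (Nat.Prime 2) := ⟨Nat.prime_two⟩
  haveI := Fintype.ofFinite {x : V // B x x = 0}
  obtain ⟨f, h1, h2⟩ := TT_act c hu
  let π : Equiv.Perm {x : V // B x x = 0} := Equiv.Perm.subtypePerm f.toEquiv h1
  have key : ∀ n : ℕ, (π ^ n) ⟨0, map_zero _⟩ = ⟨0, map_zero _⟩ ∧
      ∀ x a, ∃ a', u ^ n * TT i φ x.1 a * (u ^ n)⁻¹ = TT i φ ((π ^ n) x).1 a' := fun n => by
    induction n with
    | zero => exact ⟨rfl, fun x a => ⟨a, by simp⟩⟩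
    | succ n ih =>
      refine ⟨by rw [pow_succ', Equiv.Perm.mul_apply, ih.1]; exact Subtype.ext (map_zero f), fun x a => ?_⟩
      obtain ⟨b, e⟩ := ih.2 x a
      obtain ⟨b', e'⟩ := h2 _ ((π ^ n) x).2 b
      refine ⟨b', ?_⟩
      rw [pow_succ', pow_succ', Equiv.Perm.mul_apply, show u * u ^ n * TT i φ x.1 a * (u * u ^ n)⁻¹ =
        u * (u ^ n * TT i φ x.1 a * (u ^ n)⁻¹) * u⁻¹ by group, e, e']
      rfl
  obtain ⟨k, m, hm, e⟩ := Nat.exists_eq_two_pow_mul_odd (orderOf_pos π).ne'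
  obtain ⟨w, hw, hw0⟩ := Equiv.Perm.exists_fixed_point_of_prime' (p := 2) (n := k)
    (by rw [← Nat.card_eq_fintype_card]; exact even_iso c hv) (σ := π ^ m)
    (by rw [← pow_mul, mul_comm, ← e, pow_orderOf_eq_one]) (key m).1
  have hw' : Pt B w.1 := ⟨w.2, fun e => hw0 (Subtype.ext e)⟩
  obtain ⟨s, hs⟩ := trans c hw' hv
  have um : u ^ m = u := by
    obtain ⟨j, rfl⟩ := hm
    rw [pow_succ, pow_mul, pow_two, h, one_pow, one_mul]
  refine ⟨φ s, memL c s, mem_N_of_conj fun z hz => ?_⟩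
  obtain ⟨a, rfl⟩ := (mem_ZV c hv.1).1 hz
  obtain ⟨a', e'⟩ := (key m).2 w a
  rw [um, hw] at e'
  refine (mem_ZV c hv.1).2 ⟨a', ?_⟩
  rw [← hs, ← TT_conj c s w.2, ← TT_conj c s w.2, ← e']
  group

/-! ### Involutions -/

omit c in
/-- The commutator space of an isometry. -/
def im (s : sisom B) : Submodule E V := LinearMap.range ((s.1 : V →ₗ[E] V) - LinearMap.id)

omit c in
theorem mem_im {s : sisom B} {y : V} : y ∈ im s ↔ ∃ x, s.1 x - x = y := Iff.rfl

theorem perp_im {s : sisom B} {y : V} : y ∈ perp B (im s) ↔ s.1 y = y := by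
  refine ⟨fun h => c.mod.herm.ext_right fun z => ?_, fun h z hz => ?_⟩
  · obtain ⟨x, rfl⟩ := s.1.surjective z
    have e := h _ (mem_im.2 ⟨x, rfl⟩)
    rw [sub_left, sub_eq_zero] at e
    rw [iso, e]
  · obtain ⟨x, rfl⟩ := mem_im.1 hz
    rw [sub_left, sub_eq_zero]
    conv_lhs => rw [← h]
    exact iso s x y

theorem fix_im {s : sisom B} (hs : s * s = 1) {y : V} (hy : y ∈ im s) : s.1 y = y := by
  obtain ⟨x, rfl⟩ := mem_im.1 hy
  rw [map_sub, ← mul_ap, hs, ← sub_eq_zero]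
  have := v2 c (x - s.1 x)
  rw [← this]
  show x - s.1 x - (s.1 x - x) = _
  abel

theorem tot_im {s : sisom B} (hs : s * s = 1) : TotIso B (im s) :=
  totIso_iff_le_perp.2 fun _ hy => (perp_im c).2 (fix_im c hs hy)

omit c in
theorem R0_perp {S : Submodule E V} {r : sisom B} (hr : r ∈ R0 B S) (x : V) :
    r.1 x - x ∈ perp B S := fun y hy => by
  rw [map_sub, sub_eq_zero]
  conv_lhs => rw [← hr.1 y hy]
  exact iso r y x

theorem R0_comm {s r : sisom B} (hr : r ∈ R0 B (im s)) : Commute r s := sext fun x => by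
  have e1 := hr.1 _ (mem_im.2 ⟨x, rfl⟩)
  have e2 := (perp_im c).1 (R0_perp hr x)
  rw [map_sub, sub_eq_iff_eq_add] at e1 e2
  rw [mul_ap, mul_ap, e1, e2]
  abel

theorem R0_four {S : Submodule E V} {r : sisom B} (hr : r ∈ R0 B S) : r ^ 2 ^ 2 = 1 := by
  have k : ∀ x, r.1 (r.1 x) - x ∈ S := fun x => by
    have e := hr.2 _ (R0_perp hr x)
    have e2 := v2 c (r.1 x - x)
    rwa [map_sub, show r.1 (r.1 x) - r.1 x - (r.1 x - x) =
      r.1 (r.1 x) - x - (r.1 x - x + (r.1 x - x)) by abel, e2, sub_zero] at e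
  refine sext fun x => ?_
  have e := k x
  have e1 : r.1 (r.1 (r.1 (r.1 x) - x)) = r.1 (r.1 x) - x := by rw [hr.1 _ e, hr.1 _ e]
  rw [map_sub, map_sub, sub_eq_iff_eq_add] at e1
  show r.1 (r.1 (r.1 (r.1 x))) = x
  rw [e1, sub_add_eq_add_sub, v2 c, zero_sub, neg_eq_iff_add_eq_zero, v2 c]

omit c in
theorem R0_conj {s t r : sisom B} (h : Commute t s) (hr : r ∈ R0 B (im s))
    (hp : ∀ y, y ∈ perp B (im s) ↔ s.1 y = y) : t * r * t⁻¹ ∈ R0 B (im s) := by
  have k : ∀ t : sisom B, Commute t s → ∀ y ∈ im s, t.1 y ∈ im s := fun t h y hy => by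
    obtain ⟨x, rfl⟩ := mem_im.1 hy
    exact mem_im.2 ⟨t.1 x, by rw [map_sub, ← mul_ap, ← mul_ap, h.eq]⟩
  have a : ∀ x, t.1 ((t⁻¹).1 x) = x := fun x => apply_inv_apply t.1 x
  refine ⟨fun x hx => by rw [mul_ap, mul_ap, hr.1 _ (k _ h.inv_left x hx), a], fun x hx => ?_⟩
  have e := k t h _ (hr.2 ((t⁻¹).1 x) ((hp _).2 (by
    rw [← mul_ap, ← h.inv_left.eq, mul_ap, (hp x).1 hx])))
  rwa [map_sub, a] at e

theorem as_sq (kA : KitA i φ L) {S : Submodule E V} (hS : TotIso B S) {g : G} (hg : g ∈ AS i φ S) :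
    g ∈ L ∧ g ∈ RS φ S ∧ g * g = 1 := by
  obtain ⟨r, rfl, h1, h2⟩ := (kA.as S hS g).1 hg
  have h3 : ∀ x ∈ S, r.1 x = x := fun x hx => h2 x (totIso_iff_le_perp.1 hS hx)
  refine ⟨memL c r, ⟨r, ⟨h3, fun x _ => h1 x⟩, rfl⟩, ?_⟩
  rw [← map_mul, ← map_one φ]
  refine congrArg φ (sext fun x => ?_)
  have e := h3 _ (h1 x)
  rw [map_sub, sub_eq_iff_eq_add] at e
  show r.1 (r.1 x) = x
  rw [e, sub_add_eq_add_sub, v2 c, zero_sub, neg_eq_iff_add_eq_zero, v2 c]

omit c in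
theorem im_ne {s : sisom B} (h : φ s ≠ 1) : im s ≠ ⊥ := fun e => h (by
  rw [← map_one φ]
  exact congrArg φ (sext fun x => sub_eq_zero.1 ((Submodule.mem_bot E).1 (e ▸ mem_im.2 ⟨x, rfl⟩))))

theorem oc (kA : KitA i φ L) {b : G} (hb : b ∈ L) (h : orderOf b = 2) {O : Subgroup G}
    (h1 : O ≤ L ⊓ C1[b]) (h2 : Odd (Nat.card O)) (h3 : L ⊓ C1[b] ≤ N[O]) : O ≤ C[L] := fun o ho => by
  obtain ⟨s, rfl, hs⟩ := lift2 c hb (by rw [← pow_two, ← h, pow_orderOf_eq_one])
  have hS := tot_im c hs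
  obtain ⟨t, rfl⟩ := lift c (h1 ho).1
  have ht := comm2 c hs (mem_C1.1 (h1 ho).2)
  have k := kA.fs _ hS (im_ne fun e => by rw [e, orderOf_one] at h; omega) (φ t)
    ⟨le_normalizer (memL c t), mem_C ?_⟩
  · have hA : AS i φ (im s) ≤ N[C[L]] := fun a ha => mem_N_of_conj fun k hk => by
      rw [← (comm_of_C hk (as_sq c kA hS ha).1).eq, mul_inv_cancel_right]; exact hk
    obtain ⟨a, ha, k, hk, e⟩ := (coe_mul_of_left_le_normalizer_right _ _ hA).le k
    obtain ⟨j, hj⟩ := odd_orderOf_of_mem h2 ho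
    have e1 : φ t * φ t = k * k := by
      rw [← show a * k = φ t from e, (comm_of_C hk (as_sq c kA hS ha).1).mul_mul_mul_comm,
        (as_sq c kA hS ha).2.2, one_mul]
    have e2 : φ t = (k * k) ^ (j + 1) := by
      rw [← e1, ← pow_two, ← pow_mul, show 2 * (j + 1) = 2 * j + 1 + 1 by ring, ← hj, pow_succ,
        pow_orderOf_eq_one, one_mul]
    rw [e2]
    exact pow_mem (mul_mem hk hk) _
  · rintro _ ⟨r, hr, rfl⟩
    refine commutatorElement_eq_one_iff_commute.1 (eq_one_of_is2 ⟨2, ?_⟩ (odd_orderOf_of_mem h2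
      (comm_mem_left (h3 ⟨memL c r, mem_C1.2 ((R0_comm c hr).map φ)⟩) ho)))
    rw [← map_commutatorElement, ← map_pow, R0_four c (S := im s), map_one]
    exact mul_mem (R0_conj ht hr fun _ => perp_im c) (inv_mem hr)

/-! ### Subgroups of index two of `A_S` -/

omit c in
theorem chi {A A0 : Subgroup G} (h1 : A0 ≤ A) (h2 : Nat.card A ≤ 2 * Nat.card A0) :
    ∃ χ : G → ZMod 2, (∀ g, χ g = 0 ↔ g ∈ A0) ∧ ∀ g ∈ A, ∀ g' ∈ A, χ (g * g') = χ g + χ g' := by
  classical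
  refine ⟨fun g => if g ∈ A0 then 0 else 1, fun g => by simp, fun g hg g' hg' => ?_⟩
  have e := (A0.subgroupOf A).index_mul_card
  rw [Nat.card_congr (subgroupOfEquivOfLe h1).toEquiv] at e
  have p : 0 < Nat.card A0 := Nat.card_pos
  have i0 : (A0.subgroupOf A).index ≠ 0 := index_ne_zero_of_finite
  have i2 : (A0.subgroupOf A).index ≤ 2 := by nlinarith
  have key : g * g' ∈ A0 ↔ (g ∈ A0 ↔ g' ∈ A0) := by
    rcases (by omega : (A0.subgroupOf A).index = 1 ∨ (A0.subgroupOf A).index = 2) with k | k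
    · have k' : ∀ g ∈ A, g ∈ A0 := fun g hg => (index_eq_one.1 k).ge (mem_top (⟨g, hg⟩ : A))
      simp [k' g hg, k' g' hg', k' _ (mul_mem hg hg')]
    · exact mul_mem_iff_of_index_two k (a := ⟨g, hg⟩) (b := ⟨g', hg'⟩)
  by_cases a : g ∈ A0 <;> by_cases b : g' ∈ A0 <;> simp [key, a, b]
  decide

omit c in
variable (B) in
/-- `1 + M` is an isometry in `A_S`. -/
def Gd (S : Submodule E V) (M : V → V) : Prop :=
  ∃ s : sisom B, (∀ x, s.1 x = x + M x) ∧ (∀ x, M x ∈ S) ∧ ∀ x ∈ perp B S, M x = 0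

omit c in
theorem Gd.mem (kA : KitA i φ L) {S : Submodule E V} (hS : TotIso B S) {M : V → V} (h : Gd B S M) :
    el φ (fun x => x + M x) ∈ AS i φ S := by
  obtain ⟨s, h1, h2, h3⟩ := h
  exact (kA.as S hS _).2 ⟨s, (el_eq s h1).symm, fun x => by rw [h1, add_sub_cancel_left]; exact h2 x,
    fun x hx => by rw [h1, h3 x hx, add_zero]⟩

omit c in
theorem Gd.add {S : Submodule E V} (hS : TotIso B S) {M M' : V → V} (h : Gd B S M) (h' : Gd B S M') :
    Gd B S (M + M') ∧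
      el φ (fun x => x + (M + M') x) = el φ (fun x => x + M x) * el φ (fun x => x + M' x) := by
  obtain ⟨s, h1, h2, h3⟩ := h
  obtain ⟨s', h1', h2', h3'⟩ := h'
  have k : ∀ x, (s * s').1 x = x + (M + M') x := fun x => by
    rw [mul_ap, h1', map_add, h1, h1, h3 _ (totIso_iff_le_perp.1 hS (h2' x)), add_zero, add_assoc]
    rfl
  exact ⟨⟨s * s', k, fun x => S.add_mem (h2 x) (h2' x), fun x hx => by
    rw [Pi.add_apply, h3 x hx, h3' x hx, add_zero]⟩, by rw [el_eq _ k, el_eq _ h1, el_eq _ h1', map_mul]⟩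

theorem gd_tt {S : Submodule E V} (hS : TotIso B S) {z : V} (hz : z ∈ S) (a : F) :
    Gd B S fun x => (i a * B z x) • z := by
  obtain ⟨s, hs, -⟩ := tt c (hS z hz z hz) a
  exact ⟨s, hs, fun x => S.smul_mem _ hz, fun x hx => by simp only [hx z hz, mul_zero, zero_smul]⟩

theorem exists_pt (kA : KitA i φ L) {S : Submodule E V} (hS : TotIso B S) {x y : V} (hx : x ∈ S)
    (hy : y ∈ S) (h0 : y ≠ 0) (hxy : x ∉ E ∙ y) {A0 : Subgroup G} (h1 : A0 ≤ AS i φ S)
    (h2 : Nat.card (AS i φ S) ≤ 2 * Nat.card A0) : ∃ z ∈ S, z ≠ 0 ∧ ∀ a, TT i φ z a ∈ A0 := by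
  obtain ⟨χ0, c0, c1⟩ := chi h1 h2
  let χ : (V → V) → ZMod 2 := fun M => χ0 (el φ fun x => x + M x)
  have ad : ∀ M M', Gd B S M → Gd B S M' → χ (M + M') = χ M + χ M' := fun M M' h h' => by
    simp only [χ]
    rw [(h.add (φ := φ) hS h').2, c1 _ (h.mem kA hS) _ (h'.mem kA hS)]
  let t : V → F → V → V := fun z a w => (i a * B z w) • z
  let b : E → V → V := fun e w => (e * B x w) • y + (σ e * B y w) • x
  have ht : ∀ z ∈ S, ∀ a, Gd B S (t z a) := fun z hz a => gd_tt c hS hz a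
  have rel : ∀ (e : E) (a n : F), i n = e * σ e →
      t (x + e • y) a = t x a + t y (n * a) + b (i a * e) := fun e a n hn => by
    funext w
    simp only [t, b, Pi.add_apply, add_left, smul_left, map_mul, hn, si_fix c, RingHom.coe_coe]
    module
  have nm : ∀ e : E, ∃ n, i n = e * σ e := fun e => by
    obtain ⟨n, hn⟩ := (c.qf.fix (e * σ e)).1 (by rw [map_mul, c.qf.sq, mul_comm])
    exact ⟨n, hn.symm⟩
  have hb : ∀ e, Gd B S (b e) := fun e => by
    obtain ⟨n, hn⟩ := nm e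
    have e1 : b e = t (x + e • y) 1 + (t x 1 + t y (n * 1)) := by
      rw [rel e 1 n hn, map_one, one_mul]
      funext w
      simp only [Pi.add_apply]
      rw [add_right_comm, v2 c, zero_add]
    rw [e1]
    exact ((ht _ (S.add_mem hx (S.smul_mem e hy)) 1).add (φ := φ) hS
      ((ht x hx 1).add (φ := φ) hS (ht y hy _)).1).1
  have tadd : ∀ z a a', t z (a + a') = t z a + t z a' := fun z a a' => by
    funext w
    simp only [t, Pi.add_apply, map_add]
    module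
  have badd : ∀ e e', b (e + e') = b e + b e' := fun e e' => by
    funext w
    simp only [b, Pi.add_apply, map_add]
    module
  obtain ⟨τ, hτ⟩ := rep2 F (twoF c)
  have rt : ∀ z ∈ S, ∃ α, ∀ a, χ (t z a) = τ (α * a) := fun z hz =>
    hτ (AddMonoidHom.mk' (fun a => χ (t z a)) fun a a' => by
      rw [tadd, ad _ _ (ht z hz a) (ht z hz a')])
  have rb : ∀ e, ∃ α, ∀ a, χ (b (i a * e)) = τ (α * a) := fun e =>
    hτ (AddMonoidHom.mk' (fun a => χ (b (i a * e))) fun a a' => by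
      rw [map_add, add_mul, badd, ad _ _ (hb _) (hb _)])
  choose κ hκ using rb
  obtain ⟨e1, e2, ne, ek⟩ : ∃ e1 e2, e1 ≠ e2 ∧ κ e1 = κ e2 := by
    by_contra! k
    have := Nat.card_le_card_of_injective κ fun a b h => by_contra fun h' => k a b h' h
    have := Finite.one_lt_card (α := F)
    have := c.qf.card
    nlinarith
  have e0 : e1 + e2 ≠ 0 := fun e => ne (by linear_combination e - e2 * c.qf.two)
  have z2 : ∀ u : ZMod 2, u + u = 0 := by decide
  have hb0 : ∀ a, χ (b (i a * (e1 + e2))) = 0 := fun a => by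
    rw [mul_add, badd, ad _ _ (hb _) (hb _), hκ, hκ, ek, z2]
  obtain ⟨α, hα⟩ := rt x hx
  obtain ⟨β, hβ⟩ := rt y hy
  by_cases k : β = 0
  · exact ⟨y, hy, h0, fun a => (c0 _).1 (by
      have := hβ a
      rwa [k, zero_mul, map_zero] at this)⟩
  obtain ⟨n, hn⟩ := nm (e1 + e2)
  have n0 : n ≠ 0 := fun e => by
    rw [e, map_zero] at hn
    exact mul_ne_zero e0 ((map_ne_zero σ).2 e0) hn.symm
  obtain ⟨r, hr⟩ := exists_sq (twoF c) (α / (β * n))
  refine ⟨x + (i r * (e1 + e2)) • y, S.add_mem hx (S.smul_mem _ hy), fun e => hxy ?_,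
    fun a => (c0 _).1 ?_⟩
  · rw [eq_neg_of_add_eq_zero_left e]
    exact neg_mem (Submodule.smul_mem _ _ (Submodule.mem_span_singleton_self y))
  · show χ (t _ a) = 0
    rw [rel _ a (r * r * n) (by rw [map_mul, map_mul, hn, map_mul, si_fix c]; ring),
      ad _ _ ((ht x hx _).add (φ := φ) hS (ht y hy _)).1 (hb _), ad _ _ (ht x hx _) (ht y hy _),
      ← mul_assoc (i a), ← map_mul, hb0, hα, hβ, hr, add_zero,
      show β * (α / (β * n) * n * a) = α * a by field_simp, z2]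

theorem line2 (kA : KitA i φ L) {v : V} (hv : Pt B v) {a : G} (ha : a ∈ L) (h : a * a = 1)
    (h1 : a ≠ 1) (h2 : a ∉ RtZ L (ZV i φ v)) : ∃ A : Subgroup G, A ≤ L ⊓ C1[a] ∧
    (∀ e ∈ A, e * e = 1) ∧ ∀ A0 : Subgroup G, A0 ≤ A → Nat.card A ≤ 2 * Nat.card A0 →
      ∃ l ∈ L, cj l (ZV i φ v) ≤ A0 := by
  obtain ⟨s, rfl, hs⟩ := lift2 c ha h
  have hS := tot_im c hs
  obtain ⟨y, hy, h0⟩ := Submodule.exists_mem_ne_zero_of_ne_bot (im_ne h1)
  have hy' : Pt B y := ⟨hS y hy y hy, h0⟩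
  obtain ⟨x, hx, hxy⟩ : ∃ x ∈ im s, x ∉ E ∙ y := by
    by_contra! k
    have e : im s = E ∙ y := le_antisymm k ((Submodule.span_singleton_le_iff_mem _ _).2 hy)
    have k1 : AS i φ (im s) ≤ ZV i φ y := (closure_le _).2 (by
      rintro _ ⟨z, hz, b, rfl⟩
      obtain ⟨d, rfl⟩ := Submodule.mem_span_singleton.1 (k z hz)
      obtain ⟨n, hn⟩ := (c.qf.fix (d * σ d)).1 (by rw [map_mul, c.qf.sq, mul_comm])
      refine (mem_ZV c hy'.1).2 ⟨n * b, congrArg (el φ) (funext fun w => ?_)⟩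
      rw [smul_left, map_mul, ← hn, smul_smul, RingHom.coe_coe]
      congr 2; ring)
    obtain ⟨b, hb⟩ := (mem_ZV c hy'.1).1 (k1 ((kA.as _ hS _).2
      ⟨s, rfl, fun x => mem_im.2 ⟨x, rfl⟩, fun x hx => (perp_im c).1 hx⟩))
    exact h2 (hb ▸ mem_rtz c hv hy' (hb ▸ h1))
  refine ⟨AS i φ (im s), fun g hg => ⟨(as_sq c kA hS hg).1, ?_⟩, fun g hg => (as_sq c kA hS hg).2.2,
    fun A0 k1 k2 => ?_⟩
  · obtain ⟨r, hr, rfl⟩ := (as_sq c kA hS hg).2.1
    exact mem_C1.2 ((R0_comm c hr).map φ)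
  · obtain ⟨z, hz, z0, k⟩ := exists_pt c kA hS hx hy h0 hxy k1 k2
    obtain ⟨l, rfl⟩ := trans c hv ⟨hS z hz z hz, z0⟩
    refine ⟨φ l, memL c l, ?_⟩
    rintro _ ⟨g, hg, rfl⟩
    obtain ⟨b, rfl⟩ := (mem_ZV c hv.1).1 hg
    show φ l * TT i φ v b * (φ l)⁻¹ ∈ A0
    rw [TT_conj c l hv.1 b]
    exact k b

end Cfsg.Agent.H28.U6.H29.UmSI
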