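import Mathlib
import Cfsg.Agent.H28.U6Defs
import Cfsg.Agent.H28.U6SI
import Cfsg.Agent.H28.U6HeisA
import Cfsg.Agent.H28.U6KitB
import Cfsg.Agent.H28.U6Inn

/-!
# The end game for a graph involution of a unitary group: root elements near `Z`
-/

set_option autoImplicit false
set_option linter.unusedSectionVars false

namespace Cfsg.Agent.H28.U6.H29.UeGeo

open Cfsg.Agent.H29

open Cfsg Cfsg.Agent.H63 Cfsg.Agent.H63.SL Cfsg.Agent.H34 Cfsg.Agent.H34.TW Cfsg.Agent.H34.UM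
  Cfsg.Agent.H34.UE Cfsg.Agent.H31 Subgroup Module
open Cfsg.Agent.H8 (IsSylowIn)
open Cfsg.Agent.H27.End (Rt mem_C mem_C1 comm_of_C conj_mem is2_of_sq is2_of_mem mem_N_of_conj)
open Cfsg.Agent.H28.U6.H22.UH (TT_line line_of_N semi_s act_s fix_of_is2 eq_of_fix EE_sq pQ nQ lift_sub
  fix2 even_sub C_of_fix)
open Cfsg.Agent.H28.U6.H29.UmSI (im mem_im)
open scoped commutatorElement

universe u v

variable {F E V : Type v} [Field F] [Field E] [AddCommGroup V] [Module E V] [Finite F] [Finite E]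
  [Finite V] [FiniteDimensional E V] {i : F →+* E} {σ : E ≃+* E}
  {B : V →ₛₗ[(σ : E →+* E)] V →ₗ[E] E} {G : Type u} [Group G] [Finite G] {φ : sisom B →* G}
  {L : Subgroup G}

theorem mem_pair {x y z : V} : z ∈ Submodule.span E {x, y} ↔ ∃ a b : E, a • x + b • y = z :=
  Submodule.mem_span_pair

theorem rank_pair {x y : V} (hx : x ≠ 0) (hy : y ∉ E ∙ x) :
    finrank E (Submodule.span E {x, y}) = 2 := by
  have h : LinearIndependent E ![x, y] := (LinearIndependent.pair_iff' hx).2 fun a e =>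
    hy (Submodule.mem_span_singleton.2 ⟨a, e⟩)
  have := finrank_span_eq_card h
  rwa [Matrix.range_cons_cons_empty, Fintype.card_fin] at this

theorem R0_cj {S : Submodule E V} {t r : sisom B} (h1 : ∀ y ∈ S, t.1 y ∈ S)
    (h2 : ∀ y ∈ S, (t⁻¹).1 y ∈ S) (hr : r ∈ R0 B S) : t * r * t⁻¹ ∈ R0 B S := by
  refine ⟨fun x hx => by rw [mul_app, mul_app, hr.1 _ (h2 x hx), app_inv], fun x hx => ?_⟩
  have e := h1 _ (hr.2 ((t⁻¹).1 x) fun y hy => by
    rw [← iso_map t, app_inv]; exact hx _ (h1 y hy))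
  rwa [map_sub, app_inv] at e

variable (c : UCtx i φ L)
include c

theorem rt {v : V} (hv : Pt B v) {r : G} (hr : r ∈ Rt L (TT i φ v 1)) :
    ∃ x, Pt B x ∧ r = TT i φ x 1 := by
  obtain ⟨m, hm, rfl⟩ := hr
  obtain ⟨s, rfl⟩ := c.surj hm
  exact ⟨_, hv.map s, c.TT_conj s hv.1 1⟩

theorem mem_rt {v x : V} (hv : Pt B v) (hx : Pt B x) : TT i φ x 1 ∈ Rt L (TT i φ v 1) := by
  obtain ⟨s, rfl⟩ := c.trans hv hx
  exact ⟨φ s, c.mem s, (c.TT_conj s hv.1 1).symm⟩

theorem perp_of {v x : V} (hv : Pt B v) (hx : Pt B x) (h : Commute (TT i φ x 1) (TT i φ v 1)) :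
    B v x = 0 := by
  obtain ⟨s, h1, e⟩ := c.tt hx.1 1
  have e1 := c.TT_conj s hv.1 1
  rw [e, h.eq, mul_inv_cancel_right] at e1
  obtain ⟨l, hl⟩ := TT_line c (hv.map s) hv.1 one_ne_zero e1.symm
  have e2 := congrArg (B v) hl
  rw [h1, map_add, sm_right, sm_right, hv.1, mul_zero, zero_add, map_one, one_mul] at e2
  exact (mul_eq_zero.1 e2).elim c.flip id

theorem tt_C {v x : V} (hv : Pt B v) (hx : B x x = 0) (h : B v x = 0) (a : F) :
    TT i φ x a ∈ C[ZV i φ v] := mem_C fun z hz => by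
  obtain ⟨b, rfl⟩ := (c.mem_ZV hv.1).1 hz
  exact c.TT_comm hx hv.1 (c.flip h) a b

theorem fixv {v : V} (hv : Pt B v) {s : sisom B} (h2 : Is2 s) (h : φ s ∈ C[ZV i φ v]) :
    s.1 v = v := by
  obtain ⟨l, -, hl⟩ := line_of_N c (semi_s s) (act_s s) hv (centralizer_le_normalizer _ h)
  exact fix_of_is2 c h2 hv.2 hl

theorem pt {v : V} (hv : Pt B v) {r : G} (hr : r ∈ Rt L (TT i φ v 1))
    (h : Commute r (TT i φ v 1)) (h' : r * TT i φ v 1 ∈ Rt L (TT i φ v 1)) : r ∈ ZV i φ v := by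
  obtain ⟨x, hx, rfl⟩ := rt c hv hr
  obtain ⟨y, hy, e⟩ := rt c hv h'
  have h0 := perp_of c hv hx h
  by_cases k : x ∈ E ∙ v
  · exact c.AS_span v ▸ TT_mem_AS k 1
  obtain ⟨f, f', fr⟩ := c.exists_fr2' hv hx.1 h0 k
  obtain ⟨s, h1, e1⟩ := c.tt hx.1 1
  obtain ⟨t, h2, e2⟩ := c.tt hv.1 1
  obtain ⟨s', h3, e3⟩ := c.tt hy.1 1
  have k1 : ∀ z, (s * t).1 z = s'.1 z := fun z => by
    have hv' : B y v = 0 := perp_of c hy hv (by rw [← e]; exact h.symm.mul_right (Commute.refl _))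
    rw [eq_of_fix c (s := s * t) (s' := s') (by rw [map_mul, e1, e2, e3, e]) hv.2 (by
      rw [mul_app, h1, h2, h3]; simp [hv.1, c.flip h0, hv'])]
  have k2 := k1 f
  have k3 := k1 f'
  simp only [mul_app, h1, h2, h3, map_one, one_mul, map_add, sm_right, fr.ef, fr.ef', fr.o2,
    c.flip fr.o3, c.flip h0, mul_zero, add_zero, zero_smul, one_smul, add_right_inj] at k2 k3
  have k4 : B y f ≠ 0 := fun e => hv.2 (by rw [k2, e, zero_smul])
  exact absurd (Submodule.mem_span_singleton.2 ⟨B y f' * (B y f)⁻¹, by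
    rw [k3]; conv_lhs => rw [k2]
    rw [smul_smul, inv_mul_cancel_right₀ k4]⟩) k

theorem conn {v : V} (hv : Pt B v) {r : G} (hr : r ∈ Rt L (TT i φ v 1)) :
    ∃ r' ∈ RC L (ZV i φ v) (TT i φ v 1), Commute r r' := by
  obtain ⟨x, hx, rfl⟩ := rt c hv hr
  by_cases k : B v x = 0
  · exact ⟨_, ⟨mem_rt c hv hv, tt_C c hv hv.1 hv.1 1⟩, c.TT_comm hx.1 hv.1 (c.flip k) 1 1⟩
  obtain ⟨e', f', fr⟩ := c.exists_fr2 hv.1 (isotropic_smul hx.1 (B v x)⁻¹)
    (by rw [sm_right, inv_mul_cancel₀ k])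
  have h1 : Pt B e' := ⟨fr.ee', fun e => by simpa [e] using fr.ef'⟩
  have h2 := fr.o3
  rw [sm_left, mul_eq_zero, map_eq_zero, inv_eq_zero] at h2
  exact ⟨_, ⟨mem_rt c hv h1, tt_C c hv h1.1 fr.o1 1⟩,
    c.TT_comm hx.1 h1.1 (h2.resolve_left k) 1 1⟩

theorem con (kA : KitA i φ L) {b : G} (hb : b ∈ L) (h : orderOf b = 2) :
    ∃ R : Subgroup G, IsPGroup 2 R ∧ R ≤ L ⊓ C1[b] ∧ L ⊓ C1[b] ≤ N[R] ∧ L ⊓ C[R] ≤ R ⊔ C[L] := by
  obtain ⟨s, rfl, hs⟩ := UmSI.lift2 c hb (by rw [← pow_two, ← h, pow_orderOf_eq_one])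
  have hS := UmSI.tot_im c hs
  refine ⟨RS φ (im s), (H45.UInn.isP_R0 c _).map φ, ?_, fun g hg => ?_, fun g hg => ?_⟩
  · rintro _ ⟨r, hr, rfl⟩
    exact ⟨c.mem r, mem_C1.2 ((UmSI.R0_comm c hr).map φ)⟩
  · obtain ⟨t, rfl⟩ := c.surj hg.1
    refine mem_N_of_conj ?_
    rintro _ ⟨r, hr, rfl⟩
    exact ⟨_, UmSI.R0_conj (UmSI.comm2 c hs (mem_C1.1 hg.2)) hr fun _ => UmSI.perp_im c, by
      rw [map_mul, map_mul, map_inv]⟩
  · exact (sup_le_sup_right (fun a ha => (UmSI.as_sq c kA hS ha).2.1 : AS i φ _ ≤ RS φ _) C[L])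
      (kA.fs _ hS (UmSI.im_ne fun e => by rw [e, orderOf_one] at h; omega) g
        ⟨le_normalizer hg.1, hg.2⟩)

theorem lift {v : V} (hv : Pt B v) {b : G} (hb : b ∈ L ⊓ C[ZV i φ v]) (h : b * b ∈ QV φ v) :
    ∃ x ∈ QV φ v, b * x * (b * x) ∈ ZV i φ v := by
  obtain ⟨k, hk⟩ := is2_of_mem (pQ c hv) h
  obtain ⟨s, h2, rfl⟩ := c.lift2 hb.1 ⟨k + 1, by rw [pow_succ', pow_mul, pow_two, hk]⟩
  have h1 := fixv c hv h2 hb.2
  obtain ⟨v', k1, k2⟩ := c.hyp hv
  obtain ⟨x, rfl⟩ := s.1.surjective v'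
  rw [iso_map] at k1
  have k3 : B v x = 1 := by rw [← iso_map s, h1, k2]
  have k4 : B (s.1 x) (s.1 x) = 0 := by rw [iso_map, k1]
  have e1 : B v (x + s.1 x) = 0 := by rw [map_add, k2, k3, c.qf.add_self]
  have e2 : B x (s.1 x) + σ (B x (s.1 x)) = B (x + s.1 x) (x + s.1 x) := by
    simp only [map_add, LinearMap.add_apply, k1, k4, c.symm, zero_add, add_zero]
    ring
  obtain ⟨g, hg, e⟩ := c.ee hv.1 e1 e2
  have hQ : φ g ∈ QV φ v := (c.mem_QV hv).2 ⟨_, _, e1, e2, e⟩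
  have g1 : g.1 v = v := by rw [hg, hv.1, c.flip e1]; simp
  have g2 : g.1 (s.1 x) = x := by
    simp only [hg, k2, map_add, LinearMap.add_apply, k4, add_zero, one_smul, mul_one]
    linear_combination (norm := module) c.add_self (s.1 x + B x (s.1 x) • v)
  refine ⟨φ g, hQ, ?_⟩
  obtain ⟨r, hr, e3⟩ : φ s * φ g * (φ s * φ g) ∈ QV φ v := by
    have := conj_mem (inv_mem (nQ c hv ⟨le_normalizer hb.1, centralizer_le_normalizer _ hb.2⟩)) hQ
    have e4 := mul_mem (mul_mem h this) hQ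
    simpa only [inv_inv, mul_assoc, mul_inv_cancel_left] using e4
  have e4 : r = s * g * (s * g) := eq_of_fix c (by rw [e3, map_mul, map_mul]) hv.2 (by
    rw [H36.UKB.R0_fix hr, mul_app, mul_app, mul_app, g1, h1, g1, h1])
  rw [← e3, H36.UKB.uniq c.herm k2 hr (by rw [e4, mul_app, mul_app, mul_app, g2, g2]), map_one]
  exact one_mem _

theorem EE_inv {v w : V} {d : E} (h1 : B v v = 0) (h2 : B v w = 0) (h3 : d + σ d = B w w) :
    (EE φ v w d)⁻¹ = EE φ v w (σ d) := by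
  refine inv_eq_of_mul_eq_one_right ?_
  rw [c.EE_mul h1 h2 h3 h2 (by rw [c.qf.sq, add_comm, h3]), c.add_self, h3, c.qf.add_self,
    ← map_zero i, UCtx.EE_zero, UCtx.TT_zero]

theorem com {v w : V} {d : E} (h1 : B v v = 0) (h2 : B v w = 0) (h3 : d + σ d = B w w)
    {s : sisom B} (hs : s.1 v = v) : B v (w + s.1 w) = 0 ∧
      B w w + B w (s.1 w) + σ (B w w + B w (s.1 w)) = B (w + s.1 w) (w + s.1 w) ∧
      ⁅EE φ v w d, φ s⁆ = EE φ v (w + s.1 w) (B w w + B w (s.1 w)) := by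
  have h4 : B v (s.1 w) = 0 := by rw [← h2, ← iso_map s v w, hs]
  have h5 : σ d + σ (σ d) = B w w := by rw [c.qf.sq, add_comm, h3]
  refine ⟨by rw [map_add, h2, h4, add_zero], ?_, ?_⟩
  · simp only [map_add, LinearMap.add_apply, c.symm, iso_map]
    ring
  · rw [commutatorElement_def, mul_assoc, mul_assoc, ← mul_assoc (φ s), EE_inv c h1 h2 h3,
      c.EE_conj s h1 h2 h5, hs, c.EE_mul h1 h2 h3 h4 (by rw [iso_map, h5]), h3]

theorem sq2 {v : V} (hv : Pt B v) {b : G} (hb : b ∈ L ⊓ C[ZV i φ v]) (h : b * b ∈ ZV i φ v)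
    {x : G} (hx : x ∈ QV φ v) : ⁅x, b⁆ * ⁅x, b⁆ = 1 := by
  obtain ⟨a, ha⟩ := (c.mem_ZV hv.1).1 h
  obtain ⟨s, h2, rfl⟩ := c.lift2 hb.1 ⟨2, by
    rw [show 2 ^ 2 = 2 * 2 from rfl, pow_mul, pow_two, pow_two, ha, c.TT_sq hv.1]⟩
  have h1 := fixv c hv h2 hb.2
  obtain ⟨t, ht, e⟩ := c.tt hv.1 a
  have e1 : s * s = t := eq_of_fix c (by rw [map_mul, ha, e]) hv.2 (by
    rw [mul_app, h1, h1, ht, hv.1, mul_zero, zero_smul, add_zero])
  obtain ⟨w, d, k1, k2, rfl⟩ := (c.mem_QV hv).1 hx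
  obtain ⟨k3, k4, k5⟩ := com c hv.1 k1 k2 h1
  rw [k5, EE_sq c hv.1 k3 k4 (a := 0), UCtx.TT_zero]
  have e2 : B (s.1 w) w = B w (s.1 w) := by
    rw [← iso_map s w, ← mul_app, e1, ht, k1, mul_zero, zero_smul, add_zero]
  simp only [map_add, LinearMap.add_apply, iso_map, e2, map_zero]
  linear_combination -(B w w + B w (s.1 w)) * c.qf.two

theorem of_Z {v w : V} {d : E} (hv : Pt B v) (h2 : B v w = 0) (h3 : d + σ d = B w w)
    (h : EE φ v w d ∈ ZV i φ v) : w ∈ E ∙ v := by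
  obtain ⟨a, ha⟩ := (c.mem_ZV hv.1).1 h
  obtain ⟨t, ht, e⟩ := c.tt hv.1 a
  obtain ⟨s, hs, e'⟩ := c.ee hv.1 h2 h3
  have e1 : s = t := eq_of_fix c (by rw [e, e', ha]) hv.2 (by
    rw [hs, ht, hv.1, c.flip h2]; simp)
  obtain ⟨v', -, k⟩ := c.hyp hv
  have e2 := hs v'
  rw [e1, ht, k] at e2
  refine Submodule.mem_span_singleton.2 ⟨i a - B w v' - d, ?_⟩
  linear_combination (norm := module) e2

theorem z2 (h6 : 6 ≤ finrank E V) {v : V} (hv : Pt B v) {U : Subgroup G} (hU : IsSylowIn 2 U L)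
    (hC : U ≤ C[ZV i φ v]) {x : G} (hx : x ∈ QV φ v) (h : ∀ u ∈ U, ⁅x, u⁆ ∈ ZV i φ v) :
    x * x = 1 := by
  haveI : Fact (Nat.Prime 2) := ⟨Nat.prime_two⟩
  obtain ⟨w, d, k1, k2, rfl⟩ := (c.mem_QV hv).1 hx
  rw [EE_sq c hv.1 k1 k2 (a := 0), UCtx.TT_zero]
  rw [map_zero]
  by_contra k0
  replace k0 : B w w ≠ 0 := fun e => k0 e.symm
  have mv : ∀ s : sisom B, φ s ∈ U → s.1 v = v → ∃ a : E, s.1 w = w + a • v := fun s hs e => by
    obtain ⟨k3, k4, k5⟩ := com c hv.1 k1 k2 e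
    obtain ⟨a, ha⟩ := Submodule.mem_span_singleton.1 (of_Z c hv k3 k4 (k5 ▸ h _ hs))
    exact ⟨a, by rw [ha, ← add_assoc, c.add_self, zero_add]⟩
  obtain ⟨P, hP, rfl⟩ := lift_sub c hU.le hU.isPGroup
  have fv : ∀ s ∈ P, s.1 v = v := fun s hs => fixv c hv (is2_of_mem hP hs) (hC ⟨s, hs, rfl⟩)
  obtain ⟨v', l1, l2⟩ := c.hyp hv
  -- a vector fixed modulo `v`
  obtain ⟨u, u1, u2, u3, u4⟩ : ∃ u, B v u = 0 ∧ B w u = 0 ∧ u ∉ E ∙ v ∧
      ∀ s ∈ P, ∃ a : E, s.1 u = u + a • v := by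
    let A := perp B (Submodule.span E {v, v', w})
    have mA : ∀ y, y ∈ A ↔ B v y = 0 ∧ B v' y = 0 ∧ B w y = 0 := fun y => by
      simp [A, mem_perp_span]
    have A0 : A ≠ ⊥ := fun e => by
      have e1 := c.herm.finrank_add_finrank_perp (Submodule.span E {v, v', w})
      classical
      have e2 := finrank_span_finset_le_card (R := E) ({v, v', w} : Finset V)
      have e3 : ({v, v', w} : Finset V).card ≤ 3 := Finset.card_le_three
      rw [Set.finrank, Finset.coe_insert, Finset.coe_insert, Finset.coe_singleton] at e2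
      rw [show perp B (Submodule.span E {v, v', w}) = ⊥ from e, finrank_bot] at e1
      omega
    have st : ∀ s : P, ∀ y : A, s.1.1 y.1 + B v' (s.1.1 y.1) • v ∈ A := fun s y => by
      obtain ⟨y1, -, y3⟩ := (mA _).1 y.2
      obtain ⟨a, ha⟩ := mv s ⟨_, s.2, rfl⟩ (fv _ s.2)
      have e1 : B v (s.1.1 y.1) = 0 := by rw [← y1, ← iso_map s.1 v y, fv _ s.2]
      have e2 := iso_map s.1 w y
      rw [ha, map_add, LinearMap.add_apply, sm_left, e1, y3, mul_zero, add_zero] at e2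
      rw [mA]
      simp only [map_add, sm_right, e1, e2, hv.1, c.flip1 l2, c.flip k1, mul_zero, add_zero, mul_one,
        c.qf.add_self, and_self]
    obtain ⟨b, b0, hb⟩ := fix2 hP (even_sub c A0) (fun s y => ⟨_, st s y⟩)
      (fun y => Subtype.ext (by
        show y.1 + B v' y.1 • v = y.1
        rw [((mA _).1 y.2).2.1, zero_smul, add_zero]))
      (fun s t y => Subtype.ext (by
        show s.1.1 (t.1.1 y.1) + B v' (s.1.1 (t.1.1 y.1)) • v =
          s.1.1 (t.1.1 y.1 + B v' (t.1.1 y.1) • v) +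
            B v' (s.1.1 (t.1.1 y.1 + B v' (t.1.1 y.1) • v)) • v
        simp only [map_add, map_smul, fv _ s.2, c.flip1 l2, smul_eq_mul, mul_one]
        linear_combination (norm := module) -c.add_self (B v' (t.1.1 y.1) • v)))
      (a := 0) (fun s => Subtype.ext (by simp))
    obtain ⟨y1, y2, y3⟩ := (mA _).1 b.2
    refine ⟨b.1, y1, y3, fun e => b0 (Subtype.ext ?_), fun s hs => ⟨B v' (s.1 b.1), ?_⟩⟩
    · obtain ⟨a, ha⟩ := Submodule.mem_span_singleton.1 e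
      rw [← ha, sm_right, c.flip1 l2, mul_one] at y2
      rw [← ha, y2, zero_smul]; rfl
    · have e : s.1 b.1 + B v' (s.1 b.1) • v = b.1 := congrArg Subtype.val (hb ⟨s, hs⟩)
      linear_combination (norm := module) e - c.add_self (B v' (s.1 b.1) • v)
  -- an isotropic one
  obtain ⟨u, u0, u1, u3, u4⟩ : ∃ u, B u u = 0 ∧ B v u = 0 ∧ u ∉ E ∙ v ∧
      ∀ s ∈ P, ∃ a : E, s.1 u = u + a • v := by
    obtain ⟨n, hn⟩ := (c.qf.fix (B u u / B w w)).1 (by rw [map_div₀, c.symm, c.symm])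
    obtain ⟨e, he⟩ := c.qf.norm_surj n
    refine ⟨u + e • w, ?_, by rw [map_add, sm_right, u1, k1, mul_zero, add_zero], fun k => u3 ?_,
      fun s hs => ?_⟩
    · simp only [map_add, LinearMap.add_apply, sm_left, sm_right, u2, c.flip u2, mul_zero, add_zero,
        zero_add]
      rw [div_eq_iff k0] at hn
      linear_combination hn + B w w * he + i n * B w w * c.qf.two
    · obtain ⟨a, ha⟩ := Submodule.mem_span_singleton.1 k
      have e1 := congrArg (B w) ha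
      rw [map_add, sm_right, sm_right, c.flip k1, u2, mul_zero, zero_add, eq_comm, mul_eq_zero] at e1
      rwa [e1.resolve_right k0, zero_smul, add_zero] at k
    · obtain ⟨a, ha⟩ := u4 s hs
      obtain ⟨a', ha'⟩ := mv s ⟨_, hs, rfl⟩ (fv _ hs)
      exact ⟨a + e * a', by rw [map_add, map_smul, ha, ha']; module⟩
  have st : ∀ s ∈ P, ∀ y ∈ Submodule.span E {v, u}, s.1 y ∈ Submodule.span E {v, u} :=
    fun s hs y hy => by
      obtain ⟨a, b, rfl⟩ := mem_pair.1 hy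
      obtain ⟨e, he⟩ := u4 s hs
      exact mem_pair.2 ⟨a + b * e, b, by rw [map_add, map_smul, map_smul, fv s hs, he]; module⟩
  have le : RS φ (Submodule.span E {v, u}) ≤ P.map φ :=
    hU.le_of_le_normalizer ((H45.UInn.isP_R0 c _).map φ) (by rintro _ ⟨r, -, rfl⟩; exact c.mem r) (by
      rintro _ ⟨s, hs, rfl⟩
      refine mem_N_of_conj ?_
      rintro _ ⟨r, hr, rfl⟩
      exact ⟨_, R0_cj (st s hs) (st _ (inv_mem hs)) hr, by rw [map_mul, map_mul, map_inv]⟩)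
  have key : ∀ (r : sisom B) (e : E), r.1 v = v → r.1 u = u →
      (∀ y, B v y = 0 → B u y = 0 → ∃ a : E, r.1 y = y + a • u) → r.1 w = w + e • u → e = 0 :=
    fun r e r1 r2 r3 r4 => by
      obtain ⟨a, ha⟩ := mv r (le ⟨r, ⟨fun y hy => by
        obtain ⟨a, b, rfl⟩ := mem_pair.1 hy
        rw [map_add, map_smul, map_smul, r1, r2], fun y hy => by
        obtain ⟨a, ha⟩ := r3 y (UCtx.mem_perp_pair.1 hy).1 (UCtx.mem_perp_pair.1 hy).2
        exact mem_pair.2 ⟨0, a, by rw [ha]; module⟩⟩, rfl⟩) r1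
      by_contra e0
      rw [r4, add_right_inj] at ha
      exact u3 (Submodule.mem_span_singleton.2 ⟨e⁻¹ * a, by
        rw [mul_smul, ← ha, smul_smul, inv_mul_cancel₀ e0, one_smul]⟩)
  obtain ⟨t, ht, -⟩ := c.tt u0 1
  have e1 := key t _ (by rw [ht, c.flip u1]; simp) (by rw [ht, u0]; simp)
    (fun y _ _ => ⟨_, ht y⟩) (ht w)
  rw [map_one, one_mul] at e1
  obtain ⟨s, hs, -⟩ := c.ee u0 e1 k2
  exact k0 (key s _ (by rw [hs, c.flip u1, c.flip k1]; simp) (by rw [hs, u0, c.flip e1]; simp)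
    (fun y _ e => ⟨B w y, by rw [hs, e]; simp⟩) (by rw [hs, e1]; simp))

variable (B) in
omit c in
/-- An involution of rank two. -/
def R2 (s : sisom B) (x y : V) : Prop :=
  Pt B x ∧ B y y = 0 ∧ B x y = 0 ∧ y ∉ (E ∙ x) ∧ ∀ z, s.1 z = z + B x z • y + B y z • x

theorem R2.im {s : sisom B} {x y : V} (h : R2 B s x y) : im s = Submodule.span E {x, y} := by
  obtain ⟨h1, h2, h3, h4, h5⟩ := h
  obtain ⟨f, f', fr⟩ := c.exists_fr2' h1 h2 h3 h4
  refine le_antisymm ?_ (Submodule.span_le.2 (Set.insert_subset ?_ (Set.singleton_subset_iff.2 ?_)))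
  · rintro _ ⟨z, rfl⟩
    exact mem_pair.2 ⟨B y z, B x z, by
      show _ = s.1 z - z
      rw [h5]; module⟩
  · exact mem_im.2 ⟨f', by rw [h5, fr.o2, fr.ef']; module⟩
  · exact mem_im.2 ⟨f, by rw [h5, fr.ef, c.flip fr.o3]; module⟩

theorem R2.rk {s : sisom B} {x y : V} (h : R2 B s x y) : finrank E (UmSI.im s) = 2 := by
  rw [h.im c, rank_pair h.1.2 h.2.2.2.1]

theorem R2.sq {s : sisom B} {x y : V} (h : R2 B s x y) : s * s = 1 := s_ext fun z => by
  obtain ⟨h1, h2, h3, -, h5⟩ := h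
  rw [mul_app, h5, h5]
  simp only [map_add, sm_right, h1.1, h2, h3, c.flip h3, mul_zero, add_zero]
  show _ = z
  linear_combination (norm := module) c.add_self (B x z • y + B y z • x)

theorem r2_of {v : V} (hv : Pt B v) {m e : G} (hm : m ∈ N[L])
    (he : e ∈ EI (QV φ v) (ZV i φ v)) : ∃ s x y, φ s = m * e * m⁻¹ ∧ R2 B s x y := by
  obtain ⟨h1, h2, h3⟩ := he
  obtain ⟨w, d, k1, k2, rfl⟩ := (c.mem_QV hv).1 h1
  obtain ⟨a, ha⟩ := (c.qf.fix _).1 (c.symm w w)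
  rw [EE_sq c hv.1 k1 k2 ha.symm] at h2
  rw [c.TT_eq_one hv h2, map_zero] at ha
  obtain ⟨n, rfl⟩ := (c.qf.fix d).1 (by linear_combination k2 + ha - d * c.qf.two)
  obtain ⟨β, hβ⟩ := c.qf.exists_tr n
  have e1 : EE φ v w (i n) = EE φ v (w + β • v) 0 := by rw [UCtx.EE_shift, zero_add, hβ]
  have l1 : B v (w + β • v) = 0 := by rw [map_add, sm_right, k1, hv.1, mul_zero, add_zero]
  have l2 : B (w + β • v) (w + β • v) = 0 :=
    c.iso_add ha (isotropic_smul hv.1 β) (by rw [sm_right, c.flip k1, mul_zero])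
  have l3 : w + β • v ∉ E ∙ v := fun k => by
    obtain ⟨γ, hγ⟩ := Submodule.mem_span_singleton.1 k
    obtain ⟨n', hn'⟩ := c.qf.exists_trace γ
    apply h3
    rw [e1, ← hγ, ← zero_add (γ • v), UCtx.EE_shift, zero_add, ← hn', UCtx.EE_zero]
    exact TT_mem_ZV v n'
  generalize w + β • v = w' at e1 l1 l2 l3
  obtain ⟨f, θ, hs, hf⟩ := c.mod.ext m hm
  have m1 : B (f v) (f w') = 0 := by rw [hs.form, l1, map_zero]
  have m2 : B (f w') (f w') = 0 := by rw [hs.form, l2, map_zero]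
  obtain ⟨s, s1, s2⟩ := c.ee (d := 0) (hs.pt hv).1 m1 (by rw [m2, map_zero, add_zero])
  refine ⟨s, f v, f w', ?_, hs.pt hv, m2, m1, fun k => l3 ?_, fun z => by rw [s1]; simp⟩
  · rw [e1, c.EE_act hs hf hv.1 l1 (by rw [l2, map_zero, add_zero]), map_zero, s2]
  · obtain ⟨γ, hγ⟩ := Submodule.mem_span_singleton.1 k
    obtain ⟨γ, rfl⟩ := θ.surjective γ
    rw [← hs.smul] at hγ
    exact Submodule.mem_span_singleton.2 ⟨γ, f.injective hγ⟩

theorem geoE {v : V} (hv : Pt B v) {r : G} (hr : r ∈ L ⊓ C[ZV i φ v])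
    (h : ∀ w ∈ ZV i φ v, ∃ m ∈ N[L], ∃ e ∈ EI (QV φ v) (ZV i φ v), r * w = m * e * m⁻¹) :
    r ∈ QV φ v := by
  obtain ⟨m, hm, e, he, e0⟩ := h 1 (one_mem _)
  obtain ⟨s, x, y, e1, h2⟩ := r2_of c hv hm he
  rw [← e0, mul_one] at e1
  subst e1
  have fv := fixv c hv (is2_of_sq (h2.sq c)) hr.2
  have all : ∀ a : F, ∃ s' : sisom B, finrank E (im s') = 2 ∧
      ∀ z, s'.1 z - z = B x z • y + B y z • x + (i a * B v z) • v := fun a => by
    obtain ⟨m, hm, e, he, e0⟩ := h _ (TT_mem_ZV v a)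
    obtain ⟨s', x', y', e1, h3⟩ := r2_of c hv hm he
    obtain ⟨t, ht, e2⟩ := c.tt hv.1 a
    have e3 : Commute s t := s_ext fun z => by
      rw [mul_app, mul_app, ht, ht, map_add, map_smul, fv, ← iso_map s v z, fv]
    have e4 : s' = s * t := c.inj2 (is2_of_sq (h3.sq c)) (is2_of_sq (by
      rw [e3.symm.mul_mul_mul_comm, h2.sq c, c.tt_sq hv.1 ht, one_mul])) (by
      rw [e1, ← e0, map_mul, e2])
    refine ⟨s', h3.rk c, fun z => ?_⟩
    rw [e4, mul_app, ht, map_add, map_smul, fv, h2.2.2.2.2]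
    module
  by_cases k : v ∈ Submodule.span E {x, y}
  swap
  · exfalso
    obtain ⟨s', r1, r2⟩ := all 1
    obtain ⟨z, z1, z2⟩ := c.herm.exists_perp_of_notMem k
    rw [UCtx.mem_perp_pair] at z1
    replace z2 := c.herm.toIsHermSymm.flip_ne_zero z2
    have k1 : v ∈ im s' := mem_im.2 ⟨(B v z)⁻¹ • z, by
      rw [r2]
      simp only [sm_right, z1.1, z1.2, mul_zero, zero_smul, zero_add, map_one, one_mul,
        inv_mul_cancel₀ z2, one_smul]⟩
    have k2 : im s ≤ im s' := by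
      rintro _ ⟨z, rfl⟩
      have := Submodule.sub_mem _ (mem_im.2 ⟨z, r2 z⟩) (Submodule.smul_mem _ (i 1 * B v z) k1)
      convert this using 1
      show s.1 z - z = _
      rw [h2.2.2.2.2]; module
    rw [← Submodule.eq_of_le_of_finrank_eq k2 ((h2.rk c).trans r1.symm), h2.im c] at k1
    exact k k1
  obtain ⟨α, β, rfl⟩ := mem_pair.1 k
  obtain ⟨n, hn⟩ := c.qf.exists_trace (σ α * β)
  rw [map_mul, c.qf.sq] at hn
  by_cases n0 : n = 0
  · rw [n0, map_zero] at hn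
    refine ⟨s, ⟨fun z hz => ?_, fun z hz => ?_⟩, rfl⟩
    · obtain ⟨a, rfl⟩ := Submodule.mem_span_singleton.1 hz
      rw [map_smul, fv]
    · have e1 := mem_perp_span_singleton.1 hz
      rw [map_add, LinearMap.add_apply, sm_left, sm_left] at e1
      rw [h2.2.2.2.2]
      by_cases a0 : α = 0
      · subst a0
        have b0 : β ≠ 0 := fun e => hv.2 (by simp [e])
        rw [map_zero, zero_mul, zero_add, mul_eq_zero, map_eq_zero] at e1
        refine Submodule.mem_span_singleton.2 ⟨B x z / β, ?_⟩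
        rw [e1.resolve_left b0]
        match_scalars <;> field_simp <;> ring
      · have a1 : σ α ≠ 0 := by simpa using a0
        have e2 : B x z * α = B y z * β := mul_left_cancel₀ a1 (by
          linear_combination α * e1 + B y z * hn)
        refine Submodule.mem_span_singleton.2 ⟨B y z / α, ?_⟩
        match_scalars
        · field_simp
        · field_simp
          linear_combination -e2
        · ring
  · exfalso
    obtain ⟨s', r1, r2⟩ := all n⁻¹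
    have n1 : i n ≠ 0 := by simpa using n0
    have k2 : im s' ≤ E ∙ (σ α • x + σ β • y) := by
      rintro _ ⟨z, rfl⟩
      refine Submodule.mem_span_singleton.2 ⟨(α * B x z + β * B y z) / i n, ?_⟩
      show _ = s'.1 z - z
      rw [r2, map_add, LinearMap.add_apply, sm_left, sm_left, map_inv₀]
      match_scalars
      · field_simp
        linear_combination -B y z * hn - α * σ β * B y z * c.qf.two
      · field_simp
        linear_combination -B x z * hn - β * σ α * B x z * c.qf.two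
    have k3 := (Submodule.finrank_mono k2).trans
      (finrank_span_le_card (R := E) ({σ α • x + σ β • y} : Set V))
    rw [r1] at k3
    simp at k3

omit c in
/-- **E-GEO** -/
theorem geo : GeoStmt.{u, v} := by
  intro F E V _ _ _ _ _ _ _ _ i σ B G _ _ φ L c kA _ h6 v hv
  exact ⟨fun r => pt c hv, fun r => geoE c hv, fun b hb h x => sq2 c hv hb h, fun b => lift c hv,
    fun U hU hC x => z2 c h6 hv hU hC, fun r => conn c hv, fun r hr h => by
      obtain ⟨x, hx, rfl⟩ := rt c hv hr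
      exact tt_C c hv hx.1 (perp_of c hv hx h) 1, fun b => con c kA⟩

end Cfsg.Agent.H28.U6.H29.UeGeo
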