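import Mathlib
import Cfsg.Agent.H28.U6HeisB

/-!
# U-HEIS: the Heisenberg group of a unitary group in characteristic two
-/

set_option autoImplicit false
set_option linter.unusedSectionVars false
set_option linter.style.haveILetI false

namespace Cfsg.Agent.H28.U6.H22.UH

open Cfsg.Agent.H22

open Cfsg Cfsg.Agent.H63 Cfsg.Agent.H63.SL Cfsg.Agent.H34 Cfsg.Agent.H34.TW Cfsg.Agent.H34.UM
  Cfsg.Agent.H31 Subgroup Module
open Cfsg.Agent.H27.End (mem_C comm_of_C eq_one_of_is2 is2_of_sq mem_N_of_conj conj_mem is2_of_mem)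
open Cfsg.Agent.H8 (IsSylowIn)
open scoped commutatorElement Pointwise

universe u v

variable {F E V : Type v} [Field F] [Field E] [AddCommGroup V] [Module E V] {i : F →+* E}
  {σ : E ≃+* E} {B : V →ₛₗ[(σ : E →+* E)] V →ₗ[E] E} {G : Type u} [Group G] {φ : sisom B →* G}
  {L : Subgroup G} {W : Type v} [AddCommGroup W] [Module F W]
  [FiniteDimensional E V] [Finite E] [Finite F] [Finite V] [Finite G] (c : UCtx i φ L)
include c

theorem syl {v : V} (hv : Pt B v) : ∃ S, IsSylowIn 2 S L ∧ S ≤ C[ZV i φ v] := by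
  haveI : Fact (Nat.Prime 2) := ⟨Nat.prime_two⟩
  obtain ⟨S, hS⟩ := H8.exists_isSylowIn 2 L
  obtain ⟨x, hx, h⟩ := fix_pt c hS.le hS.isPGroup
  obtain ⟨t, rfl⟩ := c.trans hx hv
  refine ⟨_, hS.conj_smul_of_mem_normalizer (le_normalizer (c.mem t)), fun g hg => mem_C fun z hz => ?_⟩
  obtain ⟨a, rfl⟩ := (c.mem_ZV hv.1).1 hz
  have h1 := (comm_of_C (h (H8.mem_conj_smul.1 hg)) (TT_mem_ZV x a)).eq
  rw [← c.TT_conj t hx.1]
  change _ * _ = _ * _
  calc g * (φ t * TT i φ x a * (φ t)⁻¹) = φ t * ((φ t)⁻¹ * g * φ t * TT i φ x a) * (φ t)⁻¹ := by group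
    _ = _ := by rw [h1]; group

theorem cU (k : KitA i φ L) {v : V} (hv : Pt B v) {S : Subgroup G} (hS : IsSylowIn 2 S L) {z : G}
    (hz : z ∈ L ⊓ C[S]) (z2 : z * z = 1) (z1 : z ≠ 1) : z ∈ RtZ L (ZV i φ v) := by
  haveI : Fact (Nat.Prime 2) := ⟨Nat.prime_two⟩
  obtain ⟨x, hx, h⟩ := fix_pt c hS.le hS.isPGroup
  have h1 : QV φ x ≤ S := hS.le_of_le_normalizer (pQ c hx) (c.QV_le x) fun g hg =>
    nQ c hx ⟨le_normalizer (hS.le hg), centralizer_le_normalizer _ (h hg)⟩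
  obtain ⟨a, y, hy, e⟩ := c.cQ k hx (le_normalizer hz.1) (centralizer_le h1 hz.2)
  have h2 : y ∈ L := (mul_mem_cancel_left (c.TT_mem hx.1 a)).1 (e ▸ hz.1)
  have h3 : y = 1 := eq_one_of_is2 (is2_of_sq (by
    rw [e, mul_assoc, ← mul_assoc y, (comm_of_C hy (c.TT_mem hx.1 a)).eq, ← mul_assoc, ← mul_assoc,
      c.TT_sq hx.1, one_mul] at z2
    exact z2)) (c.zodd y ⟨h2, hy⟩)
  rw [h3, mul_one] at e
  obtain ⟨t, rfl⟩ := c.trans hv hx
  rw [← c.TT_conj t hv.1] at e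
  exact ⟨_, c.mem t, _, TT_mem_ZV v a, fun k => z1 (by rw [e, k]; group), e⟩

theorem ab {v : V} (hv : Pt B v) :
    ⁅L ⊓ N[ZV i φ v], L ⊓ N[ZV i φ v]⁆ ≤ C[ZV i φ v] := by
  have k : ∀ g ∈ L ⊓ N[ZV i φ v], ∃ n, ∀ a, g * TT i φ v a * g⁻¹ = TT i φ v (n * a) := fun g hg => by
    obtain ⟨s, rfl⟩ := c.surj hg.1
    obtain ⟨l, -, hl⟩ := line_of_N c (semi_s s) (act_s s) hv hg.2
    obtain ⟨n, hn⟩ := c.qf.exists_norm l
    exact ⟨n, fun a => TT_act' c (semi_s s) (act_s s) hv hl (by rw [map_mul, hn]; rfl)⟩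
  refine commutator_le.2 fun g hg g' hg' => mem_C fun z hz => ?_
  obtain ⟨a, rfl⟩ := (c.mem_ZV hv.1).1 hz
  obtain ⟨n, h1⟩ := k _ (inv_mem hg)
  obtain ⟨n', h2⟩ := k _ (inv_mem hg')
  have h3 : g⁻¹ * (g'⁻¹ * TT i φ v a * g'⁻¹⁻¹) * g⁻¹⁻¹ =
      g'⁻¹ * (g⁻¹ * TT i φ v a * g⁻¹⁻¹) * g'⁻¹⁻¹ := by
    rw [h2, h1, h1, h2, mul_left_comm]
  change _ * _ = _ * _
  rw [commutatorElement_def]
  calc _ = g * g' * (g⁻¹ * (g'⁻¹ * TT i φ v a * g'⁻¹⁻¹) * g⁻¹⁻¹) * g⁻¹ * g'⁻¹ := by group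
    _ = _ := by rw [h3]; group

variable {v v' : V} {κ : W →+ V} {p : G → W} {B' : W →ₗ[F] W →ₗ[F] F} {Qf : W → F}
  (h : HD i φ v v' κ p B' Qf)
include h

theorem act1 {s : sisom B} {l : E} (hl : s.1 v = l • v) {y : G} (hy : y ∈ QV φ v) {w : W}
    (e : σ l • s.1 (κ (p y)) = κ w) : p (φ s * y * (φ s)⁻¹) = w := h.inj (by
  rw [act c h (semi_s s) (act_s s) hl hy]
  change σ l • s.1 (κ (p y)) + B v' (σ l • s.1 (κ (p y))) • v = _
  rw [e, h.o2, zero_smul, add_zero])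

theorem tor {a : F} (a0 : a ≠ 0) : ∃ g ∈ L ⊓ N[ZV i φ v],
    (∀ y ∈ QV φ v, p (g * y * g⁻¹) = a • p y) ∧
      ∀ b, g * TT i φ v b * g⁻¹ = TT i φ v (a ^ 2 * b) := by
  obtain ⟨s, h1, -, h3⟩ := c.hv h.pt.1 h.iso h.one a0
  refine ⟨φ s, ⟨c.mem s, N_of_line c (semi_s s) (act_s s) h.pt h1 (by simpa using a0)⟩,
    fun y hy => act1 c h h1 hy (by rw [h3 _ (h.o1 _) (h.o2 _), h.smul, c.qf.σ_i]),
    fun b => TT_act' c (semi_s s) (act_s s) h.pt h1 ?_⟩
  rw [map_mul, map_pow, c.qf.σ_i, pow_two]; rfl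

theorem add_iso (w : W) : ∃ w1 w2, B (κ w1) (κ w1) = 0 ∧ B (κ w2) (κ w2) = 0 ∧ w = w1 + w2 := by
  obtain ⟨h1, h2⟩ := c.perp_pair h.pt.1 h.one
  obtain ⟨y1, k1, y2, k2, k3, k4, e⟩ := c.herm.exists_add_isotropic h1 (by have := c.four; omega)
    (UCtx.mem_perp_pair.2 ⟨h.o1 w, h.o2 w⟩)
  rw [UCtx.mem_perp_pair] at k1 k2
  obtain ⟨w1, rfl⟩ := h.rng y1 k1.1 k1.2
  obtain ⟨w2, rfl⟩ := h.rng y2 k2.1 k2.2
  exact ⟨w1, w2, k3, k4, h.inj (by rw [e, map_add])⟩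

theorem inv (f : W →+ F)
    (hf : ∀ l ∈ YZ L (ZV i φ v), ∀ y ∈ QV φ v, f (p (l * y * l⁻¹)) = f (p y)) : f = 0 := by
  have k : ∀ x, B (κ x) (κ x) = 0 → f x = 0 := fun x hx => by
    rcases eq_or_ne x 0 with rfl | x0
    · exact map_zero f
    obtain ⟨w, hw⟩ := form_surj c h x0 1
    obtain ⟨y, hy, rfl⟩ := surj c h w
    obtain ⟨s, h1, e⟩ := c.tt hx 1
    have h2 := hf _ (TT_YZ c h.pt.1 hx (h.o1 x) 1) y hy
    rw [← e, act1 c h (l := 1) (by rw [h1, c.flip (h.o1 x)]; simp) hy (w := p y + x)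
      (by rw [h1, hw]; simp), map_add, add_eq_left] at h2
    exact h2
  ext w
  obtain ⟨w1, w2, h1, h2, rfl⟩ := add_iso c h w
  rw [map_add, k _ h1, k _ h2, add_zero]; rfl

theorem o2 {P : Subgroup G} (h1 : P ≤ YZ L (ZV i φ v)) (hP : IsPGroup 2 P)
    (hN : YZ L (ZV i φ v) ≤ N[P]) : P ≤ QV φ v := by
  obtain ⟨P', h2, rfl⟩ := lift_sub c (h1.trans (YZ_le'.trans inf_le_left)) hP
  have fv : ∀ s ∈ P', s.1 v = v := fun s hs => by
    obtain ⟨l, -, hl⟩ := line_of_N c (semi_s s) (act_s s) h.pt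
      (centralizer_le_normalizer _ (YZ_le' (h1 ⟨s, hs, rfl⟩)).2)
    exact fix_of_is2 c (is2_of_mem h2 hs) h.pt.2 hl
  have pv : ∀ s ∈ P', ∀ x, B v (s.1 x) = B v x := fun s hs x => by
    conv_lhs => rw [← fv s hs, iso_map]
  let U : Submodule E V :=
    { carrier := {x | ∀ s ∈ P', s.1 x - x ∈ E ∙ v}
      add_mem' := fun {a b} ha hb s hs => by
        rw [map_add, add_sub_add_comm]; exact add_mem (ha s hs) (hb s hs)
      zero_mem' := fun s _ => by simp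
      smul_mem' := fun a x hx s hs => by
        rw [map_smul, ← smul_sub]; exact Submodule.smul_mem _ _ (hx s hs) }
  have vU : v ∈ U := fun s hs => by rw [fv s hs, sub_self]; exact zero_mem _
  have k1 : ∀ x w, B x x = 0 → B v x = 0 → w ∈ U → B x w ≠ 0 → x ∈ U := fun x w hx h3 hw h4 => by
    obtain ⟨t, h5, e⟩ := c.tt hx 1
    have tv : t.1 v = v := by rw [h5, c.flip h3]; simp
    have h6 : t.1 w ∈ U := fun s hs => by
      obtain ⟨s', hs', e'⟩ := conj_mem (inv_mem (hN (e ▸ TT_YZ c h.pt.1 hx h3 1)))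
        (show φ s ∈ P'.map φ from ⟨s, hs, rfl⟩)
      have h7 : s' = t⁻¹ * s * t⁻¹⁻¹ := c.inj2 (is2_of_mem h2 hs')
        (H27.End.Is2.conj (is2_of_mem h2 hs) _) (by rw [e']; simp)
      obtain ⟨a, ha⟩ := Submodule.mem_span_singleton.1 (hw s' hs')
      refine Submodule.mem_span_singleton.2 ⟨a, ?_⟩
      have h8 := congrArg t.1 ha
      rwa [map_smul, tv, map_sub, h7, inv_inv, mul_app, mul_app, app_inv] at h8
    rw [h5, U.add_mem_iff_right hw, map_one, one_mul] at h6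
    exact (U.smul_mem_iff h4).1 h6
  obtain ⟨w, w0, hw⟩ : ∃ w, w ≠ 0 ∧ κ w ∈ U := by
    have h3 : ∀ (s : P') (w : W), ∃ w', κ w' = s.1.1 (κ w) + B v' (s.1.1 (κ w)) • v := fun s w =>
      proj c h (by rw [pv s.1 s.2, h.o1])
    choose ρ hρ using h3
    haveI : Finite W := Finite.of_injective _ h.inj
    obtain ⟨b, b0, hb⟩ := fix2 h2 (A := W) (by
        rw [h.card, c.qf.card]
        exact dvd_pow (dvd_pow c.qf.even_card.two_dvd two_ne_zero) (by have := c.four; omega)) ρ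
      (fun w => h.inj (by rw [hρ]; simp [h.o2])) (fun s s' w => h.inj (by
        rw [hρ, hρ, hρ]
        simp only [map_add, map_smul, fv s.1 s.2, c.flip1 h.one, smul_eq_mul, mul_one, coe_mul,
          LinearEquiv.mul_apply]
        linear_combination (norm := module) -c.add_self (B v' (s'.1.1 (κ w)) • v)))
      (a := 0) (fun s => h.inj (by rw [hρ]; simp))
    refine ⟨b, b0, fun s hs => Submodule.mem_span_singleton.2 ⟨-B v' (s.1 (κ b)), ?_⟩⟩
    have h4 := hρ ⟨s, hs⟩ b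
    rw [hb] at h4
    linear_combination (norm := module) h4
  obtain ⟨x0, k2, k3⟩ : ∃ x0, B (κ x0) (κ x0) = 0 ∧ B (κ x0) (κ w) ≠ 0 := by
    obtain ⟨u, hu⟩ := form_surj c h w0 1
    obtain ⟨w1, w2, e1, e2, rfl⟩ := add_iso c h u
    by_contra k
    push Not at k
    rw [map_add, map_add, c.flip (k _ e1), c.flip (k _ e2), add_zero] at hu
    exact zero_ne_one hu
  have k4 := k1 _ _ k2 (h.o1 _) hw k3
  have x00 : x0 ≠ 0 := by rintro rfl; simp at k3
  have k5 : ∀ x, B (κ x) (κ x) = 0 → κ x ∈ U := fun x hx => by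
    rcases eq_or_ne x 0 with rfl | x0'
    · rw [map_zero]; exact zero_mem _
    by_cases h3 : B (κ x) (κ x0) = 0
    swap
    · exact k1 _ _ hx (h.o1 _) k4 h3
    obtain ⟨y1, y2, y3, y4⟩ := exists_mem_ne_zero_ne_zero (U := perp B (Submodule.span E {v, v'}))
      (f := B (κ x0)) (g := B (κ x)) (map_add _) (map_add _)
      ((form_surj c h x00 1).elim fun u hu =>
        ⟨κ u, UCtx.mem_perp_pair.2 ⟨h.o1 _, h.o2 _⟩, by rw [hu]; exact one_ne_zero⟩)
      ((form_surj c h x0' 1).elim fun u hu =>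
        ⟨κ u, UCtx.mem_perp_pair.2 ⟨h.o1 _, h.o2 _⟩, by rw [hu]; exact one_ne_zero⟩)
    obtain ⟨d, hd⟩ := c.qf.invol.exists_trace_eq (c.symm y1 y1)
    have y5 : B y1 (κ x0) ≠ 0 := c.herm.toIsHermSymm.flip_ne_zero y3
    have y6 : B (y1 + (d / B y1 (κ x0)) • κ x0) (y1 + (d / B y1 (κ x0)) • κ x0) = 0 := by
      simp only [map_add, LinearMap.add_apply, sm_left, sm_right, k2, mul_zero, add_zero]
      rw [← c.symm y1 (κ x0), ← map_mul, div_mul_cancel₀ _ y5, ← hd]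
      change d + σ d + σ d + d = 0
      linear_combination (d + σ d) * c.qf.two
    refine k1 _ _ hx (h.o1 _) (k1 _ _ y6 ?_ k4 ?_) ?_
    · rw [map_add, sm_right, h.o1, (UCtx.mem_perp_pair.1 y2).1, mul_zero, add_zero]
    · rwa [map_add, LinearMap.add_apply, sm_left, k2, mul_zero, add_zero]
    · rwa [map_add, sm_right, h3, mul_zero, add_zero]
  rintro _ ⟨s, hs, rfl⟩
  refine ⟨s, ⟨fun x hx => ?_, fun x hx => ?_⟩, rfl⟩
  · obtain ⟨a, rfl⟩ := Submodule.mem_span_singleton.1 hx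
    rw [map_smul, fv s hs]
  · obtain ⟨w', h3⟩ := proj c h (mem_perp_span_singleton.1 hx)
    obtain ⟨w1, w2, e1, e2, rfl⟩ := add_iso c h w'
    have h4 : x + B v' x • v ∈ U := by rw [← h3, map_add]; exact add_mem (k5 _ e1) (k5 _ e2)
    exact (U.add_mem_iff_left (U.smul_mem _ vU)).1 h4 s hs

theorem perf (k : KitB i φ L) : ⁅YZ L (ZV i φ v), YZ L (ZV i φ v)⁆ = YZ L (ZV i φ v) := by
  refine le_antisymm (commutator_le.2 fun a ha b hb =>
    mul_mem (mul_mem (mul_mem ha hb) (inv_mem ha)) (inv_mem hb)) ?_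
  have QY : ∀ w d, d + σ d = B (κ w) (κ w) → EE φ v (κ w) d ∈ YZ L (ZV i φ v) := fun w d hd =>
    EE_YZ c h.pt.1 h.pt.1 (h.o1 w) hd h.pt.1 (c.flip (h.o1 w))
  have k1 : ∀ a, TT i φ v a ∈ ⁅YZ L (ZV i φ v), YZ L (ZV i φ v)⁆ := fun a => by
    obtain ⟨w, w0⟩ := exists_w c h
    obtain ⟨w', e⟩ := bf_surj c h w0 a
    obtain ⟨d, hd⟩ := c.qf.exists_tr (Qf w)
    obtain ⟨d', hd'⟩ := c.qf.exists_tr (Qf w')
    rw [h.qf] at hd hd'
    rw [← EE_com c h.pt.1 (h.o1 w) hd (h.o1 w') hd' (a := a) (by rw [← h.bf, e])]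
    exact commutator_mem_commutator (QY _ _ hd) (QY _ _ hd')
  have k2 : ∀ w, w ≠ 0 → B (κ w) (κ w) = 0 → ∀ a,
      TT i φ (κ w) a ∈ ⁅YZ L (ZV i φ v), YZ L (ZV i φ v)⁆ := fun w w0 hw a => by
    obtain ⟨x', h1, h2, h3⟩ := c.herm.toIsHermSymm.exists_hyperbolic_of_nondegOn
      (c.perp_pair h.pt.1 h.one).1 hw (fun e => w0 (h.inj (by rw [e, map_zero])))
      (UCtx.mem_perp_pair.2 ⟨h.o1 w, h.o2 w⟩)
    rcases c.dim with ⟨h4, -⟩ | ⟨-, h4⟩
    · obtain ⟨e, e0, e1⟩ : ∃ e : F, e ≠ 0 ∧ e ≠ 1 := by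
        by_contra k
        push Not at k
        have : Nat.card F ≤ Nat.card Bool := by
          classical
          refine Nat.card_le_card_of_injective (fun e => decide (e = 0)) fun a b e => ?_
          by_cases ha : a = 0 <;> by_cases hb : b = 0
          · rw [ha, hb]
          · simp [ha, hb] at e
          · simp [ha, hb] at e
          · rw [k a ha, k b hb]
        simp at this
        omega
      have v1 := (UCtx.mem_perp_pair.1 h1).1
      have e2 : i e ≠ 0 := by simpa using e0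
      obtain ⟨s1, a1, b1⟩ := c.tt hw e
      obtain ⟨s2, a2, b2⟩ := c.tt h2 e⁻¹
      obtain ⟨s3, a3, b3⟩ := c.tt hw 1
      obtain ⟨s4, a4, b4⟩ := c.tt h2 1
      have m : φ (s1 * s2 * s1 * s3 * s4) ∈ YZ L (ZV i φ v) := by
        simp only [map_mul, b1, b2, b3, b4]
        exact mul_mem (mul_mem (mul_mem (mul_mem (TT_YZ c h.pt.1 hw (h.o1 w) _)
          (TT_YZ c h.pt.1 h2 v1 _)) (TT_YZ c h.pt.1 hw (h.o1 w) _)) (TT_YZ c h.pt.1 hw (h.o1 w) _))
          (TT_YZ c h.pt.1 h2 v1 _)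
      have m1 : (s1 * s2 * s1 * s3 * s4).1 (κ w) = i e • κ w := by
        have t1 : s3.1 (s4.1 (κ w)) = x' := by
          rw [a4, c.flip1 h3, a3]
          simp only [map_one, map_add, mul_one, one_smul, hw, h3, zero_add]
          linear_combination (norm := module) c.add_self (κ w)
        have t2 : s2.1 (s1.1 x') = i e • κ w := by
          rw [a1, h3, a2]
          simp only [map_add, mul_one, h2, sm_right, c.flip1 h3, zero_add, map_inv₀,
            inv_mul_cancel₀ e2, one_smul]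
          linear_combination (norm := module) c.add_self x'
        rw [mul_app, mul_app, mul_app, mul_app, t1, t2, a1, sm_right, hw]
        simp
      have e3 : e * e + 1 ≠ 0 := fun k => e1 (eq_of_sub_eq_zero (pow_eq_zero_iff two_ne_zero |>.1
        (by linear_combination k - e * c.qf.twoF)))
      have m2 := commutator_mem_commutator m (TT_YZ c h.pt.1 hw (h.o1 w) (a / (e * e + 1)))
      rwa [commutatorElement_def, c.TT_conj _ hw, m1, UCtx.TT_smul _ (n := e * e)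
        (by rw [map_mul, c.qf.σ_i]), inv_eq_of_mul_eq_one_right (c.TT_sq hw _), ← c.TT_add hw,
        ← add_one_mul, mul_div_cancel₀ _ e3] at m2
    · have g1 := c.herm.toIsHermSymm.gram_hyperbolic hw h3
      have g2 := c.herm.toIsHermSymm.nondegOn_span_pair g1
      have g3 : Submodule.span E {κ w, x'} ≤ perp B (Submodule.span E {v, v'}) :=
        span_pair_le (UCtx.mem_perp_pair.2 ⟨h.o1 w, h.o2 w⟩) h1
      have g4 := c.herm.nondegOn_inf_perp g2 (c.perp_pair h.pt.1 h.one).1 g3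
      have g5 := c.herm.finrank_inf_perp g2 g3
      have g6 := (c.perp_pair h.pt.1 h.one).2
      rw [finrank_span_pair_of_gram g1] at g5
      obtain ⟨u, u1, u2, u3⟩ := c.herm.exists_isotropic g4 (by omega)
      obtain ⟨u', u4, u5, u6⟩ := c.herm.toIsHermSymm.exists_hyperbolic_of_nondegOn g4 u3 u2 u1
      obtain ⟨d, hd⟩ := c.qf.exists_tr a
      have o1 := (UCtx.mem_perp_pair.1 u1.2).1
      have o2 : B (κ w) (d • u') = 0 := by rw [sm_right, (UCtx.mem_perp_pair.1 u4.2).1, mul_zero]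
      have z1 : (0 : E) + σ 0 = B u u := by simp [u3]
      have z2 : (0 : E) + σ 0 = B (d • u') (d • u') := by rw [isotropic_smul u5]; simp
      rw [← EE_com c hw o1 z1 o2 z2 (a := a) (by rw [sm_right, u6, mul_one, hd])]
      exact commutator_mem_commutator
        (EE_YZ c h.pt.1 hw o1 z1 (c.flip (h.o1 w)) (c.flip (UCtx.mem_perp_pair.1 u1.1).1))
        (EE_YZ c h.pt.1 hw o2 z2 (c.flip (h.o1 w))
          (by rw [sm_left, c.flip (UCtx.mem_perp_pair.1 u4.1).1, mul_zero]))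
  conv_lhs => rw [k.ygen v h.pt]
  refine (closure_le _).2 ?_
  rintro _ ⟨x, hx, h1, a, rfl⟩
  obtain ⟨w, hw⟩ := proj c h h1
  have e : x = κ w + B v' x • v := by rw [hw, add_assoc, c.add_self, add_zero]
  rcases eq_or_ne w 0 with rfl | w0
  · obtain ⟨n, hn⟩ := c.qf.exists_norm (B v' x)
    rw [map_zero, zero_add] at e
    rw [e, UCtx.TT_smul v hn]
    exact k1 _
  have h2 : B (κ w) (κ w) = 0 := by
    rw [hw]; simp [hx, h1, c.flip h1, h.pt.1]
  obtain ⟨u, hu⟩ := form_surj c h w0 (σ (B v' x))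
  obtain ⟨d, hd⟩ := c.qf.exists_tr (Qf u)
  rw [h.qf] at hd
  obtain ⟨s, h3, e1⟩ := c.ee h.pt.1 (h.o1 u) hd
  have h4 : s.1 (κ w) = x := by
    rw [h3, h.o1, ← c.symm, hu, c.qf.sq]
    conv_rhs => rw [e]
    simp
  rw [← h4, SetLike.mem_coe, ← c.TT_conj s h2, e1]
  exact conj_mem (H := ⁅YZ L (ZV i φ v), YZ L (ZV i φ v)⁆)
    (normalizer_commutator_ge_left _ _ (QY _ _ hd)) (k2 w w0 h2 a)

end Cfsg.Agent.H28.U6.H22.UH
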