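import Mathlib
import Cfsg.Agent.H28.U6Defs
import Cfsg.Agent.H28.U6Kit0
import Cfsg.Agent.H79.InvolU
import Cfsg.Agent.H28.U6SI
import Cfsg.Agent.H31.HermStab

/-!
# The action of a graph involution of a unitary group near a fixed root group (piece E-MV)
-/

set_option autoImplicit false

namespace Cfsg.Agent.H28.U6.H14.UeMv

open Cfsg.Agent.H14

open Cfsg Cfsg.Agent.H63 Cfsg.Agent.H63.SL Cfsg.Agent.H34 Cfsg.Agent.H34.TW Cfsg.Agent.H34.UM
  Cfsg.Agent.H34.UE Cfsg.Agent.H31 Subgroup Module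
open Cfsg.Agent.H27.End (mem_C comm_of_C)
open scoped commutatorElement

universe u v

variable {F E V : Type v} [Field F] [Field E] [AddCommGroup V] [Module E V] {i : F →+* E}
  {σ : E ≃+* E} {B : V →ₛₗ[(σ : E →+* E)] V →ₗ[E] E} {G : Type u} [Group G] {φ : sisom B →* G}
  {L : Subgroup G} {t : G} {f : V ≃+ V}

theorem eq_of_phi (c : UCtx i φ L) {s s' : sisom B} (e : φ s = φ s') {v : V} (hv : v ≠ 0)
    (h : s.1 v = s'.1 v) : s = s' := by
  obtain ⟨d, -, hd⟩ := c.scal (s := s'⁻¹ * s) (by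
    rw [map_mul, map_inv, e, inv_mul_cancel]; exact one_mem _)
  have h1 := hd v
  rw [mul_app, h, inv_app] at h1
  have h2 : d = 1 := by
    have : (1 - d) • v = 0 := by rw [sub_smul, one_smul, ← h1, sub_self]
    exact (sub_eq_zero.1 ((smul_eq_zero.1 this).resolve_right hv)).symm
  exact (inv_mul_eq_one.1 (s_ext fun x => by rw [hd, h2, one_smul]; rfl)).symm

variable [FiniteDimensional E V]

theorem exists_fixed (c : UCtx i φ L) (g : Gr φ L t f) {W U : Submodule E V}
    (hW : ∀ x ∈ W, f x ∈ W) (h : finrank E U < finrank E W) : ∃ a ∈ W, f a = a ∧ a ∉ U := by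
  by_contra! e
  refine absurd (Submodule.finrank_mono fun x hx => ?_) h.not_ge
  obtain ⟨ω, hω⟩ := c.qf.tr
  have h1 : ∀ y ∈ W, y + f y ∈ U := fun y hy =>
    e _ (W.add_mem hy (hW y hy)) (by rw [map_add, g.ff, add_comm])
  have h2 := U.add_mem (h1 _ (W.smul_mem ω hx)) (U.smul_mem (ω + 1) (h1 x hx))
  rw [g.semi.smul, hω] at h2
  convert h2 using 1
  have h3 := c.add_self (ω • x + (ω + 1) • f x)
  linear_combination (norm := module) -h3

theorem exists_fam [Finite E] (c : UCtx i φ L) (g : Gr φ L t f) (d : ℕ) (hd : 2 * d ≤ finrank E V) :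
    ∃ u : Fin d → V, LinearIndependent E u ∧ (∀ j, f (u j) = u j) ∧ ∀ j k, B (u j) (u k) = 0 := by
  induction d with
  | zero => exact ⟨Fin.elim0, linearIndependent_empty_type, fun j => j.elim0, fun j => j.elim0⟩
  | succ d ih =>
    obtain ⟨u, h1, h2, h3⟩ := ih (by omega)
    have hS : finrank E (Submodule.span E (Set.range u)) = d := by
      rw [finrank_span_eq_card h1, Fintype.card_fin]
    have hP := c.herm.finrank_add_finrank_perp (Submodule.span E (Set.range u))
    have hW : ∀ x ∈ perp B (Submodule.span E (Set.range u)),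
        f x ∈ perp B (Submodule.span E (Set.range u)) := fun x hx =>
      mem_perp_span.2 (by
        rintro _ ⟨j, rfl⟩
        rw [← h2 j, g.semi.form, mem_perp_span.1 hx _ ⟨j, rfl⟩, map_zero])
    obtain ⟨x, hx, hf, hn, h0⟩ : ∃ x ∈ perp B (Submodule.span E (Set.range u)), f x = x ∧
        x ∉ Submodule.span E (Set.range u) ∧ B x x = 0 := by
      obtain ⟨a, ha, fa, na⟩ := exists_fixed c g hW (U := Submodule.span E (Set.range u)) (by omega)
      by_cases a0 : B a a = 0
      · exact ⟨a, ha, fa, na, a0⟩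
      obtain ⟨b, hb, fb, nb⟩ := exists_fixed c g hW
        (U := Submodule.span E (Set.range u) ⊔ E ∙ a) (by
          have h4 := Submodule.finrank_add_le_finrank_add_finrank
            (Submodule.span E (Set.range u)) (E ∙ a)
          have h5 : finrank E (E ∙ a) = 1 := finrank_span_singleton (by rintro rfl; simp at a0)
          omega)
      obtain ⟨α, hα⟩ := (c.qf.fix _).1 (c.symm a a)
      obtain ⟨β, hβ⟩ := (c.qf.fix _).1 (c.symm b b)
      obtain ⟨γ, hγ⟩ := c.qf.sqrt (β / α)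
      have hα0 : α ≠ 0 := by rintro rfl; exact a0 (by rw [hα, map_zero])
      have hab : B b a = B a b := by rw [← c.symm a b, ← g.semi.form, fa, fb]
      refine ⟨i γ • a + b, Submodule.add_mem _ (Submodule.smul_mem _ _ ha) hb, by
        rw [map_add, g.semi.smul, c.qf.σ_i, fa, fb], fun h => nb ?_, ?_⟩
      · have := Submodule.sub_mem _ (Submodule.mem_sup_left (T := E ∙ a) h)
          (Submodule.mem_sup_right (Submodule.smul_mem _ (i γ) (Submodule.mem_span_singleton_self a)))
        rwa [add_sub_cancel_left] at this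
      · have h6 : i γ ^ 2 * i α = i β := by
          rw [← map_pow, ← map_mul, hγ, div_mul_cancel₀ _ hα0]
        rw [add_left, map_add, map_add, sm_left, sm_left, sm_right, sm_right, c.qf.σ_i, hα, hβ, hab]
        linear_combination h6 + (i γ * B a b + i β) * c.qf.two
    refine ⟨Fin.cons x u, h1.finCons hn, fun j => ?_, fun j k => ?_⟩
    · exact Fin.cases hf h2 j
    · have h4 : ∀ k, B (u k) x = 0 := fun k => mem_perp_span.1 hx _ ⟨k, rfl⟩
      refine Fin.cases (Fin.cases h0 (fun k => c.flip (h4 k)) k) (fun j => ?_) j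
      exact Fin.cases (h4 j) (h3 j) k

theorem exists_inv [Finite E] (c : UCtx i φ L) (g : Gr φ L t f) (d : ℕ) (hd : 2 * d ≤ finrank E V) :
    ∃ s : sisom B, s * s = 1 ∧ H79.rk s.1 = d ∧ Commute t (φ s) := by
  obtain ⟨u, h1, h2, h3⟩ := exists_fam c g d hd
  let N : V →ₗ[E] V := ∑ j, (B (u j)).smulRight (u j)
  have hN : ∀ x, N x = ∑ j, B (u j) x • u j := fun x => by simp [N]
  have h4 : ∀ j x, B (u j) (N x) = 0 := fun j x => by simp [hN, h3]
  have h5 : ∀ x, N (N x) = 0 := fun x => by rw [hN]; simp [h4]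
  have h6 : ∀ x y, B (N x) y = B x (N y) := fun x y => by
    simp only [hN, map_sum, LinearMap.sum_apply, sm_left, sm_right, c.symm]
    exact Finset.sum_congr rfl fun j _ => mul_comm _ _
  have h7 : ∀ x, x + N x + N (x + N x) = x := fun x => by
    rw [map_add, h5, add_zero, add_assoc, c.add_self, add_zero]
  obtain ⟨s, hs⟩ := c.mk2 (1 + N) (fun x y => by
    simp only [LinearMap.add_apply, Module.End.one_apply, add_left, map_add, h6, h5, map_zero]
    linear_combination B x (N y) * c.qf.two) (k := 1) (LinearMap.ext fun x => by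
    rw [pow_one, sq]; exact h7 x)
  have hs' : ∀ x, s.1 x = x + N x := hs
  refine ⟨s, s_ext fun x => by rw [mul_app, hs', hs']; exact h7 x, ?_, ?_⟩
  · have e : H79.nil s.1 = N := LinearMap.ext fun x => by
      show s.1 x - x = N x
      rw [hs', add_sub_cancel_left]
    have e2 : LinearMap.ker N = perp B (Submodule.span E (Set.range u)) := by
      ext x
      rw [LinearMap.mem_ker, mem_perp_span, hN]
      refine ⟨fun h => ?_, fun h => Finset.sum_eq_zero fun j _ => by rw [h _ ⟨j, rfl⟩, zero_smul]⟩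
      rintro _ ⟨j, rfl⟩
      exact Fintype.linearIndependent_iff.1 h1 _ h j
    have h8 := N.finrank_range_add_finrank_ker
    have h9 := c.herm.finrank_add_finrank_perp (Submodule.span E (Set.range u))
    rw [finrank_span_eq_card h1, Fintype.card_fin, ← e2] at h9
    rw [H79.rk, e]; omega
  · obtain ⟨s', e1, e2⟩ := g.act s
    have : s' = s := s_ext fun y => by
      obtain ⟨x, rfl⟩ := f.surjective y
      rw [e1, hs', hs', map_add, hN, hN, map_sum]
      refine congrArg _ (Finset.sum_congr rfl fun j _ => ?_)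
      rw [g.semi.smul, ← g.semi.form, h2]
    exact mul_inv_eq_iff_eq_mul.1 (this ▸ e2)

theorem mv : MvStmt.{u, v} := by
  intro F E V _ _ _ _ _ _ _ _ i σ B G _ _ φ L c _ _ h6 t f g _
  obtain ⟨u, h1, h2, h3⟩ := exists_fam c g 3 h6
  obtain ⟨ω, hω⟩ := c.qf.tr
  have hli := Fintype.linearIndependent_iff.1 h1
  have hv : Pt B (u 0) := ⟨h3 0 0, h1.ne_zero 0⟩
  have hT : ∀ x, B x x = 0 → t * TT i φ x 1 * t⁻¹ = TT i φ (f x) 1 := fun x hx =>
    c.TT_act g.semi g.act hx (by simp)
  refine ⟨u 0, hv, mul_inv_eq_iff_eq_mul.1 (by rw [hT _ hv.1, h2]), ?_, ?_, fun j hj hj2 => ?_⟩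
  · have hx : B (u 1 + ω • u 2) (u 1 + ω • u 2) = 0 := by simp [h3]
    have hfx : f (u 1 + ω • u 2) = u 1 + (ω + 1) • u 2 := by
      rw [map_add, g.semi.smul, h2, h2, hω]
    have hx' : B (u 1 + (ω + 1) • u 2) (u 1 + (ω + 1) • u 2) = 0 := by
      simp only [map_add, LinearMap.add_apply, sm_left, sm_right, h3, mul_zero, add_zero]
    have hn : u 1 + ω • u 2 ∉ Submodule.span E {u 0, u 1 + (ω + 1) • u 2} := fun h => by
      obtain ⟨a, b, e⟩ := Submodule.mem_span_pair.1 h
      have h4 := hli ![a, b - 1, b * (ω + 1) - ω] (by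
        simp only [Fin.sum_univ_three, Matrix.cons_val_zero, Matrix.cons_val_one,
          Matrix.cons_val]
        linear_combination (norm := module) e)
      have h5 : b - 1 = 0 := h4 1
      have h7 : b * (ω + 1) - ω = 0 := h4 2
      exact one_ne_zero (α := E) (by linear_combination h7 - (ω + 1) * h5)
    obtain ⟨m, hm⟩ := c.trans hv (w := u 1 + ω • u 2) ⟨hx, fun e => hn (e ▸ Submodule.zero_mem _)⟩
    refine ⟨TT i φ (u 1 + ω • u 2) 1, ⟨⟨φ m, c.mem m, by rw [c.TT_conj m hv.1, hm]⟩,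
      mem_C fun z hz => ?_⟩, ?_⟩
    · obtain ⟨a, rfl⟩ := (c.mem_ZV hv.1).1 hz
      exact c.TT_comm hx hv.1 (by simp [h3]) _ _
    rw [hT _ hx, hfx]
    rintro ⟨r, hr, e⟩
    obtain ⟨s, hs, es⟩ := c.tt hx 1
    obtain ⟨s', hs', es'⟩ := c.tt hx' 1
    rw [← es, ← es', ← map_mul] at e
    have e1 := eq_of_phi c e hv.2 (by
      rw [hr.1 _ (Submodule.mem_span_singleton_self _), mul_app, hs', hs]
      simp only [map_add, LinearMap.add_apply, sm_left, sm_right, h3, mul_zero, add_zero,
        zero_smul])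
    obtain ⟨y, hy, hy0⟩ := c.herm.exists_perp_of_notMem hn
    have hy1 := mem_perp_span.1 hy
    have h4 := hr.2 y (mem_perp_span_singleton.2 (hy1 _ (by simp)))
    rw [e1, mul_app, hs', hy1 _ (by simp), mul_zero, zero_smul, add_zero, hs, add_sub_cancel_left,
      map_one, one_mul, Submodule.smul_mem_iff _ (c.herm.toIsHermSymm.flip_ne_zero hy0)] at h4
    exact hn (Submodule.span_mono (by simp) h4)
  · have hw : B (u 0) (ω • u 1) = 0 := by rw [sm_right, h3, mul_zero]
    have hw' : (0 : E) + σ 0 = B (ω • u 1) (ω • u 1) := by simp [h3]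
    have hz : (0 : E) + σ 0 = B (u 1) (u 1) := by simp [h3]
    refine ⟨EE φ (u 0) (ω • u 1) 0, (c.mem_QV hv).2 ⟨_, _, hw, hw', rfl⟩, fun h => ?_⟩
    have e : ⁅t, EE φ (u 0) (ω • u 1) 0⁆ = EE φ (u 0) (u 1) 0 := by
      rw [commutatorElement_def, c.EE_act g.semi g.act hv.1 hw hw', mul_inv_eq_iff_eq_mul,
        c.EE_mul hv.1 (h3 0 1) hz hw hw', g.semi.smul, h2, h2, hω, add_smul, one_smul, add_comm]
      simp [h3]
    rw [e] at h
    obtain ⟨a, ha⟩ := (c.mem_ZV hv.1).1 h
    obtain ⟨s, hs, es⟩ := c.ee hv.1 (h3 0 1) hz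
    obtain ⟨s', hs', es'⟩ := c.tt hv.1 a
    have e1 := eq_of_phi c (es.trans (ha.trans es'.symm)) hv.2 (by rw [hs, hs']; simp [h3])
    obtain ⟨v', -, hv'⟩ := c.hyp hv
    have h4 := hs v'
    rw [e1, hs', hv'] at h4
    have h5 := hli ![B (u 1) v' - i a, 1, 0] (by
      simp only [Fin.sum_univ_three, Matrix.cons_val_zero, Matrix.cons_val_one, Matrix.cons_val]
      linear_combination (norm := module) -h4) 1
    exact one_ne_zero (α := E) h5
  · obtain ⟨s, rfl, hs⟩ := H29.UmSI.lift2 c hj hj2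
    by_cases s1 : s.1 = 1
    · refine ⟨1, one_mem _, ?_⟩
      rw [show s = 1 from Subtype.ext s1, map_one, mul_one, mul_inv_cancel]
      exact Commute.one_right t
    obtain ⟨s', e1, e2, e3⟩ := exists_inv c g (H79.rk s.1)
      (c.herm.two_mul_finrank_le (H29.UmSI.tot_im c hs))
    obtain ⟨m, hm⟩ := isConj_iff.1 ((H79.isConj_sisom_iff c.qf.two c.herm s s'
      (congrArg Subtype.val hs) s1 (congrArg Subtype.val e1)).2 e2.symm)
    exact ⟨φ m, c.mem m, by rwa [← map_inv, ← map_mul, ← map_mul, hm]⟩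

end Cfsg.Agent.H28.U6.H14.UeMv
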