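import Mathlib
import Cfsg.Agent.H28.U6Cls
import Cfsg.Agent.H73.GraphForm
import Cfsg.Agent.H27.SympSimple

/-! Project UM: centralizers of outer involutions of a unitary group in characteristic two. -/

set_option autoImplicit false
set_option linter.unusedSectionVars false
set_option linter.style.haveILetI false

namespace Cfsg.Agent.H28.U6.H30.UmOut

open Cfsg.Agent.H30

open Cfsg Cfsg.Agent.H63 Cfsg.Agent.H63.SL Cfsg.Agent.H34 Cfsg.Agent.H34.TW Cfsg.Agent.H34.UM
  Cfsg.Agent.H31 Subgroup Module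
open Cfsg.Agent.H63.WR (cc)
open Cfsg.Agent.H28.U6.H67.UCls (split det_semi nontriv eq_σ semi_mul act_mul)
open Cfsg.Agent.H27 (isomGroup spOrder)
open Cfsg.Agent.H27.End (mem_C comm_of_C is2_of_sq)
open scoped commutatorElement

universe u v

theorem equiv_of_rel {A A' : Type*} [Group A] [Group A'] (R : A → A' → Prop)
    (h1 : ∀ a, ∃ b, R a b) (h2 : ∀ b, ∃ a, R a b) (u1 : ∀ a b b', R a b → R a b' → b = b')
    (u2 : ∀ a a' b, R a b → R a' b → a = a')
    (mul : ∀ a a' b b', R a b → R a' b' → R (a * a') (b * b')) : Nonempty (A ≃* A') := by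
  choose T hT using h1
  let T' : A →* A' := MonoidHom.mk' T fun a a' => u1 _ _ _ (hT _) (mul _ _ _ _ (hT a) (hT a'))
  refine ⟨MulEquiv.ofBijective T' ⟨fun a a' e => u2 _ _ _ (hT a) ?_, fun b => ?_⟩⟩
  · have e' : T a = T a' := e
    rw [e']; exact hT a'
  · obtain ⟨a, ha⟩ := h2 b
    exact ⟨a, u1 _ _ _ (hT a) ha⟩

/-! ### Arithmetic -/

theorem odd_prod {q : ℕ} (hq : Even q) (h0 : q ≠ 0) (l : ℕ) :
    ∃ r, Odd r ∧ spOrder q l = q ^ l ^ 2 * r := by
  refine ⟨_, ?_, rfl⟩
  refine Finset.prod_induction _ Odd (fun a b ha hb => ha.mul hb) odd_one fun j _ => ?_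
  exact Nat.Even.sub_odd (Nat.one_le_pow _ _ (Nat.pos_of_ne_zero h0))
    (hq.pow_of_ne_zero (by omega)) odd_one

theorem two_pow_fact {q k n r N : ℕ} (hq : q = 2 ^ k) (hr : Odd r) (h : N = q ^ n * r) :
    2 ^ N.factorization 2 = q ^ n := by
  have r0 : r ≠ 0 := by rintro rfl; simp at hr
  rw [h, hq, ← pow_mul, Nat.factorization_mul (by positivity) r0, Nat.Prime.factorization_pow
    Nat.prime_two, Finsupp.add_apply, Finsupp.single_eq_same,
    Nat.factorization_eq_zero_of_not_dvd (by rw [← even_iff_two_dvd]; simpa using hr), add_zero]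

theorem not_dvd_odd {p q : ℕ} (hp : p.Prime) (hq : Even q) (h : p ∣ q ^ 2 + 1) (j : ℕ) :
    ¬ p ∣ q ^ (2 * j + 1) + 1 := by
  intro k
  haveI := Fact.mk hp
  have h1 : (q : ZMod p) ^ 2 = -1 := by
    have := (ZMod.natCast_eq_zero_iff _ _).2 h
    push_cast at this
    linear_combination this
  have h2 : (q : ZMod p) ^ (2 * j + 1) = -1 := by
    have := (ZMod.natCast_eq_zero_iff _ _).2 k
    push_cast at this
    linear_combination this
  have h3 : ((q : ZMod p) ^ (2 * j + 1)) ^ 2 = -1 := by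
    rw [← pow_mul, mul_comm, pow_mul, h1, Odd.neg_one_pow ⟨j, rfl⟩]
  have h4 : ((2 : ℕ) : ZMod p) = 0 := by
    rw [h2] at h3
    push_cast
    linear_combination h3
  have h5 : p = 2 := (Nat.prime_dvd_prime_iff_eq hp Nat.prime_two).1
    ((ZMod.natCast_eq_zero_iff _ _).1 h4)
  subst h5
  have : Odd (q ^ 2 + 1) := (hq.pow_of_ne_zero two_ne_zero).add_one
  exact (Nat.not_even_iff_odd.2 this) (even_iff_two_dvd.2 h)

theorem not_dvd_q {p q : ℕ} (hp : p.Prime) (h : p ∣ q ^ 2 + 1) (j : ℕ) : ¬ p ∣ q ^ j := fun k =>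
  hp.one_lt.ne' (Nat.dvd_one.1 ((Nat.dvd_add_right
    (dvd_pow (hp.dvd_of_dvd_pow k) two_ne_zero)).1 h))

theorem ordGU_odd {p q : ℕ} (hp : p.Prime) (hq : Even q) (h : p ∣ q ^ 2 + 1) (l : ℕ) :
    ∃ r, ¬ p ∣ r ∧ ordGU q (2 * l + 1) = r * spOrder q l := by
  induction l with
  | zero =>
    refine ⟨q ^ (2 * 0 + 1) + 1, not_dvd_odd hp hq h 0, ?_⟩
    simp [ordGU, spOrder]
  | succ l ih =>
    obtain ⟨r, h1, h2⟩ := ih
    refine ⟨q ^ (2 * l + 2) * (q ^ (2 * (l + 1) + 1) + 1) * r, fun k => ?_, ?_⟩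
    · rcases hp.dvd_mul.1 k with k | k
      · rcases hp.dvd_mul.1 k with k | k
        · exact not_dvd_q hp h _ k
        · exact not_dvd_odd hp hq h _ k
      · exact h1 k
    · rw [show 2 * (l + 1) + 1 = 2 * l + 1 + 1 + 1 by ring, ordGU_succ, ordGU_succ, h2,
        H27.spOrder_succ, cN, cN, if_neg (by simp [parity_simps]), if_pos (by simp [parity_simps])]
      simp only [Nat.add_sub_cancel, show 2 * (l + 1) = 2 * l + 1 + 1 by ring]
      ring

theorem dvd_spOrder {q l : ℕ} (hl : 2 ≤ l) : q ^ 2 + 1 ∣ spOrder q l := by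
  refine Dvd.dvd.mul_left ((Dvd.intro (q ^ 2 - 1) ?_).trans
    (Finset.dvd_prod_of_mem _ (Finset.mem_range.2 (show 1 < l by omega)))) _
  rw [← Nat.sq_sub_sq, ← pow_mul, one_pow]

/-! ### The form over the fixed field -/

variable {F E V : Type v} [Field F] [Field E] [AddCommGroup V] [Module E V] {i : F →+* E}
  {σ : E ≃+* E} {B : V →ₛₗ[(σ : E →+* E)] V →ₗ[E] E} {G : Type u} [Group G] {φ : sisom B →* G}
  {L : Subgroup G} (c : UCtx i φ L) [FiniteDimensional E V] [Finite E]
include c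

section Form

variable {f : V ≃+ V} (hf : Semi B f σ) (ff : ∀ x, f (f x) = x)
include hf ff

theorem exists_emb : ∃ (b : Basis (Fin (finrank E V)) E V) (ε : (Fin (finrank E V) → F) →+ V),
    (∀ (a : F) w, ε (a • w) = i a • ε w) ∧ Function.Injective ε ∧
      (∀ x, f x = x ↔ ∃ w, ε w = x) ∧ ∀ j, ε (Pi.single j 1) = b j := by
  classical
  obtain ⟨ω, hω⟩ := c.qf.tr
  have hs : ⊤ ≤ Submodule.span E {v | f v = v} := fun v _ => by
    obtain ⟨a, b, ha, hb, rfl⟩ := split c hf ff hω v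
    exact add_mem (Submodule.subset_span ha) (Submodule.smul_mem _ _ (Submodule.subset_span hb))
  let b' := Basis.ofSpan hs
  have hb' : ∀ j, f (b' j) = b' j := fun j => Basis.ofSpan_subset hs ⟨j, rfl⟩
  haveI := FiniteDimensional.fintypeBasisIndex b'
  let b := b'.reindex (Fintype.equivFinOfCardEq (finrank_eq_card_basis b').symm)
  have hb : ∀ j, f (b j) = b j := fun j => by simp only [b, Basis.reindex_apply, hb']
  have e : ∀ v j, b.repr (f v) j = σ (b.repr v j) := fun v j => by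
    conv_lhs => rw [← b.sum_repr v, map_sum]
    simp only [hf.smul, hb, b.repr_sum_self]
  let ε : (Fin (finrank E V) → F) →+ V :=
    { toFun := fun w => ∑ j, i (w j) • b j
      map_zero' := by simp
      map_add' := fun w w' => by simp [add_smul, Finset.sum_add_distrib] }
  have hε : ∀ w j, b.repr (ε w) j = i (w j) := fun w j => by
    change b.repr (∑ j, i (w j) • b j) j = _
    simp only [b.repr_sum_self]
  refine ⟨b, ε, fun a w => b.ext_elem fun j => by simp [hε], fun w w' k => funext fun j =>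
    i.injective (by rw [← hε, ← hε, k]), fun x => ⟨fun h => ?_, ?_⟩,
    fun j => b.ext_elem fun k => ?_⟩
  · choose w hw using fun j => (c.qf.fix (b.repr x j)).1 (by rw [← e, h])
    exact ⟨w, b.ext_elem fun j => by rw [hε, hw]⟩
  · rintro ⟨w, rfl⟩
    exact b.ext_elem fun j => by rw [e, hε, c.qf.σ_i]
  · rw [hε, b.repr_self, Finsupp.single_apply, Pi.single_apply]
    by_cases h : k = j
    · simp [h]
    · simp [h, Ne.symm h]

theorem det_one {x : V ≃ₗ[E] V} (hx : x ∈ isom B) (h : ∀ v, x (f v) = f (x v)) : x ∈ sisom B := by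
  obtain ⟨ω, hω⟩ := c.qf.tr
  have e1 := det_semi c hf ff hω (y := x) (z := x) h
  have e2 := c.herm.det_norm hx
  rw [RingHom.coe_coe, ← e1] at e2
  exact mem_sisom'.2 ⟨hx, c.qf.eq_one_of_pow (k := 1) (by rw [pow_one, pow_two, e2])⟩

/-- The centralizer of a graph involution is the isometry group of a symmetric form. -/
theorem cent_iso [Finite V] {e : G} (ha : Act φ e f) :
    ∃ b0 : LinearMap.BilinForm F (Fin (finrank E V) → F), b0.IsSymm ∧ b0.Nondegenerate ∧
      Nonempty (isomGroup b0 ≃* ↥(L ⊓ C1[e])) := by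
  classical
  obtain ⟨b, ε, sm, inj, fix, sg⟩ := exists_emb c hf ff
  have fε : ∀ w, f (ε w) = ε w := fun w => (fix _).2 ⟨w, rfl⟩
  have fx : ∀ x y, σ (B (ε x) (ε y)) = B (ε x) (ε y) := fun x y => by rw [← hf.form, fε, fε]
  choose τ hτ using fun x y => (c.qf.fix _).1 (fx x y)
  let b0 : LinearMap.BilinForm F (Fin (finrank E V) → F) := LinearMap.mk₂ F τ
    (fun x y z => i.injective (by simp [← hτ]))
    (fun a x y => i.injective (by rw [smul_eq_mul, map_mul, ← hτ, ← hτ, sm, sm_left, c.qf.σ_i]))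
    (fun x y z => i.injective (by simp [← hτ]))
    (fun a x y => i.injective (by rw [smul_eq_mul, map_mul, ← hτ, ← hτ, sm, sm_right]))
  have hb : ∀ x y, i (b0 x y) = B (ε x) (ε y) := fun x y => (hτ x y).symm
  have hs : b0.IsSymm := ⟨fun x y => i.injective (by rw [hb, hb, ← c.symm, fx])⟩
  have nd : ∀ x, (∀ y, b0 x y = 0) → x = 0 := fun x hx => inj (by
    rw [map_zero]
    refine c.herm.nondeg _ fun v => ?_
    have : B (ε x) = 0 := b.ext fun j => by rw [← sg, ← hb, hx]; simp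
    simp [this])
  have ex : ∀ s s' : sisom B, (∀ w, s.1 (ε w) = s'.1 (ε w)) → s = s' := fun s s' h =>
    Subtype.ext (b.ext' fun j => by rw [← sg, h])
  have fb : ∀ v, f v = ∑ j, σ (b.repr v j) • b j := fun v => by
    conv_lhs => rw [← b.sum_repr v, map_sum]
    simp only [hf.smul, ← sg, fε]
  refine ⟨b0, hs, ⟨nd, fun x hx => nd x fun y => hs.isRefl _ _ (hx y)⟩,
    equiv_of_rel (fun g y => ∃ s : sisom B, φ s = y ∧ ∀ w, s.1 (ε w) = ε (g.1 w))
      (fun g => ?_) (fun y => ?_) ?_ ?_ ?_⟩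
  · let x : V →ₗ[E] V := b.constr E fun j => ε (g.1 (Pi.single j 1))
    have hx : ∀ j, x (b j) = ε (g.1 (Pi.single j 1)) := fun j => b.constr_basis E _ j
    have iso : ∀ v w, B (x v) (x w) = B v w := fun v w => by
      have : ∀ j k, B (x (b j)) (x (b k)) = B (b j) (b k) := fun j k => by
        rw [hx, hx, ← hb, g.2, hb, sg, sg]
      rw [← b.sum_repr v, ← b.sum_repr w]
      simp only [map_sum, map_smul, LinearMap.sum_apply, sm_left, this]
    have hi : Function.Injective x := (injective_iff_map_eq_zero x).2 fun v hv =>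
      c.herm.nondeg v fun y => by rw [← iso, hv]; simp
    have xf : ∀ v, x (f v) = f (x v) := fun v => by
      conv_rhs => rw [← b.sum_repr v]
      simp only [fb v, map_sum, map_smul, hf.smul, hx, fε]
    let s : sisom B := ⟨LinearEquiv.ofInjectiveEndo x hi, det_one c hf ff iso xf⟩
    refine ⟨⟨φ s, c.mem s, mem_centralizer_singleton_iff.2 ?_⟩, s, rfl, fun w => ?_⟩
    · obtain ⟨s', e1, e2⟩ := ha s
      have : s' = s := s_ext fun v => by
        obtain ⟨v, rfl⟩ := f.surjective v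
        rw [e1]; exact (xf v).symm
      rw [this] at e2
      exact (mul_inv_eq_iff_eq_mul.1 e2).symm
    · change x (ε w) = _
      conv_lhs => rw [← Finset.univ_sum_single w]
      conv_rhs => rw [← Finset.univ_sum_single w]
      simp only [map_sum]
      refine Finset.sum_congr rfl fun j _ => ?_
      rw [show (Pi.single j (w j) : Fin (finrank E V) → F) = w j • Pi.single j 1 by
        rw [← Pi.single_smul, smul_eq_mul, mul_one], sm, map_smul, map_smul, sm, sg, hx]
  · obtain ⟨s, hs⟩ := c.surj y.2.1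
    obtain ⟨s', e1, e2⟩ := ha s
    have e3 : φ (s' * s⁻¹) = 1 := by
      rw [map_mul, map_inv, ← e2, hs, ← mem_centralizer_singleton_iff.1 y.2.2]; group
    obtain ⟨d, d1, d2⟩ := c.scal (s := s' * s⁻¹) (e3 ▸ one_mem _)
    obtain ⟨n, hn⟩ : Even (Nat.card E) := by
      rw [c.qf.card]; exact c.qf.even_card.pow_of_ne_zero two_ne_zero
    have d3 : d ^ n * d ^ n = d := by
      haveI := Fintype.ofFinite E
      rw [← pow_add, ← hn, Nat.card_eq_fintype_card, FiniteField.pow_card]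
    have d4 : ∀ k x, ((s' * s⁻¹) ^ k).1 x = d ^ k • x := fun k => by
      induction k with
      | zero => simp
      | succ k ih => intro x; rw [pow_succ, mul_app, ih, d2, smul_smul, pow_succ]
    let t := (s' * s⁻¹) ^ n * s
    have tf : ∀ v, t.1 (f v) = f (t.1 v) := fun v => by
      have := d2 (s.1 (f v))
      rw [mul_app, inv_app, e1] at this
      rw [mul_app, mul_app, d4, d4, hf.smul, this, smul_smul, map_pow]
      congr 1
      have d5 : d ^ n * σ d ^ n = 1 := by rw [← mul_pow, d1, one_pow]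
      linear_combination σ d ^ n * d3 - d ^ n * d5
    choose g hg using fun w => (fix (t.1 (ε w))).1 (by rw [← tf, fε])
    let g' : (Fin (finrank E V) → F) →ₗ[F] (Fin (finrank E V) → F) :=
      { toFun := g
        map_add' := fun w w' => inj (by simp only [map_add, hg])
        map_smul' := fun a w => inj (by simp only [RingHom.id_apply, sm, hg, map_smul]) }
    have hi : Function.Injective g' := fun w w' k => inj (t.1.injective (by
      rw [← hg, ← hg]; exact congrArg ε k))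
    refine ⟨⟨LinearEquiv.ofInjectiveEndo g' hi, fun w w' => i.injective ?_⟩, t, ?_,
      fun w => (hg w).symm⟩
    · change i (b0 (g w) (g w')) = _
      rw [hb, hb, hg, hg, iso_map]
    · rw [map_mul, map_pow, e3, one_pow, one_mul, hs]
  · rintro g y y' ⟨s, h1, h2⟩ ⟨s', h1', h2'⟩
    exact Subtype.ext (by rw [← h1, ← h1', ex s s' fun w => by rw [h2, h2']])
  · rintro g g' y ⟨s, h1, h2⟩ ⟨s', h1', h2'⟩
    obtain ⟨d, d1, d2⟩ := c.scal (s := s' * s⁻¹) (by
      rw [map_mul, map_inv, h1, h1', mul_inv_cancel]; exact one_mem _)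
    have d3 : ∀ w, ε (g'.1 w) = d • ε (g.1 w) := fun w => by rw [← h2, ← d2, mul_app, inv_app, h2']
    let j : Fin (finrank E V) := ⟨0, by have := c.four; omega⟩
    have d4 := fε (g'.1 (g.1.symm (Pi.single j 1)))
    rw [d3, hf.smul, fε, LinearEquiv.apply_symm_apply, sg] at d4
    have d5 : σ d = d := smul_left_injective E (b.ne_zero j) d4
    have d6 : d = 1 := c.qf.eq_one_of_pow (k := 1) (by rw [pow_one, pow_two, ← d1, d5])
    exact Subtype.ext (LinearEquiv.ext fun w => inj (by rw [d3, d6, one_smul]))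
  · rintro g g' y y' ⟨s, h1, h2⟩ ⟨s', h1', h2'⟩
    exact ⟨s * s', by rw [map_mul, h1, h1']; rfl, fun w => by rw [mul_app, h2', h2]; rfl⟩

end Form

theorem graph (K : KitA i φ L) {e : G} (he : e ∈ N[L]) (h2 : Is2 e) (ee : e * e ∈ C[L])
    (hn : e ∉ L ⊔ C[L]) : ∃ f, Semi B f σ ∧ (∀ x, f (f x) = x) ∧ Act φ e f := by
  obtain ⟨f, θ, hf, ha⟩ := c.mod.ext e he
  have e1 : θ ≠ RingEquiv.refl E := fun e1 => by
    obtain ⟨ψ, h1, h3⟩ := K.out
    obtain ⟨m, hm, h4⟩ := h3 ⟨e, he⟩ ((h1 _ f θ hf ha).trans e1)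
    obtain ⟨k, hk⟩ := h2
    exact hn ((zpowers_le.2 h4 : zpowers (e ^ m) ≤ _) (mem_zpowers_pow_iff.2
      (Nat.Coprime.coprime_dvd_right (orderOf_dvd_of_pow_eq_one hk)
        ((Nat.coprime_two_right.2 hm).pow_right k))))
  obtain ⟨e2, d, d1, d2⟩ := H67.UCls.scal c K ee (semi_mul hf hf) (act_mul ha ha)
  obtain rfl := eq_σ c (fun a => DFunLike.congr_fun e2 a) e1
  obtain ⟨x0, y0, e0⟩ := nontriv c
  have x00 : x0 ≠ 0 := fun e => by simp [e] at e0
  have d3 : ∀ x, f (f x) = d • x := d2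
  have d4 : θ d = d := smul_left_injective E (f.map_ne_zero_iff.2 x00) (by
    simp only [← hf.smul, ← d3])
  have d5 : d = 1 := c.qf.eq_one_of_pow (k := 1) (by rw [pow_one, pow_two, ← d1, d4])
  exact ⟨f, hf, by simp [d3, d5], ha⟩

theorem not_dvd [Finite G] {p : ℕ} (hp : p.Prime) (h : p ∣ Nat.card F ^ 2 + 1) {H : Type*} [Group H]
    [Finite H] (k : ∀ x : H, x ^ (Nat.card F + 1) = 1) : ¬ p ∣ Nat.card H := fun h1 => by
  haveI := Fact.mk hp
  obtain ⟨x, hx⟩ := exists_prime_orderOf_dvd_card' p h1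
  exact not_dvd_odd hp c.qf.even_card h 0 (by
    simpa [hx] using orderOf_dvd_of_pow_eq_one (k x))

end Cfsg.Agent.H28.U6.H30.UmOut
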