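import Mathlib
import Cfsg.Agent.H56.ZCKit
import Cfsg.Agent.H21.FsCL

/-! Normal 2-subgroups of a minimal non-solvable member of `Cn` are central. -/

set_option autoImplicit false

namespace Cfsg.Agent.H28.ZCHol

open Subgroup Cfsg.Agent.H56.FS Cfsg.Agent.H56.ZC
open scoped commutatorElement

universe u

theorem solv2 {G : Type*} [Group G] (K : Subgroup G) [K.Normal] (hK : Group.IsSolvable K)
    (h : derivedSeries G 2 ≤ K) : Group.IsSolvable G := by
  have : Group.IsSolvable (G ⧸ K) := ⟨⟨2, by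
    rw [← map_derivedSeries_eq (QuotientGroup.mk'_surjective K), Subgroup.map_eq_bot_iff,
      QuotientGroup.ker_mk']
    exact h⟩⟩
  exact Group.isSolvable_of_ker_le_range K.subtype (QuotientGroup.mk' K) (by simp)

theorem exists_C {G : Type*} [Group G] (W : Subgroup G) [W.Normal] :
    ∃ C : Subgroup G, C.Normal ∧ ∀ g, g ∈ C ↔ ∀ w ∈ W, ⁅g, w⁆ ∈ center G := by
  have : (W.map (QuotientGroup.mk' (center G))).Normal :=
    Normal.map inferInstance _ (QuotientGroup.mk'_surjective _)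
  have k : ∀ g w : G, ⁅g, w⁆ ∈ center G ↔
      QuotientGroup.mk' (center G) w * QuotientGroup.mk' (center G) g =
      QuotientGroup.mk' (center G) g * QuotientGroup.mk' (center G) w := fun g w => by
    rw [eq_comm, ← commutatorElement_eq_one_iff_mul_comm, ← map_commutatorElement,
      ← MonoidHom.mem_ker, QuotientGroup.ker_mk']
  refine ⟨(centralizer (W.map (QuotientGroup.mk' (center G)) : Set _)).comap
    (QuotientGroup.mk' (center G)), inferInstance, fun g => ⟨fun h w hw => ?_, fun h => ?_⟩⟩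
  · exact (k g w).2 (h _ ⟨w, hw, rfl⟩)
  · rintro _ ⟨w, hw, rfl⟩
    exact (k g w).1 (h w hw)

theorem hol (h1 : Hol1Stmt.{u}) (s : SubStmt.{u}) : HolStmt.{u} := by
  intro G _ _ p D h W0 n0 p0
  by_contra c0
  obtain ⟨W, ⟨nW, pW, cW⟩, mW⟩ := (wellFounded_lt (α := Subgroup G)).has_min
    {W : Subgroup G | W.Normal ∧ IsPGroup 2 W ∧ ¬ W ≤ center G} ⟨W0, n0, p0, c0⟩
  have mn : ∀ M : Subgroup G, M.Normal → M < W → M ≤ center G := fun M nM l => by
    by_contra c
    exact mW M ⟨nM, pW.to_le l.le, c⟩ l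
  obtain ⟨A, hA, w, hw, ne⟩ : ∃ A ∈ D, ∃ w ∈ W, cj w A ≠ A := by
    by_contra! c
    refine cW fun w hw => ?_
    have : sSup D ≤ Ce w := sSup_le fun A hA =>
      le_Ce_iff.2 (h.eps A hA (cj_eq_iff.1 (c A hA w hw)))
    rw [h.gen] at this
    exact mem_center_iff.2 fun g => mem_Ce.1 (this (mem_top g))
  obtain ⟨C, nC, hC⟩ := exists_C W
  have hl : Cl2 p 2 D := h.toCn.toCl2
  have cA := hl.toBs2.comm hA
  have gc : ∀ K : Subgroup G, K.Normal → K ⊔ A = ⊤ → ⁅(⊤ : Subgroup G), (⊤ : Subgroup G)⁆ ≤ K :=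
    fun K nK e => e ▸ Cfsg.Agent.H21.FsCL.comm_sup_le
      (by rw [normalizer_eq_top]; exact le_top) cA
  have g1 : C ⊔ A = ⊤ := by
    rw [eq_top_iff, ← h.gen]
    refine sSup_le fun B hB b hb => ?_
    obtain ⟨g, -, rfl⟩ := hl.conj_pt_pair hA hB
    have ha := mem_cj.1 hb
    have := (hC _).2 (h1 G p D h W nW pW cW mn A hA _ ha g)
    have := mul_mem (mem_sup_left (T := A) this) (mem_sup_right ha)
    simpa [mul_assoc] using this
  have cw : ⁅C, W⁆ ≤ center G := commutator_le.2 fun g hg => (hC g).1 hg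
  have cw' : ⁅⁅C, W⁆, C⁆ = ⊥ :=
    commutator_eq_bot_iff_le_centralizer.2 (cw.trans (center_le_centralizer _))
  have kw : ⁅C, C⁆ ≤ centralizer (W : Set G) := commutator_eq_bot_iff_le_centralizer.1
    (commutator_commutator_eq_bot_of_rotate cw' (commutator_comm C W ▸ cw'))
  have g2 := gc _ inferInstance (s G p D h ⁅C, C⁆ inferInstance (fun hs => h.nsol
    (solv2 _ hs (commutator_mono (gc C nC g1) (gc C nC g1)))) A hA)
  have l : A ⊔ cj w A ≤ (W ⊓ ⁅C, C⁆) ⊔ A := by
    refine sup_le le_sup_right fun b hb => ?_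
    have ha := mem_cj.1 hb
    have m : ⁅w, w⁻¹ * b * w⁆ ∈ W ⊓ ⁅C, C⁆ :=
      ⟨commutator_le_left W ⊤ (commutator_mem_commutator hw (mem_top _)),
        g2 (commutator_mem_commutator (mem_top _) (mem_top _))⟩
    have := mul_mem (mem_sup_left (T := A) m) (mem_sup_right ha)
    simpa [commutatorElement_def, mul_assoc] using this
  have l2 := (commutator_mono l l).trans (Cfsg.Agent.H21.FsCL.comm_sup_le
    (by rw [normalizer_eq_top]; exact le_top) cA)
  exact h.na A hA _ (hl.inv A hA w) ne.symm ⟨⟨fun x y => Subtype.ext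
    (kw (l2 y.2).2 x (l2 x.2).1)⟩⟩

end Cfsg.Agent.H28.ZCHol
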